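import Cfsg.Agent.SB.Cl.Cent_m3
import Cfsg.Agent.DS.Cl.Inv_m3
import Cfsg.Agent.H277.FC.SN
import Cfsg.Agent.Classification.SimpleIndex
import Cfsg.Agent.ClassicalGeometry.WittQuad
import Cfsg.Agent.ClassicalGeometry.DiagNormal
import Cfsg.Agent.H324.FC.Fld
import Cfsg.Agent.ClassicalGeometry.InvolutiveNorm
import Mathlib
import Cfsg.Agent.H716.FC.TwoMain
import Cfsg.Agent.H710.FC.COdd
import Cfsg.Agent.TAB.F22.FxB_m3
import Cfsg.Agent.DS.Cl.Main
import Cfsg.Agent.H193.QuadEmb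
import Cfsg.Agent.H88.FC.ThreeOdd_mg
import Cfsg.Agent.LieClassical.SympCount
import Cfsg.Agent.Nodes.SimplyLaced
import Cfsg.Agent.Nodes.RGDChev
import Cfsg.Agent.Lib.ListFast
import Cfsg.Agent.FastGrp
import Cfsg.Agent.Prune
set_option linter.all false

section
prune_inst 0x7f00000000000000000000000000000000000000000000000000000000000000000000000000000000000000000000000000000000000000000000000000000000000000000000000000000000000000003fffffffffffffffffffffffffffbeffbdffffffff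

section
prune_inst 0xfdeffffffdffffdfff7fffafdedffdfdbfbfffe6dffdcbffe0edff5bdf5b82cdc52ba58ffa59fe1fd76a34d4f87b53fbffffffea6ffc7ffffdfff41ffbffcffdf7b50851dd8cb40fbc0ffe03f0778e7f000000000000000000000000000000000200000000

-- part: SB/Tor/Semi
section
set_option linter.all false
open scoped Cfsg.Agent.FastGrp

/-!
# S5765, classical groups: tools for frames (helper90)

* `St F D` : the stabiliser of a finite set; `exists_conj` : conjugators in `T · St`; `good_of_four`.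
* `SL h γ` : an automorphism of `h.EB` commuting with `star` is induced by a semisimilitude (`exists_SL`).
* `qr h κ v` : quasi-reflections and transvections `x ↦ x - κ b(x, v) v`.
-/

set_option autoImplicit false
set_option linter.unusedSectionVars false

namespace Cfsg.Agent.SB.Tor

open Cfsg Cfsg.Agent.DS.Cl Cfsg.Agent.DS.Cl.Fwd Module
open scoped commutatorElement

section ring

variable {A : Type} [Ring A] [StarRing A]

/-- the stabiliser of a finite set -/
def St (F : FR A) (D : Finset A) : Subgroup (RingAut A) where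
  carrier := {γ | γ ∈ F.Aut ∧ ∀ e, e ∈ D ↔ γ e ∈ D}
  mul_mem' := by
    rintro γ δ ⟨hγ, h1⟩ ⟨hδ, h2⟩
    exact ⟨mul_mem hγ hδ, fun e => (h2 e).trans (h1 _)⟩
  one_mem' := ⟨one_mem _, fun _ => Iff.rfl⟩
  inv_mem' := by
    rintro γ ⟨hγ, h1⟩
    exact ⟨inv_mem hγ, fun e => by rw [h1 (γ⁻¹ e), ra_apply_inv]⟩

variable {F : FR A} {D : Finset A} {S : Subgroup (RingAut A)}

theorem St.aut {γ : RingAut A} (h : γ ∈ St F D) : γ ∈ F.Aut := h.1

theorem St.mem {γ : RingAut A} (h : γ ∈ St F D) {e : A} (he : e ∈ D) : γ e ∈ D := (h.2 e).1 he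

theorem le_St (h1 : S ≤ F.Aut) (h2 : Inv S D) : S ≤ St F D := fun γ hγ =>
  ⟨h1 hγ, fun e => ⟨h2 γ hγ e, fun he => by
    have h3 := h2 γ⁻¹ (inv_mem hγ) _ he
    rwa [ra_inv_apply] at h3⟩⟩

theorem mem_St_of_fix {γ : RingAut A} (h1 : γ ∈ F.Aut) (h2 : ∀ e ∈ D, γ e = e) : γ ∈ St F D :=
  ⟨h1, fun e => ⟨fun he => by rwa [h2 e he], fun he => by rwa [← γ.injective (h2 _ he)]⟩⟩

theorem cj_mem_St {u : Aˣ} (hu : u ∈ F.Iso) (h : ∀ e ∈ D, (u : A) * e = e * u) : cj A u ∈ St F D :=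
  mem_St_of_fix (FR.cj_mem_Aut hu) fun e he => cj_eq_of_mul (h e he)

/-- the linear automorphisms fixing every member of `D` -/
def Nt (F : FR A) (D : Finset A) : Subgroup (RingAut A) where
  carrier := {γ | γ ∈ F.Aut ∧ γ ∈ Lin A ∧ ∀ e ∈ D, γ e = e}
  mul_mem' := by
    rintro γ δ ⟨hγ, h0, h1⟩ ⟨hδ, h0', h2⟩
    exact ⟨mul_mem hγ hδ, mul_mem h0 h0', fun e he => by rw [ra_mul, h2 e he, h1 e he]⟩
  one_mem' := ⟨one_mem _, one_mem _, fun _ _ => rfl⟩
  inv_mem' := by
    rintro γ ⟨hγ, h0, h1⟩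
    exact ⟨inv_mem hγ, inv_mem h0, fun e he => by
      conv_lhs => rw [← h1 e he]
      exact ra_inv_apply γ e⟩

theorem Nt_le : Nt F D ≤ St F D := fun _ h => mem_St_of_fix h.1 h.2.2

theorem Nt_conj : ∀ s ∈ St F D, ∀ v ∈ Nt F D, s * v * s⁻¹ ∈ Nt F D := fun s hs v hv =>
  ⟨mul_mem (mul_mem hs.1 hv.1) (inv_mem hs.1), Lin_conj hv.2.1 s, fun e he => by
    rw [ra_mul, ra_mul, hv.2.2 _ (St.mem (inv_mem hs) he), ra_apply_inv]⟩

theorem cj_mem_Nt {u : Aˣ} (hu : u ∈ F.Iso) (h : ∀ e ∈ D, (u : A) * e = e * u) : cj A u ∈ Nt F D :=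
  ⟨FR.cj_mem_Aut hu, cj_mem_Lin u, fun e he => cj_eq_of_mul (h e he)⟩

/-- a conjugate of an element of `S` lies in `T S` -/
theorem exists_conj {g k : Aˣ} (hg : g ∈ F.Iso) (hk : k ∈ F.Iso) (hS : cj A k ∈ S) :
    ∃ x ∈ F.S, ∀ s, x⁻¹ * s * x ∈ S → (cj A (g * k * g⁻¹))⁻¹ * s * cj A (g * k * g⁻¹) ∈ S := by
  refine ⟨cj A ⁅g, k⁆, ⟨_, Subgroup.commutator_mem_commutator hg hk, rfl⟩, fun s hs => ?_⟩
  have h1 := mul_mem (mul_mem (inv_mem hS) hs) hS
  have e : cj A (g * k * g⁻¹) = cj A ⁅g, k⁆ * cj A k := by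
    rw [← map_mul, commutatorElement_def, inv_mul_cancel_right]
  rw [e]
  simpa only [mul_inv_rev, mul_assoc] using h1

theorem seven_le [Finite A] (H : Cl.Ctx F S) : 7 ≤ S.relIndex F.S := by
  have := H.simple
  have hfin : Finite (RingAut A) := Finite.of_injective (fun γ : RingAut A => (γ : A → A)) DFunLike.coe_injective
  have h1 : S.subgroupOf F.S ≠ ⊤ := by
    intro h
    have hle : F.S ≤ S := Subgroup.subgroupOf_eq_top.1 h
    have := H.solv
    exact H.noncomm ⟨⟨IsSimpleGroup.comm_iff_isSolvable.2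
      (Group.isSolvable_of_isSolvable_injective (f := Subgroup.inclusion hle) (Subgroup.inclusion_injective hle))⟩⟩
  have h2 := Classification.SimpleIndex.two_mul_card_dvd_factorial_index H.noncomm _ h1
  by_contra h3
  have h4 : (S.subgroupOf F.S).index ≤ 6 := Nat.lt_succ_iff.1 (not_le.1 h3)
  have h5 := (Nat.le_of_dvd (Nat.factorial_pos _) h2).trans (Nat.factorial_le h4)
  have h6 := H.big
  have h7 : Nat.factorial 6 = 720 := rfl
  omega

theorem good_of_four [Finite A] (H : Cl.Ctx F S) {S' : Subgroup (RingAut A)} (hS : S ≤ S') (h : Four F.S S') :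
    Good F.S S := Or.inr (seven_of_four (h.mono hS) (seven_le H))

/-- the trick with two elements -/
theorem four_of_trick' {S N : Subgroup (RingAut A)} (hS : S ≤ F.Aut) (hNS : N ≤ S)
    (hNn : ∀ s ∈ S, ∀ v ∈ N, s * v * s⁻¹ ∈ N) {x : RingAut A} (hx : x ∈ F.S)
    (hxN : ∀ v ∈ N, x⁻¹ * v * x ∈ S → v = 1) {v₁ v₂ : RingAut A} (h1 : v₁ ∈ N) (h2 : v₂ ∈ N)
    (hD : ∀ k ∈ S, k * v₁ * k⁻¹ = v₁ → k * v₂ * k⁻¹ = v₂ → k ∈ N) : Four F.S S :=
  ⟨x, hx, v₁ * x * v₁⁻¹, FR.conj_mem_S (hS (hNS h1)) hx, v₂ * x * v₂⁻¹, FR.conj_mem_S (hS (hNS h2)) hx,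
    fun s hs a0 a1 a2 => hxN s
      (hD s hs (trick_key hNS hNn hxN h1 h1 hs a0 a1) (trick_key hNS hNn hxN h2 h2 hs a0 a2)) a0⟩

/-- four members -/
theorem exists_four (h : D.card = 4) : ∃ e : Fin 4 → A, Function.Injective e ∧ ∀ a, a ∈ D ↔ ∃ i, e i = a := by
  let f := (D.equivFinOfCardEq h).symm
  refine ⟨fun i => f i, fun i j hij => f.injective (Subtype.ext hij), fun a => ⟨fun ha => ?_, ?_⟩⟩
  · exact ⟨f.symm ⟨a, ha⟩, by simp⟩
  · rintro ⟨i, rfl⟩
    exact (f i).2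

theorem exists_perm {e : Fin 4 → A} (he : Function.Injective e) (hD : ∀ a, a ∈ D ↔ ∃ i, e i = a) {γ : RingAut A}
    (hγ : γ ∈ St F D) : ∃ π : Fin 4 → Fin 4, Function.Injective π ∧ ∀ i, γ (e i) = e (π i) := by
  choose π hπ using fun i => (hD _).1 (St.mem hγ ((hD _).2 ⟨i, rfl⟩))
  exact ⟨π, fun i j hij => he (γ.injective (by rw [← hπ, ← hπ, hij])), fun i => (hπ i).symm⟩

end ring

section semi

variable {K V : Type} [Field K] [Finite K] [AddCommGroup V] [Module K V] [Finite V] (h : HF K V)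

/-- a semisimilitude inducing `γ` -/
structure SL (γ : RingAut h.EB) where
  /-- the field automorphism -/
  σ : K ≃+* K
  /-- the map -/
  g : V ≃+ V
  /-- the multiplier -/
  μ : K
  smul : ∀ (a : K) v, g (a • v) = σ a • g v
  conj : ∀ a v, h.ap (γ a) (g v) = g (h.ap a v)
  μ_ne : μ ≠ 0
  form : ∀ u v, h.b (g u) (g v) = μ * σ (h.b u v)

theorem exists_SL [Nontrivial V] {γ : RingAut h.EB} (hγ : γ ∈ SAut h.EB) : Nonempty (SL h γ) := by
  have : Module.Finite K V := Module.Finite.of_finite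
  obtain ⟨σ, g, hg, hc⟩ := H277.FC.exists_semilinear (K := K) (V := V) (W := V) γ
  have hc' : ∀ a v, h.ap (γ a) (g v) = g (h.ap a v) := hc
  let B : V → V →ₗ[K] K := fun v =>
    { toFun := fun u => σ.symm (h.b (g u) (g v))
      map_add' := fun u u' => by rw [map_add, h.add_left, map_add]
      map_smul' := fun c u => by rw [hg, h.smul_left, map_mul, σ.symm_apply_apply]; rfl }
  choose T hT using fun v => h.exists_rep (B v)
  have hT' : ∀ u v, h.b u (T v) = σ.symm (h.b (g u) (g v)) := fun u v => hT v u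
  have hcm : ∀ (a : h.EB) v, T (h.ap a v) = h.ap a (T v) := fun a v => h.ext_right fun u => by
    rw [hT', ← hc', ← h.star_b, ← hγ, hc', ← hT', h.star_b]
  let T' : End K V :=
    { toFun := T
      map_add' := fun v v' => h.ext_right fun u => by rw [h.add_right, hT', hT', hT', map_add, h.add_right, map_add]
      map_smul' := fun c v => hcm (h.eb (c • 1)) v }
  obtain ⟨c, hc1⟩ := H277.FC.exists_smul_one T' fun Y => LinearMap.ext fun v => hcm (h.eb Y) v
  have h1 : ∀ u v, h.b (g u) (g v) = σ (h.τ c) * σ (h.b u v) := fun u v => by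
    have h2 : T v = c • v := LinearMap.congr_fun hc1 v
    rw [← map_mul, ← h.smul_right, ← h2, hT', σ.apply_symm_apply]
  refine ⟨⟨σ, g, σ (h.τ c), hg, hc', fun h0 => ?_, h1⟩⟩
  obtain ⟨v, hv⟩ := exists_ne (0 : V)
  obtain ⟨u, hu⟩ := h.exists_ne hv
  obtain ⟨v, rfl⟩ := g.surjective v
  obtain ⟨u, rfl⟩ := g.surjective u
  rw [h1, h0, zero_mul] at hu
  exact hu rfl

omit [Finite K] [Finite V] in
theorem ap_sc (c : K) (v : V) : h.ap (h.eb (c • 1)) v = c • v := rfl

omit [Finite K] [Finite V] in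
theorem ap_zero (v : V) : h.ap 0 v = 0 := rfl

omit [Finite K] in
theorem exists_sc [Nontrivial V] {z : h.EB} (hz : z ∈ Subring.center h.EB) : ∃ c : K, ∀ v, h.ap z v = c • v := by
  have : Module.Finite K V := Module.Finite.of_finite
  obtain ⟨c, hc⟩ := H277.FC.exists_smul_one (K := K) (h.ap z) fun Y => (cen_comm hz (h.eb Y)).symm
  exact ⟨c, fun v => LinearMap.congr_fun hc v⟩

namespace SL

variable {h} {γ : RingAut h.EB} (L : SL h γ)

theorem tau [Nontrivial V] (c : K) : h.τ (L.σ c) = L.σ (h.τ c) := by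
  obtain ⟨v, hv⟩ := exists_ne (0 : V)
  obtain ⟨u, hu⟩ := h.exists_ne hv
  have h1 := L.form u (c • v)
  rw [L.smul, h.smul_right, h.smul_right, L.form, map_mul] at h1
  have h2 : L.μ * L.σ (h.b u v) ≠ 0 := mul_ne_zero L.μ_ne (by simpa using hu)
  apply mul_right_cancel₀ h2
  rw [h1]
  ring

theorem sigma_of_Lin [Nontrivial V] (hγ : γ ∈ Lin h.EB) (c : K) : L.σ c = c := by
  obtain ⟨v, hv⟩ := exists_ne (0 : V)
  obtain ⟨v, rfl⟩ := L.g.surjective v
  have h1 := L.conj (h.eb (c • 1)) v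
  rw [hγ _ (h.smul_mem_center c), ap_sc, ap_sc, L.smul] at h1
  exact (smul_left_injective K hv h1).symm

theorem mem_Lin [Nontrivial V] (hσ : ∀ c, L.σ c = c) : γ ∈ Lin h.EB := by
  intro z hz
  obtain ⟨c, hc⟩ := exists_sc h hz
  apply h.ap_ext
  intro v
  obtain ⟨v, rfl⟩ := L.g.surjective v
  rw [L.conj, hc, hc, L.smul, hσ]

theorem eq_one {c : K} (hc : ∀ v, L.g v = c • v) : γ = 1 := by
  ext a
  apply h.ap_ext
  intro v
  obtain ⟨v, rfl⟩ := L.g.surjective v
  rw [L.conj, hc, hc, ra_one, map_smul]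

theorem map_fix {a : h.EB} {v : V} (hv : h.ap a v = v) : h.ap (γ a) (L.g v) = L.g v := by rw [L.conj, hv]

end SL

omit [Finite K] in
theorem finrank_le_sum {D : Finset h.EB} (hD : ∑ e ∈ D, e = 1) : finrank K V ≤ ∑ e ∈ D, Cl.rk h e := by
  have : Module.Finite K V := Module.Finite.of_finite
  let f : V →ₗ[K] (∀ e : D, LinearMap.range (h.ap e)) := LinearMap.pi fun e => (h.ap e).rangeRestrict
  have hf : Function.Injective f := by
    rw [injective_iff_map_eq_zero]
    intro v hv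
    have h1 : h.ap (∑ e ∈ D, e) v = ∑ e ∈ D, h.ap e v := LinearMap.sum_apply D (fun e => h.ap e) v
    rw [hD, h.ap_one] at h1
    rw [h1]
    exact Finset.sum_eq_zero fun e he => congrArg Subtype.val (congrFun hv ⟨e, he⟩)
  have h2 := LinearMap.finrank_le_finrank_of_injective hf
  rw [Module.finrank_pi_fintype] at h2
  rw [← Finset.sum_coe_sort]
  exact h2

omit [Finite K] in
theorem card_four {D : Finset h.EB} (hD : ∑ e ∈ D, e = 1) {d : ℕ} (hd : 0 < d) (hV : finrank K V = 4 * d)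
    (hM : Cl.Many (Cl.rk h) D d) : D.card = 4 := by
  refine hM.1.resolve_left fun h3 => ?_
  have h1 := finrank_le_sum h hD
  rw [Finset.sum_congr rfl hM.2, Finset.sum_const, h3, smul_eq_mul] at h1
  omega

/-- the unit of an isometric endomorphism -/
noncomputable def isoU (a : h.EB) (ha : ∀ x y, h.b (h.ap a x) (h.ap a y) = h.b x y) : h.EBˣ :=
  mkU a (mul_eq_one_comm.1 (h.ap_ext fun y => h.ext_right fun x => by rw [h.ap_mul, h.b_star, ha, h.ap_one]))

theorem isoU_val (a : h.EB) (ha : ∀ x y, h.b (h.ap a x) (h.ap a y) = h.b x y) : (isoU h a ha : h.EB) = a := rfl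

theorem isoU_ms (a : h.EB) (ha : ∀ x y, h.b (h.ap a x) (h.ap a y) = h.b x y) :
    (isoU h a ha : h.EB) * star (isoU h a ha : h.EB) = 1 := (h.unit_iff _).2 ha

omit [Finite K] [Finite V] in
theorem ap_inv_ap (u : h.EBˣ) (v : V) : h.ap (u⁻¹ : h.EBˣ) (h.ap u v) = v := by
  rw [← h.ap_mul, Units.inv_mul, h.ap_one]

omit [Finite K] [Finite V] in
theorem ap_ap_inv (u : h.EBˣ) (v : V) : h.ap u (h.ap (u⁻¹ : h.EBˣ) v) = v := by
  rw [← h.ap_mul, Units.mul_inv, h.ap_one]

/-- quasi-reflections -/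
def qr (κ : K) (v : V) : h.EB := 1 - h.eb (κ • h.ro v v)

omit [Finite K] [Finite V] in
theorem ap_qr (κ : K) (v x : V) : h.ap (qr h κ v) x = x - (κ * h.b x v) • v := by
  rw [qr, h.ap_sub, h.ap_one, h.ap_eb, LinearMap.smul_apply, h.ro_apply, smul_smul]

omit [Finite K] [Finite V] in
theorem qr_form (hε : h.ε = 1) {κ : K} {v : V} (hκ : κ + h.τ κ = κ * h.τ κ * h.b v v) (x y : V) :
    h.b (h.ap (qr h κ v) x) (h.ap (qr h κ v) y) = h.b x y := by
  rw [ap_qr, ap_qr, h.sub_left, h.sub_right, h.sub_right, h.smul_left, h.smul_left, h.smul_right, h.smul_right,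
    h.swap y v, hε, map_mul]
  linear_combination (-(h.b x v * h.τ (h.b y v))) * hκ

theorem qr_comm {D : Finset h.EB} (hD : Fr D) {e : h.EB} (he : e ∈ D) {w : V} (hw : h.ap e w = w) (κ : K) :
    ∀ e' ∈ D, qr h κ w * e' = e' * qr h κ w := by
  intro e' he'
  apply h.ap_ext
  intro x
  rw [h.ap_mul, h.ap_mul, ap_qr, ap_qr, map_sub, map_smul, ← h.b_star, hD.symm e' he']
  by_cases hee : e' = e
  · rw [hee, hw]
  · rw [← hw, ← h.ap_mul, hD.orth e' he' e he hee, ap_zero, h.zero_right, mul_zero, zero_smul, smul_zero]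

theorem qr_conj {u : h.EBˣ} (hu : (u : h.EB) * star (u : h.EB) = 1) (κ : K) (w : V) :
    (u : h.EB) * qr h κ w * (u⁻¹ : h.EBˣ) = qr h κ (h.ap u w) := by
  apply h.ap_ext
  intro x
  rw [h.ap_mul, h.ap_mul, ap_qr, ap_qr, map_sub, map_smul, ap_ap_inv, ← (h.unit_iff u).1 hu, ap_ap_inv]

theorem SL.map_qr {γ : RingAut h.EB} (L : SL h γ) (κ : K) (w : V) :
    γ (qr h κ w) = qr h (L.σ κ / L.μ) (L.g w) := by
  apply h.ap_ext
  intro x
  obtain ⟨x, rfl⟩ := L.g.surjective x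
  rw [L.conj, ap_qr, ap_qr, map_sub, L.smul, L.form, map_mul]
  congr 2
  have := L.μ_ne
  field_simp

theorem Fr.b_eq_zero {D : Finset h.EB} (hD : Fr D) {e e' : h.EB} (he : e ∈ D) (he' : e' ∈ D) (hee : e ≠ e') {v w : V}
    (hv : h.ap e v = v) (hw : h.ap e' w = w) : h.b v w = 0 := by
  rw [← hv, ← hw, ← h.b_star, hD.symm e he, ← h.ap_mul, hD.orth e he e' he' hee, ap_zero, h.zero_right]

theorem Fr.ap_eq_zero {D : Finset h.EB} (hD : Fr D) {e e' : h.EB} (he : e ∈ D) (he' : e' ∈ D) (hee : e ≠ e') {w : V}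
    (hw : h.ap e' w = w) : h.ap e w = 0 := by
  rw [← hw, ← h.ap_mul, hD.orth e he e' he' hee, ap_zero]

/-- the form is non-degenerate on a block -/
theorem Fr.exists_ne {D : Finset h.EB} (hD : Fr D) {e : h.EB} (he : e ∈ D) {v : V} (hv : h.ap e v = v) (h0 : v ≠ 0) :
    ∃ u, h.ap e u = u ∧ h.b u v ≠ 0 := by
  obtain ⟨u, hu⟩ := h.exists_ne h0
  refine ⟨h.ap e u, by rw [← h.ap_mul, hD.idem e he], ?_⟩
  rwa [← h.b_star, hD.symm e he, hv]

end semi

end Cfsg.Agent.SB.Tor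

private theorem dce_0acbdef7b367 : _root_.True := by
  try have : _root_.True := by simp only [_root_.Cfsg.Agent.SB.Tor.qr.eq_1]
  exact _root_.True.intro
end

-- part: SB/Tor/Refl
section
prune_inst 0x21000000000000000800000002000000000001020003000000000800004040222d44a600002000020800000008000040000000000028000000000800000000000000000001000000000000000000000000000000000000000000000000000000000000000
set_option linter.all false
open scoped Cfsg.Agent.FastGrp

/-!
# S5765, classical groups: rank one conjugators, orthogonal groups (helper90)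

* `fix_line` (LA1) : if all blocks have rank at least two, `v` has three non-zero components and `r = qr κ v`, then every
  element of `St ∩ St ^ r` fixes the line of `v`.
* `mem_Iso_O`, `SL.quad`, `exists_refl` : orthogonal groups.
-/

set_option autoImplicit false
set_option linter.unusedSectionVars false

namespace Cfsg.Agent.SB.Tor

open Cfsg Cfsg.Agent.DS.Cl Cfsg.Agent.DS.Cl.Fwd Module QuadraticMap

variable {K V : Type} [Field K] [Finite K] [AddCommGroup V] [Module K V] [Finite V] {h : HF K V}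

/-- two independent vectors -/
def Ind (K : Type) {V : Type} [Field K] [AddCommGroup V] [Module K V] (x y : V) : Prop :=
  ∀ a b : K, a • x + b • y = 0 → a = 0 ∧ b = 0

theorem Ind.symm {x y : V} (H : Ind K x y) : Ind K y x := fun a b hab => (H b a (by rwa [add_comm])).symm

theorem Ind.left_ne {x y : V} (H : Ind K x y) : x ≠ 0 := fun h0 =>
  one_ne_zero (H 1 0 (by rw [h0, smul_zero, zero_smul, add_zero])).1

theorem Ind.right_ne {x y : V} (H : Ind K x y) : y ≠ 0 := H.symm.left_ne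

theorem Ind.add_ne {x y : V} (H : Ind K x y) : x + y ≠ 0 := fun h0 =>
  one_ne_zero (H 1 1 (by rwa [one_smul, one_smul])).1

theorem ind_of_ne {x y : V} (hx : x ≠ 0) (hy : ∀ c : K, y ≠ c • x) : Ind K x y := by
  intro a b hab
  have hb : b = 0 := by
    by_contra hb
    refine hy (-(b⁻¹ * a)) ?_
    rw [neg_smul, mul_smul, eq_neg_of_add_eq_zero_left hab, smul_neg, neg_neg, smul_smul, inv_mul_cancel₀ hb, one_smul]
  rw [hb, zero_smul, add_zero] at hab
  exact ⟨(smul_eq_zero.1 hab).resolve_right hx, hb⟩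

theorem Ind.add_right {x y : V} (H : Ind K x y) (t : K) : Ind K x (y + t • x) := by
  intro a b hab
  have h1 := H (a + b * t) b (by rw [← hab]; module)
  rw [h1.2, zero_mul, add_zero] at h1
  exact ⟨h1.1, by simpa using (H (a + b * t) b (by rw [← hab]; module)).2⟩

theorem Ind.map {x y : V} (H : Ind K x y) (u : h.EBˣ) : Ind K (h.ap u x) (h.ap u y) := fun a b hab => H a b (by
  have h1 := congrArg (h.ap (u⁻¹ : h.EBˣ)) hab
  rwa [map_add, map_smul, map_smul, ap_inv_ap, ap_inv_ap, map_zero] at h1)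

theorem exists_sep {v v' : V} (H : ∀ c : K, v ≠ c • v') : ∃ y, h.b y v' = 0 ∧ h.b y v ≠ 0 := by
  by_contra hcon
  push Not at hcon
  by_cases h0 : v' = 0
  · exact H 0 (by rw [zero_smul]; exact h.nondeg v fun u => hcon u (by rw [h0, h.zero_right]))
  obtain ⟨z, hz⟩ := h.exists_ne h0
  refine H (h.τ (h.b z v / h.b z v')) (h.ext_right fun u => ?_)
  have h1 := hcon (u - (h.b u v' / h.b z v') • z) (by rw [h.sub_left, h.smul_left, div_mul_cancel₀ _ hz, sub_self])
  rw [h.sub_left, h.smul_left, sub_eq_zero] at h1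
  rw [h.smul_right, h.τ_τ, h1]
  ring

/-- `v` has three non-zero components -/
def Three (h : HF K V) (D : Finset h.EB) (v : V) : Prop :=
  ∃ e₁ ∈ D, ∃ e₂ ∈ D, ∃ e₃ ∈ D, e₁ ≠ e₂ ∧ e₁ ≠ e₃ ∧ e₂ ≠ e₃ ∧ h.ap e₁ v ≠ 0 ∧ h.ap e₂ v ≠ 0 ∧ h.ap e₃ v ≠ 0

/-- all blocks have rank at least two -/
def Big (h : HF K V) (D : Finset h.EB) : Prop := ∀ e ∈ D, ∃ x y, h.ap e x = x ∧ h.ap e y = y ∧ Ind K x y

theorem Three.ne {D : Finset h.EB} {v : V} (H : Three h D v) : v ≠ 0 := by
  obtain ⟨e, -, -, -, -, -, -, -, -, h1, -⟩ := H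
  rintro rfl
  exact h1 (map_zero _)

theorem la0 {D : Finset h.EB} (hD : Fr D) (hB : Big h D) {v v' : V} (h3 : Three h D v) {w : h.EBˣ}
    (hw : ∀ e ∈ D, cj h.EB w e ∈ D) (h1 : ∀ x, ∃ a b : K, h.ap w x - x = a • v + b • v')
    (h2 : ∃ x, h.ap w x - x = v) : False := by
  obtain ⟨e₁, m₁, e₂, m₂, e₃, m₃, n12, n13, n23, z₁, z₂, z₃⟩ := h3
  have hmv : ∀ e x, h.ap e x = x → h.ap (cj h.EB w e) (h.ap w x) = h.ap w x := fun e x hx => by
    rw [← h.ap_mul, cj_mul_eq, h.ap_mul, hx]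
  by_cases hfix : ∀ e ∈ D, cj h.EB w e = e
  · obtain ⟨x, hx⟩ := h2
    have h4 : ∀ e ∈ D, ∃ a b : K, h.ap e v = a • v + b • v' := fun e he => by
      obtain ⟨a, b, hab⟩ := h1 (h.ap e x)
      refine ⟨a, b, ?_⟩
      rw [← hab, ← hx, map_sub, ← h.ap_mul, ← h.ap_mul, ← cj_mul_eq, hfix e he]
    obtain ⟨a₁, b₁, h5⟩ := h4 e₁ m₁
    obtain ⟨a₂, b₂, h6⟩ := h4 e₂ m₂
    have i₁ : h.ap e₁ (h.ap e₁ v) = h.ap e₁ v := by rw [← h.ap_mul, hD.idem _ m₁]
    have i₂ : h.ap e₂ (h.ap e₂ v) = h.ap e₂ v := by rw [← h.ap_mul, hD.idem _ m₂]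
    have h7 : b₂ • h.ap e₁ v - b₁ • h.ap e₂ v = (a₁ * b₂ - a₂ * b₁) • v := by rw [h5, h6]; module
    have h8 := congrArg (h.ap e₃) h7
    rw [map_sub, map_smul, map_smul, map_smul, Fr.ap_eq_zero h hD m₃ m₁ n13.symm i₁,
      Fr.ap_eq_zero h hD m₃ m₂ n23.symm i₂, smul_zero, smul_zero, sub_zero] at h8
    rw [(smul_eq_zero.1 h8.symm).resolve_right z₃, zero_smul] at h7
    have h9 := congrArg (h.ap e₂) h7
    rw [map_sub, map_smul, map_smul, map_zero, Fr.ap_eq_zero h hD m₂ m₁ n12.symm i₁, i₂, smul_zero, zero_sub,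
      neg_eq_zero] at h9
    rw [(smul_eq_zero.1 h9).resolve_right z₂, zero_smul, add_zero] at h5
    have h10 := congrArg (h.ap e₂) h5
    rw [map_smul, Fr.ap_eq_zero h hD m₂ m₁ n12.symm i₁] at h10
    rw [(smul_eq_zero.1 h10.symm).resolve_right z₂, zero_smul] at h5
    exact z₁ h5
  push Not at hfix
  obtain ⟨e, he, hne⟩ := hfix
  obtain ⟨f, hf, hfe, hfe', hfv⟩ : ∃ f ∈ D, f ≠ e ∧ f ≠ cj h.EB w e ∧ h.ap f v ≠ 0 := by
    by_cases c₁ : e₁ ≠ e ∧ e₁ ≠ cj h.EB w e
    · exact ⟨e₁, m₁, c₁.1, c₁.2, z₁⟩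
    by_cases c₂ : e₂ ≠ e ∧ e₂ ≠ cj h.EB w e
    · exact ⟨e₂, m₂, c₂.1, c₂.2, z₂⟩
    rw [not_and_or, not_not, not_not] at c₁ c₂
    refine ⟨e₃, m₃, ?_, ?_, z₃⟩
    · rintro rfl
      exact n12 ((c₁.resolve_left n13).trans (c₂.resolve_left n23).symm)
    · rintro rfl
      exact n12 ((c₁.resolve_right n13).trans (c₂.resolve_right n23).symm)
  obtain ⟨x, y, hx, hy, hxy⟩ := hB e he
  obtain ⟨a₁, b₁, h5⟩ := h1 x
  obtain ⟨a₂, b₂, h6⟩ := h1 y
  have k₁ : ∀ z, h.ap e z = z → h.ap f (h.ap w z - z) = 0 := fun z hz => by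
    rw [map_sub, Fr.ap_eq_zero h hD hf he hfe hz, Fr.ap_eq_zero h hD hf (hw e he) hfe' (hmv e z hz), sub_zero]
  have k₂ : ∀ z, h.ap e z = z → h.ap e (h.ap w z - z) = -z := fun z hz => by
    rw [map_sub, Fr.ap_eq_zero h hD he (hw e he) hne.symm (hmv e z hz), hz, zero_sub]
  have h7 : b₂ • (h.ap w x - x) - b₁ • (h.ap w y - y) = (a₁ * b₂ - a₂ * b₁) • v := by rw [h5, h6]; module
  have h8 := congrArg (h.ap f) h7
  rw [map_sub, map_smul, map_smul, map_smul, k₁ x hx, k₁ y hy, smul_zero, smul_zero, sub_zero] at h8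
  rw [(smul_eq_zero.1 h8.symm).resolve_right hfv, zero_smul] at h7
  have h9 := congrArg (h.ap e) h7
  rw [map_sub, map_smul, map_smul, map_zero, k₂ x hx, k₂ y hy] at h9
  rw [(hxy (-b₂) b₁ (by rw [← h9]; module)).2, zero_smul, add_zero] at h5
  have h10 := congrArg (h.ap f) h5
  rw [k₁ x hx, map_smul] at h10
  rw [(smul_eq_zero.1 h10.symm).resolve_right hfv, zero_smul] at h5
  have h11 := k₂ x hx
  rw [h5, map_zero] at h11
  exact hxy.left_ne (neg_eq_zero.1 h11.symm)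

/-- **LA1** -/
theorem fix_line {F : FR h.EB} {D : Finset h.EB} (hD : Fr D) (hB : Big h D) {v : V} (h3 : Three h D v) {κ : K}
    (hκ : κ ≠ 0) {r : h.EBˣ} (hr : (r : h.EB) = qr h κ v) {γ : RingAut h.EB} (h1 : γ ∈ St F D)
    (h2 : (cj h.EB r)⁻¹ * γ * cj h.EB r ∈ St F D) (L : SL h γ) : ∃ c : K, L.g v = c • v := by
  by_contra hcon
  push Not at hcon
  have h4 : ∀ c : K, v ≠ c • L.g v := fun c hc => by
    have hc0 : c ≠ 0 := by
      rintro rfl
      exact h3.ne (by rw [hc, zero_smul])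
    exact hcon c⁻¹ (by conv_rhs => rw [hc, smul_smul, inv_mul_cancel₀ hc0, one_smul])
  have h5 : cj h.EB (r⁻¹ * um γ r) ∈ St F D := by
    rw [map_mul, map_inv, ← conj_cj]
    simpa only [mul_assoc] using mul_mem h2 (inv_mem h1)
  have h6 : ∀ x, h.ap (r⁻¹ * um γ r : h.EBˣ) x - x = (κ * h.b (h.ap (r⁻¹ * um γ r : h.EBˣ) x) v) • v +
      (-(L.σ κ / L.μ * h.b x (L.g v))) • L.g v := fun x => by
    have h7 : h.ap r (h.ap (r⁻¹ * um γ r : h.EBˣ) x) = h.ap (γ r) x := by
      rw [Units.val_mul, h.ap_mul, ap_ap_inv, um_val]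
    rw [hr, L.map_qr, ap_qr, ap_qr, sub_eq_iff_eq_add] at h7
    conv_lhs => rw [h7]
    module
  refine la0 hD hB h3 (fun e he => St.mem h5 he) (fun x => ⟨_, _, h6 x⟩) ?_
  obtain ⟨y, hy, hy'⟩ := exists_sep (h := h) h4
  have h7 := h6 y
  rw [hy, mul_zero, neg_zero, zero_smul, add_zero] at h7
  have h8 : κ * h.b (h.ap (r⁻¹ * um γ r : h.EBˣ) y) v ≠ 0 := fun h0 => by
    rw [h0, zero_smul, sub_eq_zero] at h7
    rw [h7] at h0
    exact mul_ne_zero hκ hy' h0
  exact ⟨(κ * h.b (h.ap (r⁻¹ * um γ r : h.EBˣ) y) v)⁻¹ • y, by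
    rw [map_smul, ← smul_sub, h7, smul_smul, inv_mul_cancel₀ h8, one_smul]⟩

section blocks

variable {e : h.EB}

theorem exists_ind (h2 : 2 ≤ Cl.rk h e) (he : e * e = e) {x : V} (hx : x ≠ 0) : ∃ y, h.ap e y = y ∧ Ind K x y := by
  by_contra hcon
  push Not at hcon
  have h1 : LinearMap.range (h.ap e) ≤ Submodule.span K {x} := by
    rintro _ ⟨y, rfl⟩
    by_contra hy
    refine hcon (h.ap e y) (by rw [← h.ap_mul, he]) (ind_of_ne hx fun c hc => hy ?_)
    rw [hc]
    exact Submodule.smul_mem _ _ (Submodule.mem_span_singleton_self x)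
  have h3 := Submodule.finrank_mono h1
  rw [finrank_span_singleton hx] at h3
  exact absurd (h2.trans h3) (by decide)

theorem exists_fix (he : e * e = e) (h0 : e ≠ 0) : ∃ x, h.ap e x = x ∧ x ≠ 0 := by
  by_contra hcon
  push Not at hcon
  exact h0 (h.ap_ext fun v => hcon _ (by rw [← h.ap_mul, he]))

theorem big_of {D : Finset h.EB} (hD : Fr D) (h2 : ∀ e ∈ D, 2 ≤ Cl.rk h e) : Big h D := fun e he => by
  obtain ⟨x, hx, hx0⟩ := exists_fix (hD.idem e he) (hD.ne e he)
  obtain ⟨y, hy, hxy⟩ := exists_ind (h2 e he) (hD.idem e he) hx0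
  exact ⟨x, y, hx, hy, hxy⟩

theorem span_two (h2 : Cl.rk h e = 2) {x y : V} (hx : h.ap e x = x) (hy : h.ap e y = y) (hxy : Ind K x y) {z : V}
    (hz : h.ap e z = z) : ∃ a b : K, a • x + b • y = z := by
  have : Module.Finite K V := Module.Finite.of_finite
  have h1 : Submodule.span K (Set.range ![x, y]) ≤ LinearMap.range (h.ap e) := by
    rw [Submodule.span_le]
    rintro _ ⟨i, rfl⟩
    fin_cases i
    exacts [⟨x, hx⟩, ⟨y, hy⟩]
  have h3 := finrank_span_eq_card (LinearIndependent.pair_iff.2 hxy)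
  have h4 := Submodule.eq_of_le_of_finrank_eq h1 (h3.trans h2.symm)
  have h5 : z ∈ Submodule.span K (Set.range ![x, y]) := h4 ▸ ⟨z, hz⟩
  rw [Matrix.range_cons, Matrix.range_cons, Matrix.range_empty, Set.union_empty, Set.singleton_union] at h5
  exact Submodule.mem_span_pair.1 h5

end blocks

section orth

variable {F : FR h.EB} {Q : QuadraticForm K V} (hO : Cl.IsO h F Q)
include hO

theorem O_symm (u v : V) : h.b u v = h.b v u := by rw [hO.2.1, hO.2.1, polar_comm]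

theorem O_add (u v : V) : Q (u + v) = Q u + Q v + h.b u v := by rw [hO.2.1]; exact QuadraticMap.map_add Q u v

theorem O_self (u : V) : h.b u u = 2 * Q u := by rw [hO.2.1, polar_self, two_smul, two_mul]

theorem O_eps [Nontrivial V] : h.ε = 1 := by
  obtain ⟨v, hv⟩ := exists_ne (0 : V)
  obtain ⟨u, hu⟩ := h.exists_ne hv
  have h1 := h.swap u v
  rw [hO.1, O_symm hO v u] at h1
  exact mul_right_cancel₀ hu (by rw [← h1, one_mul])

theorem mem_L_O (x : h.EB) : x ∈ F.L ↔ ∀ v, h.b v (h.ap x v) = 0 := by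
  have : Module.Finite K V := Module.Finite.of_finite
  rw [hO.2.2.1]
  constructor
  · rintro ⟨a, rfl⟩ v
    rw [h.ap_sub, h.sub_right, h.b_star, O_symm hO v, sub_self]
  · intro H
    obtain ⟨β, hβ⟩ := exists_half ((polarBilin Q).compl₂ (h.ap x)) fun v => by
      rw [← H v, hO.2.1]; rfl
    obtain ⟨a, ha⟩ := h.exists_op hO.1 β
    refine ⟨a, h.ap_ext fun v => h.ext_right fun u => ?_⟩
    rw [h.ap_sub, h.sub_right, h.b_star, ha, O_symm hO (h.ap a u), ha, hβ, hO.2.1]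
    rfl

theorem SL.quad {γ : RingAut h.EB} (L : SL h γ) (hγ : γ ∈ F.Aut) (v : V) : Q (L.g v) = L.μ * L.σ (Q v) := by
  have h1 := (mem_L_O hO _).1 hγ.2 (L.g v)
  rw [h.ap_sub, h.sub_right, L.conj, L.form, hO.2.2.2, hO.2.2.2, sub_eq_zero] at h1
  exact h1.symm

theorem mem_Iso_O (u : h.EBˣ) : u ∈ F.Iso ↔ ∀ v, Q (h.ap u v) = Q v := by
  have key : (u : h.EB) * star (u : h.EB) = 1 → ∀ v,
      h.b (h.ap u v) (h.ap (u * F.l * star (u : h.EB) - F.l) (h.ap u v)) = Q v - Q (h.ap u v) := fun hu v => by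
    rw [h.ap_sub, h.sub_right, h.ap_mul, h.ap_mul, ← star_eq_inv hu, ap_inv_ap, (h.unit_iff u).1 hu, hO.2.2.2,
      hO.2.2.2]
  constructor
  · intro hu v
    have h1 := (mem_L_O hO _).1 hu.2 (h.ap u v)
    rw [key hu.1, sub_eq_zero] at h1
    exact h1.symm
  · intro H
    have h1 : (u : h.EB) * star (u : h.EB) = 1 := (h.unit_iff u).2 fun x y => by
      have h2 := O_add hO (h.ap u x) (h.ap u y)
      rw [← map_add, H, H, H, O_add hO] at h2
      exact (add_left_cancel h2).symm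
    refine ⟨h1, (mem_L_O hO _).2 fun v => ?_⟩
    rw [← ap_ap_inv h u v, key h1, H, sub_self]

theorem witt_O {x y : V} (hx : x ≠ 0) (hy : y ≠ 0) (hxy : Q x = Q y) : ∃ u ∈ F.Iso, h.ap u x = y := by
  have : Module.Finite K V := Module.Finite.of_finite
  have h1 : ∀ v, (∀ u, polarBilin Q u v = 0) → v = 0 := fun v hv => h.nondeg v fun u => by
    rw [hO.2.1]; exact hv u
  obtain ⟨g, hg, -, hgx⟩ := ClassicalGeometry.WittQuad.step Q
    ⟨fun v hv => h1 v fun u => (polar_comm Q u v).trans (hv u), h1⟩ ⊥ x y (by simpa) (by simpa) hxy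
    (fun z hz => by rw [(Submodule.mem_bot K).1 hz, map_zero, map_zero])
  refine ⟨⟨h.eb g, h.eb g.symm, h.ap_ext g.apply_symm_apply, h.ap_ext g.symm_apply_apply⟩, ?_, hgx⟩
  exact (mem_Iso_O hO _).2 hg

theorem exists_reflU {v : V} (hv : Q v ≠ 0) : ∃ r ∈ F.Iso, (r : h.EB) = qr h (Q v)⁻¹ v := by
  have : Nontrivial V := ⟨v, 0, fun h0 => hv (by rw [h0, map_zero])⟩
  have h1 := qr_form h (O_eps hO) (κ := (Q v)⁻¹) (v := v) (by
    rw [hO.1, O_self hO]
    field_simp
    ring)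
  refine ⟨isoU h _ h1, (mem_Iso_O hO _).2 fun x => ?_, rfl⟩
  rw [isoU_val, ap_qr, sub_eq_add_neg, ← neg_smul, O_add hO, QuadraticMap.map_smul, h.smul_right, hO.1, smul_eq_mul]
  field_simp
  ring

variable {D : Finset h.EB} (hD : Fr D) {e : h.EB} (he : e ∈ D)
include hD he

theorem exists_nonsing : ∃ n, h.ap e n = n ∧ Q n ≠ 0 := by
  by_contra hcon
  push Not at hcon
  obtain ⟨x, hx, hx0⟩ := exists_fix (hD.idem e he) (hD.ne e he)
  obtain ⟨u, hu, hux⟩ := Fr.exists_ne h hD he hx hx0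
  have h1 := O_add hO u x
  rw [hcon u hu, hcon x hx, hcon _ (by rw [map_add, hu, hx]), zero_add, zero_add] at h1
  exact hux h1.symm

/-- binary forms are universal -/
theorem exists_val (h2 : Cl.rk h e = 2) (c : K) : ∃ w, h.ap e w = w ∧ Q w = c := by
  obtain ⟨n, hn, hQn⟩ := exists_nonsing hO hD he
  by_cases hK : (2 : K) = 0
  · have : CharP K 2 := (CharP.charP_iff_prime_eq_zero Nat.prime_two).2 hK
    obtain ⟨t, ht⟩ := FiniteField.isSquare_of_char_two (ringChar.eq K 2) (c / Q n)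
    refine ⟨t • n, by rw [map_smul, hn], ?_⟩
    rw [QuadraticMap.map_smul, ← ht, smul_eq_mul, div_mul_cancel₀ _ hQn]
  have hn0 : n ≠ 0 := fun h0 => hQn (by rw [h0, map_zero])
  obtain ⟨a, ha, hna⟩ := exists_ind h2.ge (hD.idem e he) hn0
  have h3 := hna.add_right (-(h.b a n / (2 * Q n)))
  set m := a + -(h.b a n / (2 * Q n)) • n with hm
  have h4 : h.ap e m = m := by rw [hm, map_add, map_smul, ha, hn]
  have h5 : h.b m n = 0 := by
    rw [hm, h.add_left, h.smul_left, O_self hO, neg_mul, div_mul_cancel₀ _ (mul_ne_zero hK hQn), add_neg_cancel]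
  have h6 : Q m ≠ 0 := fun h0 => by
    obtain ⟨u, hu, hum⟩ := Fr.exists_ne h hD he h4 h3.right_ne
    obtain ⟨s, t, rfl⟩ := span_two h2 hn h4 h3 hu
    rw [h.add_left, h.smul_left, h.smul_left, O_symm hO n, h5, O_self hO, h0] at hum
    simp at hum
  obtain ⟨x, y, hxy⟩ := ClassicalGeometry.DiagNormal.exists_mul_sq_add_mul_sq_eq hK hQn h6 c
  refine ⟨x • n + y • m, by rw [map_add, map_smul, map_smul, hn, h4], ?_⟩
  rw [O_add hO, QuadraticMap.map_smul, QuadraticMap.map_smul, h.smul_left, h.smul_right, O_symm hO n, h5, ← hxy,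
    smul_eq_mul, smul_eq_mul]
  ring

/-- a reflection is a possible conjugator -/
theorem exists_refl (h2 : Cl.rk h e = 2) {v : V} (hv : Q v ≠ 0) :
    ∃ r : h.EBˣ, (r : h.EB) = qr h (Q v)⁻¹ v ∧
      ∃ x ∈ F.S, ∀ s, x⁻¹ * s * x ∈ St F D → (cj h.EB r)⁻¹ * s * cj h.EB r ∈ St F D := by
  obtain ⟨w, hw, hQw⟩ := exists_val hO hD he h2 (Q v)
  have hw0 : Q w ≠ 0 := hQw ▸ hv
  obtain ⟨k, hk, hkw⟩ := exists_reflU hO hw0
  obtain ⟨g, hg, hgw⟩ := witt_O hO (fun h0 => hw0 (by rw [h0, map_zero])) (fun h0 => hv (by rw [h0, map_zero])) hQw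
  refine ⟨g * k * g⁻¹, ?_, exists_conj hg hk (cj_mem_St hk (by rw [hkw]; exact qr_comm h hD he hw _))⟩
  rw [Units.val_mul, Units.val_mul, hkw, qr_conj h hg.1, hgw, hQw]

end orth

end Cfsg.Agent.SB.Tor
end

-- part: SB/Tor/U1
section
prune_inst 0x20000000000000000800000002000004000001020000000000000a000a40820004450000102000008008009068080040000001000020000000000c00000000000080000000000000000006000000000000000000000000000000000000000004000000000
set_option linter.all false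
open scoped Cfsg.Agent.FastGrp

/-!
# S5765, classical groups: the row `GU₁(q) ≀ S₄` (helper90)
-/

set_option autoImplicit false
set_option linter.unusedSectionVars false

namespace Cfsg.Agent.SB.Tor

open Cfsg Cfsg.Agent.DS.Cl Cfsg.Agent.DS.Cl.Fwd Module

variable {K V : Type} [Field K] [Finite K] [AddCommGroup V] [Module K V] [Finite V] {h : HF K V}

theorem tau_self (hε : h.ε = 1) (v : V) : h.τ (h.b v v) = h.b v v := by
  conv_rhs => rw [h.swap v v, hε, one_mul]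

/-- Householder maps -/
theorem exists_house (hε : h.ε = 1) {v w : V} (hvw : h.b w w = h.b v v) (hβ : h.b w (w - v) ≠ 0) :
    ∃ u : h.EBˣ, (u : h.EB) * star (u : h.EB) = 1 ∧ h.ap u w = v := by
  have h1 : h.τ (h.b w (w - v)) = h.b w w - h.b v w := by
    rw [h.sub_right, map_sub, tau_self hε, h.swap w v, hε, one_mul]
  have h2 : h.τ (h.b w (w - v)) ≠ 0 := by simpa using hβ
  have h3 : h.b (w - v) (w - v) = h.b w (w - v) + h.τ (h.b w (w - v)) := by
    rw [h1, h.sub_left, h.sub_right v, ← hvw]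
    ring
  refine ⟨isoU h _ (qr_form h hε (κ := (h.b w (w - v))⁻¹) (v := w - v) ?_), isoU_ms _ _ _, ?_⟩
  · rw [h3, map_inv₀]
    field_simp
    ring
  · rw [isoU_val, ap_qr, inv_mul_cancel₀ hβ, one_smul, sub_sub_cancel]

theorem L_eq_of_U (hU : Cl.IsU h) (F : FR h.EB) : F.L = Lmax h.EB := by
  have hτ : h.τ ≠ RingHom.id K := fun e => by
    obtain ⟨c, hc⟩ := hU.2
    exact hc (by rw [e]; rfl)
  obtain ⟨c, hc⟩ := ClassicalGeometry.InvolutiveNorm.exists_add_sigma_eq hτ h.τ_τ (map_one h.τ)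
  refine F.L_eq (h.smul_mem_center c) (h.ap_ext fun v => h.ext_right fun u => ?_)
  rw [h.ap_add, h.add_right, h.b_star, h.ap_one, ap_sc, ap_sc, h.smul_right, h.smul_left, ← add_mul, add_comm, hc,
    one_mul]

/-- vectors spanning the blocks -/
structure UF (D : Finset h.EB) (e : Fin 4 → h.EB) (v : Fin 4 → V) : Prop where
  fr : Fr D
  inj : Function.Injective e
  mem : ∀ a, a ∈ D ↔ ∃ i, e i = a
  ne : ∀ i, h.b (v i) (v i) ≠ 0
  fix : ∀ i, h.ap (e i) (v i) = v i
  span : ∀ i x, h.ap (e i) x = x → ∃ c : K, x = c • v i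

theorem exists_vec (hU : Cl.IsU h) {D : Finset h.EB} (hD : Fr D) {e : h.EB} (he : e ∈ D) (h1 : Cl.rk h e = 1) {n : K}
    (hn : h.τ n = n) (h0 : n ≠ 0) : ∃ v, h.b v v = n ∧ h.ap e v = v ∧ ∀ x, h.ap e x = x → ∃ c : K, x = c • v := by
  have hτ : h.τ ≠ RingHom.id K := fun e => by
    obtain ⟨c, hc⟩ := hU.2
    exact hc (by rw [e]; rfl)
  obtain ⟨⟨_, y, rfl⟩, hx0, hx⟩ := finrank_eq_one_iff'.1 h1
  have h2 : h.ap e (h.ap e y) = h.ap e y := by rw [← h.ap_mul, hD.idem e he]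
  have h3 : ∀ z, h.ap e z = z → ∃ c : K, z = c • h.ap e y := fun z hz => by
    obtain ⟨c, hc⟩ := hx ⟨z, z, hz⟩
    exact ⟨c, (congrArg Subtype.val hc).symm⟩
  have h4 : h.b (h.ap e y) (h.ap e y) ≠ 0 := by
    obtain ⟨u, hu, hu'⟩ := Fr.exists_ne h hD he h2 fun h0 => hx0 (Subtype.ext h0)
    obtain ⟨c, rfl⟩ := h3 u hu
    rw [h.smul_left] at hu'
    exact right_ne_zero_of_mul hu'
  obtain ⟨c, hc⟩ := ClassicalGeometry.InvolutiveNorm.exists_mul_sigma_eq hτ h.τ_τ
    (a := n / h.b (h.ap e y) (h.ap e y)) (by rw [map_div₀, hn, tau_self hU.1])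
  have hc0 : c ≠ 0 := by
    rintro rfl
    rw [zero_mul] at hc
    exact div_ne_zero h0 h4 hc.symm
  refine ⟨c • h.ap e y, ?_, by rw [map_smul, h2], fun x hx => ?_⟩
  · rw [h.smul_left, h.smul_right, ← mul_assoc, hc, div_mul_cancel₀ _ h4]
  · obtain ⟨d, rfl⟩ := h3 x hx
    exact ⟨d / c, by rw [smul_smul, div_mul_cancel₀ _ hc0]⟩

namespace UF

variable {D : Finset h.EB} {e : Fin 4 → h.EB} {v : Fin 4 → V} (H : UF D e v) {F : FR h.EB}
include H

theorem emem (i : Fin 4) : e i ∈ D := (H.mem _).2 ⟨i, rfl⟩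

theorem orth {i j : Fin 4} (hij : i ≠ j) : h.b (v i) (v j) = 0 :=
  Fr.b_eq_zero h H.fr (H.emem i) (H.emem j) (fun e => hij (H.inj e)) (H.fix i) (H.fix j)

theorem vne (i : Fin 4) : v i ≠ 0 := fun h0 => H.ne i (by rw [h0, h.zero_left])

theorem ind (P : V → Prop) (h0 : P 0) (ha : ∀ x y, P x → P y → P (x + y)) (hs : ∀ (c : K) i, P (c • v i)) (x : V) :
    P x := by
  have h1 : h.ap (∑ a ∈ D, a) x = ∑ a ∈ D, h.ap a x := LinearMap.sum_apply D (fun a => h.ap a) x
  rw [H.fr.sum, h.ap_one] at h1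
  rw [h1]
  refine Finset.sum_induction _ P ha h0 fun a haD => ?_
  obtain ⟨i, rfl⟩ := (H.mem a).1 haD
  obtain ⟨c, hc⟩ := H.span i (h.ap (e i) x) (by rw [← h.ap_mul, H.fr.idem _ haD])
  rw [hc]
  exact hs c i

theorem exists_diag (hε : h.ε = 1) (hF : F.L = Lmax h.EB) (i : Fin 4) {c : K} (hc : c * h.τ c = 1) :
    ∃ u ∈ F.Iso, cj h.EB u ∈ Nt F D ∧ ∀ j, h.ap u (v j) = (if j = i then c else 1) • v j := by
  have hi := H.ne i
  have h1 : ∀ x y, h.b (h.ap (qr h ((1 - c) / h.b (v i) (v i)) (v i)) x)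
      (h.ap (qr h ((1 - c) / h.b (v i) (v i)) (v i)) y) = h.b x y := by
    refine qr_form h hε ?_
    rw [map_div₀, map_sub, map_one, tau_self hε]
    field_simp
    linear_combination -hc
  have h2 : isoU h _ h1 ∈ F.Iso := mem_Iso_max hF (isoU_ms _ _ _)
  refine ⟨_, h2, cj_mem_Nt h2 (qr_comm h H.fr (H.emem i) (H.fix i) _), fun j => ?_⟩
  rw [isoU_val, ap_qr]
  split_ifs with hj
  · rw [hj, div_mul_cancel₀ _ hi, sub_smul, one_smul, sub_sub_cancel]
  · rw [H.orth hj, mul_zero, zero_smul, sub_zero, one_smul]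

theorem rel {k : RingAut h.EB} (L : SL h k) {π : Fin 4 → Fin 4} (hπ : ∀ i, k (e i) = e (π i)) {u : h.EBˣ}
    {c : Fin 4 → K} (hu : ∀ j, h.ap u (v j) = c j • v j) (hk : k * cj h.EB u * k⁻¹ = cj h.EB u) :
    ∃ z : K, ∀ i, L.σ (c i) = z * c (π i) := by
  have : Nontrivial V := ⟨_, _, H.vne 0⟩
  rw [conj_cj] at hk
  obtain ⟨z, hz, hk⟩ := cj_eq_iff.1 hk
  obtain ⟨z₀, hz₀⟩ := exists_sc h hz
  refine ⟨z₀, fun i => ?_⟩
  have h1 := L.conj u (v i)
  have h2 := L.map_fix (H.fix i)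
  rw [hπ] at h2
  obtain ⟨m, hm⟩ := H.span _ _ h2
  have h3 : L.g (v i) ≠ 0 := by simpa using H.vne i
  rw [← um_val, hk, Units.val_mul, h.ap_mul, hz₀, map_smul, hu, L.smul] at h1
  apply smul_left_injective K h3
  change L.σ (c i) • L.g (v i) = (z₀ * c (π i)) • L.g (v i)
  rw [← h1, hm, map_smul, hu, smul_smul, smul_smul, smul_smul]
  congr 1
  ring

/-- two elements of the torus whose centraliser is the torus -/
theorem cent (hε : h.ε = 1) (hF : F.L = Lmax h.EB) {ξ : K} (h1 : ξ * h.τ ξ = 1) (h2 : ξ ^ 2 ≠ 1)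
    (h3 : ∀ σ : K →+* K, σ ξ = ξ → σ = RingHom.id K) :
    ∃ v₁ ∈ Nt F D, ∃ v₂ ∈ Nt F D, ∀ k ∈ St F D, k * v₁ * k⁻¹ = v₁ → k * v₂ * k⁻¹ = v₂ → k ∈ Nt F D := by
  have : Nontrivial V := ⟨_, _, H.vne 0⟩
  have hξ0 : ξ ≠ 0 := left_ne_zero_of_mul (h1.trans_ne one_ne_zero)
  have hξ1 : ξ ≠ 1 := fun e => h2 (by rw [e, one_pow])
  have hξ2 : ξ ^ 2 ≠ ξ := fun e => hξ1 (mul_left_cancel₀ hξ0 (by rw [← pow_two, e, mul_one]))
  obtain ⟨u₀, -, a₀, b₀⟩ := H.exists_diag hε hF 0 h1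
  obtain ⟨u₁, -, a₁, b₁⟩ := H.exists_diag hε hF 1 h1
  obtain ⟨u₂, -, a₂, b₂⟩ := H.exists_diag hε hF 2 (c := ξ ^ 2) (by rw [map_pow, ← mul_pow, h1, one_pow])
  refine ⟨_, a₀, cj h.EB (u₁ * u₂), by rw [map_mul]; exact mul_mem a₁ a₂, fun k hk c₁ c₂ => ?_⟩
  obtain ⟨L⟩ := exists_SL h hk.1.1
  obtain ⟨π, hπ, hπe⟩ := exists_perm H.inj H.mem hk
  obtain ⟨z, hz⟩ := H.rel L hπe b₀ c₁
  obtain ⟨z', hz'⟩ := H.rel L hπe (c := ![1, ξ, ξ ^ 2, 1]) (u := u₁ * u₂) (fun j => by
    rw [Units.val_mul, h.ap_mul, b₂, map_smul, b₁, smul_smul]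
    fin_cases j <;> simp) c₂
  have hz1 : z = 1 := by
    by_cases h4 : π 1 = 0
    · have h5 : π 2 ≠ 0 := fun e => absurd (hπ (h4.trans e.symm)) (by decide)
      simpa [h5] using (hz 2).symm
    · simpa [h4] using (hz 1).symm
  have hπ0 : π 0 = 0 := by
    by_contra h4
    have h5 := hz 0
    rw [if_pos rfl, if_neg h4, hz1, one_mul, map_eq_one_iff _ L.σ.injective] at h5
    exact hξ1 h5
  have hσ : ∀ c, L.σ c = c := by
    have h5 := hz 0
    rw [hπ0, if_pos rfl, hz1, one_mul] at h5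
    exact fun c => RingHom.congr_fun (h3 (L.σ : K →+* K) h5) c
  have hz1' : z' = 1 := by simpa [hπ0] using (hz' 0).symm
  refine ⟨hk.1, L.mem_Lin hσ, fun a ha => ?_⟩
  obtain ⟨i, rfl⟩ := (H.mem a).1 ha
  rw [hπe]
  congr 1
  by_cases hi : i = 0
  · rw [hi, hπ0]
  have h4 : π i ≠ 0 := fun e => hi (hπ (e.trans hπ0.symm))
  have h5 := hz' i
  rw [hσ, hz1', one_mul] at h5
  generalize π i = j at h4 h5
  have h6 : ∀ i j : Fin 4, i ≠ 0 → j ≠ 0 → j = i ∨ (i = 1 ∧ j = 2) ∨ (i = 1 ∧ j = 3) ∨ (i = 2 ∧ j = 1) ∨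
    (i = 2 ∧ j = 3) ∨ (i = 3 ∧ j = 1) ∨ (i = 3 ∧ j = 2) := by decide
  rcases h6 i j hi h4 with h7 | ⟨rfl, rfl⟩ | ⟨rfl, rfl⟩ | ⟨rfl, rfl⟩ | ⟨rfl, rfl⟩ | ⟨rfl, rfl⟩ | ⟨rfl, rfl⟩
  exacts [h7, absurd h5 hξ2.symm, absurd h5 hξ1, absurd h5 hξ2, absurd h5 h2, absurd h5 hξ1.symm, absurd h5 h2.symm]

/-- the torus meets a conjugate of the stabiliser trivially -/
theorem reg (hε : h.ε = 1) {a κ : K} (ha : a ≠ 1) (hκ : κ ≠ 0) (hκa : κ * a ≠ 1)
    (hn : ∀ i, h.b (v i) (v i) = if i = 0 then a else 1) {r : h.EBˣ} (hr : (r : h.EB) * star (r : h.EB) = 1)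
    (hrv : (r : h.EB) = qr h κ (∑ i, v i)) :
    ∀ t ∈ Nt F D, (cj h.EB r)⁻¹ * t * cj h.EB r ∈ St F D → t = 1 := by
  have : Nontrivial V := ⟨_, _, H.vne 0⟩
  intro t ht hts
  obtain ⟨L⟩ := exists_SL h ht.1.1
  have hσ := L.sigma_of_Lin ht.2.1
  have h1 : ∀ i, ∃ c : K, L.g (v i) = c • v i := fun i => H.span i _ (by
    have h2 := L.map_fix (H.fix i)
    rwa [ht.2.2 _ (H.emem i)] at h2)
  choose c hc using h1
  have hN : ∀ i, c i * h.τ (c i) = L.μ := fun i => by
    have h2 := L.form (v i) (v i)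
    rw [hc, h.smul_left, h.smul_right, hσ, ← mul_assoc] at h2
    exact mul_right_cancel₀ (H.ne i) h2
  obtain ⟨j, hj⟩ := (H.mem _).1 (St.mem hts (H.emem 0))
  have h2 : t (cj h.EB r (e 0)) = cj h.EB r (e j) := by rw [hj, ra_mul, ra_mul, ra_apply_inv]
  have h3 : h.ap (cj h.EB r (e 0)) (h.ap r (v 0)) = h.ap r (v 0) := by
    rw [← h.ap_mul, cj_mul_eq, h.ap_mul, H.fix]
  have h4 := L.map_fix h3
  rw [h2, cj_apply, h.ap_mul, h.ap_mul] at h4
  have h5 := congrArg (h.ap (r⁻¹ : h.EBˣ)) h4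
  rw [ap_inv_ap] at h5
  obtain ⟨l, hl⟩ := H.span _ _ h5
  have h6 : L.g (h.ap r (v 0)) = l • h.ap r (v j) := by rw [← map_smul, ← hl, ap_ap_inv]
  have hb : ∀ i k, h.b (v i) (v k) = if i = k then h.b (v i) (v i) else 0 := fun i k => by
    split_ifs with hik
    · rw [hik]
    · exact H.orth hik
  have hs : ∀ (d : Fin 4 → K) k, h.b (∑ i, d i • v i) (v k) = d k * h.b (v k) (v k) := fun d k => by
    have h7 : h.lin (v k) (∑ i, d i • v i) = ∑ i, d i • h.lin (v k) (v i) := by simp only [map_sum, map_smul]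
    refine h7.trans ((Finset.sum_eq_single k (fun i _ hi => ?_) (by simp)).trans rfl)
    change d i * h.b (v i) (v k) = 0
    rw [H.orth hi, mul_zero]
  have hs1 : ∀ k, h.b (∑ i, v i) (v k) = h.b (v k) (v k) := fun k => by simpa using hs 1 k
  have hs2 : ∀ k, h.b (v k) (∑ i, v i) = h.b (v k) (v k) := fun k => by
    rw [h.swap, hs1, hε, one_mul, tau_self hε]
  have h7 : ∀ k, c 0 * h.b (v 0) (v k) - κ * a * (c k * h.b (v k) (v k)) =
      l * (h.b (v j) (v k) - κ * h.b (v j) (v j) * h.b (v k) (v k)) := fun k => by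
    have h8 := congrArg (fun x => h.b x (v k)) h6
    simp only [hrv, ap_qr, map_sub, L.smul, hσ, map_sum, hc, h.sub_left, h.smul_left, hs, hs1, hs2] at h8
    rw [← h8, hn 0, if_pos rfl]
  have h8 : L.μ * a = l * h.τ l * h.b (v j) (v j) := by
    have h9 := L.form (h.ap r (v 0)) (h.ap r (v 0))
    rw [h6, h.smul_left, h.smul_right, hσ, (h.unit_iff r).1 hr, (h.unit_iff r).1 hr, hn 0, if_pos rfl] at h9
    rw [← h9, mul_assoc]
  have ha0 : a ≠ 0 := by simpa [hn] using H.ne 0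
  have hτa : h.τ a = a := by simpa [hn] using tau_self hε (v 0)
  have hj0 : j = 0 := by
    by_contra hj0
    obtain ⟨k, hk0, hkj⟩ := (by decide : ∀ j : Fin 4, ∃ k : Fin 4, k ≠ 0 ∧ k ≠ j) j
    have h9 := h7 k
    rw [H.orth hk0.symm, H.orth hkj.symm, hn k, hn j, if_neg hk0, if_neg hj0] at h9
    rw [hn j, if_neg hj0, mul_one] at h8
    have h10 : l = a * c k := mul_left_cancel₀ hκ (by linear_combination h9)
    rw [h10, map_mul, hτa] at h8
    apply ha
    apply mul_left_cancel₀ (mul_ne_zero L.μ_ne ha0)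
    linear_combination (-1 : K) * h8 - a * a * hN k
  subst hj0
  have h9 : ∀ k, c k = l := fun k => by
    have h10 := h7 k
    by_cases hk : k = 0
    · rw [hk, hn 0, if_pos rfl] at h10
      rw [hk]
      apply mul_left_cancel₀ (mul_ne_zero ha0 (sub_ne_zero.2 hκa))
      linear_combination -h10
    · rw [H.orth (Ne.symm hk), hn k, hn 0, if_neg hk, if_pos rfl] at h10
      apply mul_left_cancel₀ (mul_ne_zero ha0 hκ)
      linear_combination -h10
  refine L.eq_one (c := l) (H.ind _ (by simp) (fun x y hx hy => by rw [map_add, hx, hy, smul_add]) fun d i => ?_)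
  rw [L.smul, hσ, hc, h9, smul_comm]

end UF

theorem rowU1 : Cl.RowU1 := by
  intro K V _ _ _ _ _ h F S D hU hV hK H hD hS hM
  have hε := hU.1
  have hF := L_eq_of_U hU F
  obtain ⟨e, he, hmem⟩ := exists_four (card_four h hD.sum one_pos hV hM)
  let τ : K ≃+* K := ⟨⟨h.τ, h.τ, h.τ_τ, h.τ_τ⟩, map_mul h.τ, map_add h.τ⟩
  obtain ⟨ξ, h1, h2, -, h3⟩ := H324.FC.exists_xi τ h.τ_τ hU.2
  replace h1 : ξ * h.τ ξ = 1 := h1
  have h4 : h.τ ξ ≠ ξ := fun e => by
    obtain ⟨c, hc⟩ := hU.2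
    exact hc (RingHom.congr_fun (h3 _ e) c)
  have hξ0 : ξ ≠ 0 := left_ne_zero_of_mul (h1.trans_ne one_ne_zero)
  have h5 : ξ ^ 2 ≠ 1 := fun e => h4 (mul_left_cancel₀ hξ0 (by rw [h1, ← e, pow_two]))
  have h6 : 1 - ξ ≠ 0 := fun e => h5 (by rw [← sub_eq_zero.1 e, one_pow])
  have h7 : 1 - h.τ ξ ≠ 0 := by
    rw [← map_one h.τ, ← map_sub]
    exact (map_ne_zero h.τ).2 h6
  have hτ0 : h.τ ξ ≠ 0 := by simpa using hξ0
  let a : K := -1 - ξ - h.τ ξ
  have ha : h.τ a = a := by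
    simp only [a, map_sub, map_neg, map_one, h.τ_τ]
    ring
  have ha0 : a ≠ 0 := fun e => h2 hK (by
    simp only [a] at e
    linear_combination (1 - ξ) * ξ * e + (1 - ξ) * h1)
  have ha1 : a ≠ 1 := fun e => h5 (by
    simp only [a] at e
    have h8 : (ξ + 1) ^ 2 = 0 := by linear_combination (-ξ) * e - h1
    have h9 : ξ = -1 := eq_neg_of_add_eq_zero_left (pow_eq_zero_iff two_ne_zero |>.1 h8)
    rw [h9]
    ring)
  have h8 : ∀ i : Fin 4, ∃ v, h.b v v = (if i = 0 then a else 1) ∧ h.ap (e i) v = v ∧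
      ∀ x, h.ap (e i) x = x → ∃ c : K, x = c • v := fun i =>
    exists_vec hU hD ((hmem _).2 ⟨i, rfl⟩) (hM.2 _ ((hmem _).2 ⟨i, rfl⟩))
      (by split_ifs; exacts [ha, map_one _]) (by split_ifs; exacts [ha0, one_ne_zero])
  choose v hn hfix hspan using h8
  have U : UF D e v := ⟨hD, he, hmem, fun i => by rw [hn]; split_ifs; exacts [ha0, one_ne_zero], hfix, hspan⟩
  have hs2 : ∀ k, h.b (v k) (∑ i, v i) = h.b (v k) (v k) := fun k => by
    rw [Fin.sum_univ_four, h.add_right, h.add_right, h.add_right]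
    fin_cases k <;> simp [U.orth]
  have hvv : h.b (∑ i, v i) (∑ i, v i) = (1 - ξ) * (1 - h.τ ξ) := by
    conv_lhs => enter [2]; rw [Fin.sum_univ_four]
    rw [h.add_left, h.add_left, h.add_left, hs2, hs2, hs2, hs2, hn, hn, hn, hn]
    simp only [a, Fin.isValue, if_true, Fin.reduceEq, if_false]
    linear_combination -h1
  have hww : h.b ((1 - ξ) • v 1) ((1 - ξ) • v 1) = (1 - ξ) * (1 - h.τ ξ) := by
    rw [h.smul_left, h.smul_right, hn, map_sub, map_one]
    simp
  obtain ⟨g, hg, hgw⟩ := exists_house hε (hww.trans hvv.symm) (by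
    rw [h.sub_right, hww, h.smul_left, hs2, hn]
    simp only [Fin.isValue, Fin.reduceEq, if_false]
    rw [← mul_sub, sub_sub_cancel_left]
    exact mul_ne_zero h6 (neg_ne_zero.2 hτ0))
  have h9 := qr_form h hε (κ := (1 - h.τ ξ)⁻¹) (v := (1 - ξ) • v 1) (by
    rw [hww, map_inv₀, map_sub, map_one, h.τ_τ]
    field_simp
    linear_combination -h1)
  have hk : isoU h _ h9 ∈ F.Iso := mem_Iso_max hF (isoU_ms _ _ _)
  have hg' : g ∈ F.Iso := mem_Iso_max hF hg
  obtain ⟨x, hx, hxS⟩ := exists_conj (S := St F D) hg' hk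
    (cj_mem_St hk (qr_comm h hD (U.emem 1) (by rw [map_smul, hfix]) _))
  obtain ⟨v₁, a₁, v₂, a₂, hc⟩ := U.cent hε hF h1 h5 h3
  refine good_of_four H (le_St H.le hS) (four_of_trick' (fun _ => St.aut) Nt_le Nt_conj hx
    (fun t ht hts => ?_) a₁ a₂ hc)
  refine U.reg hε ha1 (inv_ne_zero h7) (fun e => h4 ?_) hn (mul_mem (mul_mem hg' hk) (inv_mem hg')).1 ?_ t ht
    (hxS t hts)
  · rw [inv_mul_eq_one₀ h7] at e
    have h10 : ξ = -2 := by
      simp only [a] at e
      linear_combination e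
    rw [h10, map_neg, map_ofNat]
  · rw [Units.val_mul, Units.val_mul, isoU_val, qr_conj h hg, hgw]

end Cfsg.Agent.SB.Tor
end
end

-- part: SB/Fld/Rows
section
set_option linter.all false
open scoped Cfsg.Agent.FastGrp

-- part: SB/Fld/Comm
section
/-!
# S5765, field extension subgroups: finite commutative rings with involution (helper52)

`R` is a finite commutative ring with involution and `ρ : R →+* E` a homomorphism to a field which is injective together
with `ρ ∘ star` (so `R` is a field or a product of two fields swapped by `star`).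
-/

set_option autoImplicit false

namespace Cfsg.Agent.SB.Fld

variable {R E : Type*} [CommRing R] [StarRing R] [Field E]

/-- the symmetric elements -/
def sym (R : Type*) [CommRing R] [StarRing R] : Subring R where
  carrier := {y | star y = y}
  mul_mem' := fun {a b} (ha : star a = a) (hb : star b = b) => by
    show star (a * b) = a * b
    rw [star_mul', ha, hb]
  one_mem' := star_one R
  add_mem' := fun {a b} (ha : star a = a) (hb : star b = b) => by
    show star (a + b) = a + b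
    rw [star_add, ha, hb]
  zero_mem' := star_zero R
  neg_mem' := fun {a} (ha : star a = a) => by
    show star (-a) = -a
    rw [star_neg, ha]

theorem mem_sym {y : R} : y ∈ sym R ↔ star y = y := Iff.rfl

theorem add_star_mem (z : R) : z + star z ∈ sym R := by rw [mem_sym, star_add, star_star, add_comm]

theorem mul_star_mem (z : R) : z * star z ∈ sym R := by rw [mem_sym, star_mul', star_star, mul_comm]

theorem card_le_sq [Finite R] {θ : R} (hθ : IsUnit (θ - star θ)) :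
    Nat.card R ≤ Nat.card (sym R) * Nat.card (sym R) := by
  rw [← Nat.card_prod]
  refine Nat.card_le_card_of_injective (fun z : R => ((⟨_, add_star_mem z⟩, ⟨_, add_star_mem (z * star θ)⟩) :
    sym R × sym R)) fun a b hab => ?_
  have h1 : a + star a = b + star b := congrArg (fun x : sym R × sym R => (x.1 : R)) hab
  have h2 : a * star θ + star (a * star θ) = b * star θ + star (b * star θ) :=
    congrArg (fun x : sym R × sym R => (x.2 : R)) hab
  rw [star_mul', star_mul', star_star] at h2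
  refine hθ.mul_right_cancel ?_
  linear_combination θ * h1 - h2

theorem sq_le_card [Finite R] {θ : R} (hθ : IsUnit (θ - star θ)) (C : Subring R) (hC : θ ∈ C) :
    Nat.card ↥(C ⊓ sym R) * Nat.card ↥(C ⊓ sym R) ≤ Nat.card C := by
  rw [← Nat.card_prod]
  refine Nat.card_le_card_of_injective (fun a : ↥(C ⊓ sym R) × ↥(C ⊓ sym R) =>
    (⟨a.1 + a.2 * θ, add_mem a.1.2.1 (mul_mem a.2.2.1 hC)⟩ : C)) fun a b hab => ?_
  have h1 : (a.1 : R) + a.2 * θ = b.1 + b.2 * θ := congrArg Subtype.val hab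
  have h2 := congrArg star h1
  rw [star_add, star_add, star_mul', star_mul', mem_sym.1 a.1.2.2, mem_sym.1 a.2.2.2, mem_sym.1 b.1.2.2,
    mem_sym.1 b.2.2.2] at h2
  have h3 : (a.2 : R) = b.2 := hθ.mul_right_cancel (by linear_combination h1 - h2)
  rw [h3, add_left_inj] at h1
  exact Prod.ext (Subtype.ext h1) (Subtype.ext h3)

/-- `ρ` and `ρ ∘ star` separate the points -/
def Sep (ρ : R →+* E) : Prop := ∀ a, ρ a = 0 → ρ (star a) = 0 → a = 0

namespace Sep

variable {ρ : R →+* E} (h : Sep ρ)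
include h

theorem sym_eq_zero {y : R} (hy : y ∈ sym R) (h0 : ρ y = 0) : y = 0 := h y h0 (by rw [mem_sym.1 hy, h0])

theorem sym_inj {y z : R} (hy : y ∈ sym R) (hz : z ∈ sym R) (h0 : ρ y = ρ z) : y = z :=
  sub_eq_zero.1 (h.sym_eq_zero (sub_mem hy hz) (by rw [map_sub, h0, sub_self]))

theorem isUnit [Finite R] {y : R} (hy : y ∈ sym R) (h0 : y ≠ 0) : IsUnit y := by
  have h1 : ρ y ≠ 0 := fun h1 => h0 (h.sym_eq_zero hy h1)
  have h2 : Function.Injective fun a => y * a := by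
    intro a b (hab : y * a = y * b)
    rw [← sub_eq_zero] at hab ⊢
    rw [← mul_sub] at hab
    have h3 := congrArg star hab
    rw [star_mul', mem_sym.1 hy, star_zero] at h3
    refine h _ ((mul_eq_zero.1 ?_).resolve_left h1) ((mul_eq_zero.1 ?_).resolve_left h1)
    · rw [← map_mul, hab, map_zero]
    · rw [← map_mul, h3, map_zero]
  obtain ⟨a, ha⟩ := Finite.surjective_of_injective h2 1
  exact IsUnit.of_mul_eq_one a ha

theorem uni_inj {u v : R} (hu : u * star u = 1) (hv : v * star v = 1) (h0 : ρ u = ρ v) : u = v := by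
  rw [← sub_eq_zero]
  refine h _ (by rw [map_sub, h0, sub_self]) ?_
  have h1 := congrArg ρ hu
  have h2 := congrArg ρ hv
  rw [map_mul, map_one] at h1 h2
  rw [star_sub, map_sub]
  linear_combination (ρ (star u)) * (-h2) + ρ (star v) * h1 - ρ (star u) * ρ (star v) * h0

theorem uni_cases {u v : R} (hu : u * star u = 1) (hv : v * star v = 1) (ht : v + star v = u + star u) :
    v = u ∨ v = star u := by
  have h1 : (v - u) * (v - star u) = 0 := by linear_combination hu - hv + v * ht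
  have h2 := congrArg ρ h1
  rw [map_mul, map_zero, map_sub, map_sub] at h2
  rcases mul_eq_zero.1 h2 with h3 | h3
  · exact Or.inl (h.uni_inj hv hu (sub_eq_zero.1 h3))
  · exact Or.inr (h.uni_inj hv (by rw [star_star, mul_comm, hu]) (sub_eq_zero.1 h3))

theorem isDomain_sub (Y : Subring R) (hY : Y ≤ sym R) : IsDomain Y :=
  Function.Injective.isDomain (ρ.comp Y.subtype) fun a b hab => Subtype.ext (h.sym_inj (hY a.2) (hY b.2) hab)

theorem two_le_card [Finite R] (Y : Subring R) (hY : Y ≤ sym R) : 2 ≤ Nat.card Y := by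
  have := h.isDomain_sub Y hY
  exact Finite.one_lt_card

/-- Frobenius of a symmetric subring -/
theorem frob [Finite R] (Y : Subring R) (hY : Y ≤ sym R) :
    (∀ a b : R, (a + b) ^ Nat.card Y = a ^ Nat.card Y + b ^ Nat.card Y) ∧ ∀ y ∈ Y, y ^ Nat.card Y = y := by
  have := h.isDomain_sub Y hY
  let _ : Field Y := (Finite.isField_of_domain Y).toField
  have := Fintype.ofFinite Y
  obtain ⟨p, hp⟩ := CharP.exists Y
  obtain ⟨k, hpp, hk⟩ := FiniteField.card Y p
  have : Fact p.Prime := ⟨hpp⟩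
  have : CharP R p := charP_of_injective_ringHom (f := Y.subtype) Subtype.val_injective p
  rw [Nat.card_eq_fintype_card]
  refine ⟨fun a b => by rw [hk, add_pow_char_pow], fun y hy => ?_⟩
  exact congrArg Subtype.val (FiniteField.pow_card (⟨y, hy⟩ : Y))

theorem pow_cases [Finite R] (Y : Subring R) (hY : Y ≤ sym R) {u : R} (hu : u * star u = 1) (ht : u + star u ∈ Y) :
    ∃ m, 0 < m ∧ m ≤ Nat.card Y + 1 ∧ u ^ m = 1 := by
  obtain ⟨h1, h2⟩ := h.frob Y hY
  have h3 := h.two_le_card Y hY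
  have hv : u ^ Nat.card Y * star (u ^ Nat.card Y) = 1 := by rw [star_pow, ← mul_pow, hu, one_pow]
  rcases h.uni_cases hu hv (by rw [star_pow, ← h1, h2 _ ht]) with h4 | h4
  · refine ⟨Nat.card Y - 1, by omega, by omega, ?_⟩
    have h5 : u ^ (Nat.card Y - 1) * u = u := by rw [← pow_succ, Nat.sub_add_cancel (by omega), h4]
    rw [← mul_one (u ^ _), ← hu, ← mul_assoc, h5]
  · exact ⟨Nat.card Y + 1, by omega, le_rfl, by rw [pow_succ', h4, hu]⟩

theorem card_sq_le [Finite R] (Y : Subring R) (hY : Y ≤ sym R) {y : R} (hy : y ∈ sym R) (hy' : y ∉ Y) :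
    Nat.card Y * Nat.card Y ≤ Nat.card (sym R) := by
  rw [← Nat.card_prod]
  refine Nat.card_le_card_of_injective (fun a : Y × Y => (⟨a.1 + a.2 * y, add_mem (hY a.1.2) (mul_mem (hY a.2.2) hy)⟩ :
    sym R)) fun a b hab => ?_
  have h1 : (a.1 : R) + a.2 * y = b.1 + b.2 * y := congrArg Subtype.val hab
  by_cases h2 : a.2 = b.2
  · rw [h2, add_left_inj] at h1
    exact Prod.ext (Subtype.ext h1) h2
  exfalso
  have := h.isDomain_sub Y hY
  obtain ⟨d, hd⟩ := (Finite.isField_of_domain Y).mul_inv_cancel (sub_ne_zero.2 h2)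
  have h3 : ((a.2 : R) - b.2) * d = 1 := congrArg Subtype.val hd
  refine hy' ?_
  have h4 : y = d * ((b.1 : R) - a.1) := by linear_combination d * h1 - y * h3
  rw [h4]
  exact mul_mem d.2 (sub_mem b.1.2 a.1.2)

/-- the norm is onto -/
theorem norm_surj [Finite R] {θ : R} (hθ : IsUnit (θ - star θ)) {y : R} (hy : y ∈ sym R) : ∃ w, w * star w = y := by
  have := h.isDomain_sub (sym R) le_rfl
  let _ : Field (sym R) := (Finite.isField_of_domain (sym R)).toField
  have := Fintype.ofFinite (sym R)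
  rcases Nat.mod_two_eq_zero_or_one (Fintype.card (sym R)) with h2 | h2
  · have h3 : ringChar (sym R) = 2 := FiniteField.even_card_iff_char_two.2 h2
    obtain ⟨w, hw⟩ := FiniteField.isSquare_of_char_two h3 (⟨y, hy⟩ : sym R)
    exact ⟨w, by rw [mem_sym.1 w.2]; exact (congrArg Subtype.val hw).symm⟩
  · have h4 : star (θ - star θ) = -(θ - star θ) := by rw [star_sub, star_star, neg_sub]
    have h5 : (θ - star θ) * (θ - star θ) ∈ sym R := by rw [mem_sym, star_mul', h4, neg_mul_neg]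
    have h6 : (⟨_, h5⟩ : sym R) ≠ 0 := fun h6 => by
      have h7 : (θ - star θ) * (θ - star θ) = 0 := congrArg Subtype.val h6
      have h8 := (hθ.mul hθ).map ρ
      rw [h7, map_zero] at h8
      exact not_isUnit_zero h8
    obtain ⟨a, b, hab⟩ := FiniteField.exists_root_sum_quadratic (R := sym R)
      (f := Polynomial.X ^ 2 - Polynomial.C ⟨y, hy⟩) (g := Polynomial.C (-⟨_, h5⟩) * Polynomial.X ^ 2)
      (Polynomial.degree_X_pow_sub_C (by norm_num) _) (Polynomial.degree_C_mul_X_pow 2 (neg_ne_zero.2 h6)) h2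
    simp only [Polynomial.eval_sub, Polynomial.eval_pow, Polynomial.eval_X, Polynomial.eval_C,
      Polynomial.eval_mul] at hab
    have h7 : (a : R) ^ 2 - y + -((θ - star θ) * (θ - star θ)) * (b : R) ^ 2 = 0 := congrArg Subtype.val hab
    refine ⟨a + b * (θ - star θ), ?_⟩
    rw [star_add, star_mul', mem_sym.1 a.2, mem_sym.1 b.2, h4]
    linear_combination h7

/-- a unitary element of large order -/
theorem exists_gen [Finite R] {θ : R} (hθ : IsUnit (θ - star θ)) :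
    ∃ u : R, u * star u = 1 ∧ ∀ m, 0 < m → u ^ m = 1 → Nat.card (sym R) ≤ m + 1 := by
  classical
  let f : unitary R →* E := (ρ : R →* E).comp (unitary R).subtype
  have hf : Function.Injective f := fun a b hab => Subtype.ext (h.uni_inj a.2.2 b.2.2 hab)
  have : IsCyclic (unitary R) := isCyclic_of_injective_ringHom f hf
  obtain ⟨u, hu⟩ := IsCyclic.exists_ofOrder_eq_natCard (α := unitary R)
  refine ⟨u, u.2.2, fun m hm hum => ?_⟩
  have h1 : Nat.card (unitary R) ≤ m := by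
    rw [← hu]
    exact orderOf_le_of_pow_eq_one hm (Subtype.ext hum)
  have hd : ρ θ - ρ (star θ) ≠ 0 := by
    rw [← map_sub]
    exact (hθ.map ρ).ne_zero
  have key : ∀ t : sym R, ρ (t + θ) ≠ 0 → ρ (t + star θ) ≠ 0 → ∃ v : unitary R, (v : R) * (t + star θ) = t + θ := by
    intro t h2 h3
    have h4 : star ((t : R) + θ) = t + star θ := by rw [star_add, mem_sym.1 t.2]
    have h5 := h.isUnit (mul_star_mem ((t : R) + θ)) fun h5 => by
      have h6 := congrArg ρ h5
      rw [map_mul, h4, map_zero] at h6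
      exact mul_ne_zero h2 h3 h6
    rw [h4] at h5
    obtain ⟨w, hw⟩ := (isUnit_of_mul_isUnit_right h5).exists_right_inv
    have h6 : ((t : R) + θ) * star w = 1 := by
      have h7 := congrArg star hw
      rwa [star_mul', star_one, ← h4, star_star] at h7
    have h7 : ((t : R) + θ) * w * star (((t : R) + θ) * w) = 1 := by
      rw [star_mul', h4]
      linear_combination ((t : R) + star θ) * w * h6 + hw
    exact ⟨⟨(t + θ) * w, by rw [mul_comm]; exact h7, h7⟩, by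
      show ((t : R) + θ) * w * (t + star θ) = t + θ
      linear_combination ((t : R) + θ) * hw⟩
  let g : sym R → Option (unitary R) := fun t =>
    if h2 : ρ (t + θ) = 0 then none else if h3 : ρ (t + star θ) = 0 then some 1 else some (key t h2 h3).choose
  have hg : Function.Injective g := by
    intro t t' htt
    apply Subtype.ext
    refine h.sym_inj t.2 t'.2 ?_
    simp only [g] at htt
    by_cases h2 : ρ (t + θ) = 0 <;> by_cases h2' : ρ (t' + θ) = 0
    · rw [map_add] at h2 h2'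
      linear_combination h2 - h2'
    · rw [dif_pos h2, dif_neg h2'] at htt
      split_ifs at htt
    · rw [dif_neg h2, dif_pos h2'] at htt
      split_ifs at htt
    rw [dif_neg h2, dif_neg h2'] at htt
    by_cases h3 : ρ (t + star θ) = 0 <;> by_cases h3' : ρ (t' + star θ) = 0
    · rw [map_add] at h3 h3'
      linear_combination h3 - h3'
    · rw [dif_pos h3, dif_neg h3', Option.some_inj] at htt
      have h4 := congrArg ρ (key t' h2' h3').choose_spec
      rw [← htt] at h4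
      simp only [OneMemClass.coe_one, one_mul, map_add] at h4
      exact absurd (by linear_combination -h4) hd
    · rw [dif_neg h3, dif_pos h3', Option.some_inj] at htt
      have h4 := congrArg ρ (key t h2 h3).choose_spec
      rw [htt] at h4
      simp only [OneMemClass.coe_one, one_mul, map_add] at h4
      exact absurd (by linear_combination -h4) hd
    · rw [dif_neg h3, dif_neg h3', Option.some_inj] at htt
      have h4 := congrArg ρ (key t h2 h3).choose_spec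
      have h5 := congrArg ρ (key t' h2' h3').choose_spec
      rw [← htt] at h5
      simp only [map_mul, map_add] at h4 h5
      have h6 : (ρ t - ρ t') * (ρ θ - ρ (star θ)) = 0 := by
        linear_combination (ρ t' + ρ (star θ)) * h4 - (ρ t + ρ (star θ)) * h5
      exact sub_eq_zero.1 ((mul_eq_zero.1 h6).resolve_right hd)
  have h2 := Nat.card_le_card_of_injective g hg
  rw [Finite.card_option] at h2
  omega

/-- `Aut (R, star)` acts faithfully on the unitary group modulo a small subring -/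
theorem faithful [Finite R] {θ : R} (hθ : IsUnit (θ - star θ)) (C : Subring R) (hC : ∀ a ∈ C, star a ∈ C)
    (hq : (Nat.card ↥(C ⊓ sym R) + 2) ^ 2 < Nat.card (sym R)) :
    ∃ u : R, u * star u = 1 ∧ ∀ s : R →+* R, (∀ a, s (star a) = star (s a)) → (∃ a ∈ C, s u = a * u) →
      ∀ z, s z = z := by
  obtain ⟨u, hu, hgen⟩ := h.exists_gen hθ
  refine ⟨u, hu, fun s hs ⟨a, ha, hau⟩ => ?_⟩
  have hsu : s u * star (s u) = 1 := by rw [← hs, ← map_mul, hu, map_one]
  have ha1 : a * star a = 1 := by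
    rw [hau, star_mul'] at hsu
    linear_combination hsu - a * star a * hu
  obtain ⟨m, hm0, hm, ham⟩ := h.pow_cases (C ⊓ sym R) inf_le_right ha1 ⟨add_mem ha (hC a ha), add_star_mem a⟩
  have hq2 := h.two_le_card (C ⊓ sym R) inf_le_right
  set q := Nat.card ↥(C ⊓ sym R)
  set Q := Nat.card (sym R)
  have hy : s (u ^ m) = u ^ m := by rw [map_pow, hau, mul_pow, ham, one_mul]
  let Y : Subring R := sym R ⊓ s.eqLocus (RingHom.id R)
  have hYs : ∀ y ∈ sym R, s y = y := by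
    by_contra hcon
    push Not at hcon
    obtain ⟨y, hy1, hy2⟩ := hcon
    have h1 := h.card_sq_le Y inf_le_left hy1 fun h1 => hy2 h1.2
    obtain ⟨k, hk0, hk, huk⟩ := h.pow_cases Y inf_le_left (u := u ^ m) (by rw [star_pow, ← mul_pow, hu, one_pow])
      ⟨add_star_mem _, show s _ = _ by rw [map_add, hs, hy]; rfl⟩
    have h2 := hgen (m * k) (Nat.mul_pos hm0 hk0) (by rw [pow_mul, huk])
    set P := Nat.card Y
    have h3 : m * k ≤ (q + 1) * (P + 1) := Nat.mul_le_mul hm hk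
    have h4 : P ≤ q + 2 := by
      by_contra h4
      have h5 : q + 3 ≤ P := by omega
      nlinarith only [hq, h2, h1, h3]
    nlinarith only [hm, hq, h2, hk, h4]
  have h2 : u * u ≠ 1 := fun h2 => by
    have := hgen 2 (by norm_num) (by rw [pow_two, h2])
    nlinarith only [hq2, hq, this]
  have h3 : s u = u := by
    rcases h.uni_cases hu hsu (by rw [← hs, ← map_add, hYs _ (add_star_mem u)]) with h3 | h3
    · exact h3
    · exfalso
      have h4 : a * (u * u) = 1 := by rw [← mul_assoc, ← hau, h3, mul_comm, hu]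
      have h5 := congrArg (· ^ m) h4
      simp only [mul_pow, ham, one_mul, one_pow] at h5
      have := hgen (m + m) (by omega) (by rw [pow_add, h5])
      nlinarith only [hm, hq, this]
  have h4 : star (u - star u) = -(u - star u) := by rw [star_sub, star_star, neg_sub]
  have h5 := h.isUnit (y := (u - star u) * (u - star u)) (by rw [mem_sym, star_mul', h4, neg_mul_neg]) fun h5 => by
    have h6 := congrArg ρ h5
    rw [map_mul, map_zero, mul_self_eq_zero, map_sub, sub_eq_zero] at h6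
    have h7 := h.uni_inj hu (by rw [star_star, mul_comm, hu]) h6
    exact h2 (by rw [← hu, ← h7])
  intro z
  have h6 := hYs _ (add_star_mem z)
  have h7 := hYs _ (add_star_mem (z * star u))
  rw [star_mul', star_star] at h7
  simp only [map_add, map_mul, hs, h3] at h6 h7
  refine (isUnit_of_mul_isUnit_left h5).mul_right_cancel ?_
  linear_combination u * h6 - h7

end Sep

end Cfsg.Agent.SB.Fld
end

-- part: SB/Fld/Vec
section
/-!
# S5765, field extension subgroups: a self-centralizing subfield of `End V` (helper52)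
-/

set_option autoImplicit false

namespace Cfsg.Agent.SB.Fld

open Module

variable {K V : Type*} [Field K] [AddCommGroup V] [Module K V]

/-- a self-centralizing subfield of `End V` -/
structure MaxF (E : Subalgebra K (End K V)) : Prop where
  field : IsField E
  cent : ∀ x : End K V, (∀ b ∈ E, b * x = x * b) → x ∈ E

/-- a subfield with as many elements as `V` is self-centralizing -/
theorem maxF_of_card [Finite V] {E : Subalgebra K (End K V)} (hE : IsField E) {v : V} (hv : v ≠ 0)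
    (hc : Nat.card V ≤ Nat.card E) : MaxF E := by
  refine ⟨hE, fun x hx => ?_⟩
  have h1 : Function.Injective fun a : E => (a : End K V) v := by
    intro a b (hab : (a : End K V) v = (b : End K V) v)
    by_contra h0
    obtain ⟨d, hd⟩ := hE.mul_inv_cancel (sub_ne_zero.2 h0)
    rw [hE.mul_comm] at hd
    have h2 := LinearMap.congr_fun (congrArg Subtype.val hd) v
    change (d : End K V) ((a : End K V) v - (b : End K V) v) = v at h2
    rw [hab, sub_self, map_zero] at h2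
    exact hv h2.symm
  have h2 := (h1.bijective_of_nat_card_le hc).2
  obtain ⟨a, ha⟩ := h2 (x v)
  have h3 : x = a := LinearMap.ext fun w => by
    obtain ⟨b, rfl⟩ := h2 w
    have h4 := LinearMap.congr_fun (hx b b.2) v
    have h5 := LinearMap.congr_fun (congrArg Subtype.val (hE.mul_comm a b)) v
    change (a : End K V) ((b : End K V) v) = (b : End K V) ((a : End K V) v) at h5
    change x ((b : End K V) v) = (a : End K V) ((b : End K V) v)
    rw [h5, show (a : End K V) v = x v from ha]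
    exact h4.symm
  rw [h3]
  exact a.2

namespace MaxF

variable {E : Subalgebra K (End K V)} (h : MaxF E)
include h

theorem comm {a b : End K V} (ha : a ∈ E) (hb : b ∈ E) : a * b = b * a :=
  congrArg Subtype.val (h.field.mul_comm ⟨a, ha⟩ ⟨b, hb⟩)

theorem inv {a : End K V} (ha : a ∈ E) (h0 : a ≠ 0) : ∃ b ∈ E, a * b = 1 ∧ b * a = 1 := by
  obtain ⟨b, hb⟩ := h.field.mul_inv_cancel (a := ⟨a, ha⟩) fun h1 => h0 (congrArg Subtype.val h1)
  have h1 : a * b = 1 := congrArg Subtype.val hb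
  exact ⟨b, b.2, h1, by rw [h.comm b.2 ha, h1]⟩

theorem eq_zero {a : End K V} (ha : a ∈ E) {v : V} (hv : v ≠ 0) (h0 : a v = 0) : a = 0 := by
  by_contra h1
  obtain ⟨b, -, -, h2⟩ := h.inv ha h1
  have h3 := LinearMap.congr_fun h2 v
  rw [Module.End.mul_apply, h0, map_zero] at h3
  exact hv h3.symm

theorem span {v : V} (hv : v ≠ 0) (w : V) : ∃ a ∈ E, a v = w := by
  let _ : Field E := h.field.toField
  obtain ⟨W, hW⟩ := (Submodule.span E {v}).exists_isCompl
  let p : V →ₗ[E] V := Submodule.projection _ _ hW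
  let p' : End K V :=
    { toFun := p
      map_add' := p.map_add
      map_smul' := fun c x => p.map_smul (⟨algebraMap K _ c, E.algebraMap_mem c⟩ : E) x }
  have h1 : p' ∈ E := h.cent _ fun b hb => LinearMap.ext fun x => (p.map_smul (⟨b, hb⟩ : E) x).symm
  have h2 : p' - 1 = 0 := h.eq_zero (sub_mem h1 (one_mem E)) hv (by
    rw [LinearMap.sub_apply, Module.End.one_apply, sub_eq_zero]
    exact Submodule.projection_apply_of_mem_left hW (Submodule.mem_span_singleton_self v))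
  have h3 : p w = w := LinearMap.congr_fun (sub_eq_zero.1 h2) w
  obtain ⟨a, ha⟩ := Submodule.mem_span_singleton.1 (show w ∈ Submodule.span E {v} from h3 ▸ Submodule.projection_apply_mem hW w)
  exact ⟨a, a.2, ha⟩

/-- `E ≃ V` -/
theorem exists_equiv {v : V} (hv : v ≠ 0) : ∃ e : E ≃ₗ[K] V, ∀ a, e a = (a : End K V) v := by
  let φ : E →ₗ[K] V := (LinearMap.applyₗ v).comp E.val.toLinearMap
  refine ⟨LinearEquiv.ofBijective φ ⟨(injective_iff_map_eq_zero φ).2 fun a ha => Subtype.ext (h.eq_zero a.2 hv ha),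
    fun w => ?_⟩, fun _ => rfl⟩
  obtain ⟨a, ha, rfl⟩ := h.span hv w
  exact ⟨⟨a, ha⟩, rfl⟩

theorem exists_trace [Finite K] [Module.Finite K V] {v : V} (hv : v ≠ 0) : ∃ b ∈ E, LinearMap.trace K V b ≠ 0 := by
  let _ : Field E := h.field.toField
  obtain ⟨e, he⟩ := h.exists_equiv hv
  have h1 := Algebra.trace_ne_zero K E
  by_contra hcon
  push Not at hcon
  refine h1 (LinearMap.ext fun b => ?_)
  rw [Algebra.trace_apply, ← LinearMap.trace_conj' _ e, LinearMap.zero_apply, ← hcon b b.2]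
  congr 1
  refine LinearMap.ext fun w => ?_
  obtain ⟨a, rfl⟩ := e.surjective w
  rw [LinearEquiv.conj_apply_apply, e.symm_apply_apply, he, he]
  rfl

/-- a conjugate of `a ∈ E` by a transvection normalizes `E` -/
theorem bad [Module.Finite K V] (h3 : 3 ≤ finrank K V) {v : V} (hv : v ≠ 0) {f : V →ₗ[K] K} (hf : f ≠ 0)
    (hfv : f v = 0) {a : End K V} (ha : a ∈ E)
    (hn : ∀ b ∈ E, ∃ b' ∈ E, (1 - f.smulRight v) * a * (1 + f.smulRight v) * b =
      b' * ((1 - f.smulRight v) * a * (1 + f.smulRight v))) :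
    (∃ k : K, a = k • 1) ∨ ∀ b ∈ E, LinearMap.trace K V (a * b) = f (a v) * f (b v) := by
  set s : End K V := f.smulRight v with hs
  have hsa : ∀ w, s w = f w • v := fun _ => rfl
  have hss : s * s = 0 := LinearMap.ext fun w => by
    rw [Module.End.mul_apply, hsa, hsa, map_smul, hfv, smul_zero, zero_smul, LinearMap.zero_apply]
  set y := (1 - s) * a * (1 + s) with hy
  by_cases hc : ∀ b ∈ E, b * y = y * b
  · left
    obtain ⟨w, hw0, hw1, hw2⟩ : ∃ w, w ≠ 0 ∧ f w = 0 ∧ f (a w) = 0 := by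
      have h1 := LinearMap.ker_ne_bot_of_finrank_lt (f := f.prod (f.comp a)) (by simp; omega)
      obtain ⟨w, hw, hw0⟩ := Submodule.exists_mem_ne_zero_of_ne_bot h1
      exact ⟨w, hw0, congrArg Prod.fst (LinearMap.mem_ker.1 hw), congrArg Prod.snd (LinearMap.mem_ker.1 hw)⟩
    have h1 : y - a = 0 := h.eq_zero (sub_mem (h.cent y hc) ha) hw0 (by
      simp only [hy, LinearMap.sub_apply, Module.End.mul_apply, LinearMap.add_apply, Module.End.one_apply, hsa, hw1,
        hw2, zero_smul, add_zero, sub_zero, sub_self])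
    have h2 : a * s = s * a := by
      have h4 : a * s - s * a = (1 + s) * (y - a) + s * s * a * (1 + s) := by rw [hy]; noncomm_ring
      rw [h1, hss, mul_zero, zero_mul, zero_mul, add_zero, sub_eq_zero] at h4
      exact h4
    obtain ⟨u, hu⟩ : ∃ u, f u ≠ 0 := by
      by_contra hcon
      push Not at hcon
      exact hf (LinearMap.ext hcon)
    have h4 := LinearMap.congr_fun h2 u
    rw [Module.End.mul_apply, Module.End.mul_apply, hsa, hsa, map_smul] at h4
    refine ⟨(f u)⁻¹ * f (a u), sub_eq_zero.1 (h.eq_zero (sub_mem ha (E.smul_mem (one_mem E) _)) hv ?_)⟩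
    rw [LinearMap.sub_apply, LinearMap.smul_apply, Module.End.one_apply, mul_smul, ← h4, smul_smul,
      inv_mul_cancel₀ hu, one_smul, sub_self]
  · right
    push Not at hc
    obtain ⟨b₀, hb₀, hne⟩ := hc
    obtain ⟨b₁, hb₁, h1⟩ := hn b₀ hb₀
    obtain ⟨d, hd, -, hd'⟩ := h.inv (sub_mem hb₀ hb₁) fun h0 => hne (by rw [h1, sub_eq_zero.1 h0])
    intro b hb
    have h2 : LinearMap.trace K V (b * y) = 0 := by
      have h4 : b * y = b₀ * (b * d * y) - b * d * y * b₀ := by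
        rw [mul_assoc (b * d), h1, ← mul_assoc b₀, ← mul_assoc (b * d), h.comm hb₀ (mul_mem hb hd), ← sub_mul,
          ← mul_sub, mul_assoc b d, hd', mul_one]
      rw [h4, map_sub, LinearMap.trace_mul_comm, sub_self]
    have h4 : ∀ x : End K V, LinearMap.trace K V (x * s) = f (x v) := fun x => by
      have h5 : x * s = f.smulRight (x v) := LinearMap.ext fun w => by
        rw [Module.End.mul_apply, hsa, map_smul, LinearMap.smulRight_apply]
      rw [h5, LinearMap.trace_smulRight]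
    have h5 : s * a * s = f (a v) • s := LinearMap.ext fun w => by
      rw [Module.End.mul_apply, Module.End.mul_apply, hsa w, map_smul, map_smul, hsa, LinearMap.smul_apply, hsa,
        smul_comm]
    have h6 : b * y = b * a + b * a * s - b * s * a - b * (s * a * s) := by rw [hy]; noncomm_ring
    rw [h6, h5, map_sub, map_sub, map_add, LinearMap.trace_mul_comm K (b * s), ← mul_assoc, h.comm hb ha,
      mul_smul_comm, map_smul, h4 b, smul_eq_mul] at h2
    linear_combination h2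

/-- a good parameter -/
theorem exists_good [Finite K] [Module.Finite K V] {v : V} (hv : v ≠ 0) (f : V →ₗ[K] K)
    (S : AddSubgroup (End K V)) (hS : ∀ y ∈ S, y ∈ E) (h4 : 4 * Nat.card K ≤ Nat.card S) :
    ∃ y ∈ S, y ≠ 0 ∧ f (y v) = 0 ∧
      ∀ a ∈ E, a ≠ 0 → ¬ ∀ b ∈ E, LinearMap.trace K V (a * b) = f ((a * y) v) * f ((b * y) v) := by
  by_contra hcon
  push Not at hcon
  have hV : Finite V := Module.finite_of_finite K
  have hE : Finite (End K V) := Finite.of_injective (fun x : End K V => (x : V → V)) DFunLike.coe_injective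
  let φ : S →+ K :=
    { toFun := fun y => f (y.1 v)
      map_zero' := by simp only [_root_.ZeroMemClass.coe_zero, _root_.LinearMap.zero_apply, _root_.map_zero]
      map_add' := fun a b => by simp }
  have h1 : 4 ≤ Nat.card φ.ker := by
    have h2 := AddSubgroup.card_mul_index φ.ker
    rw [AddSubgroup.index_ker] at h2
    have h3 : Nat.card φ.range ≤ Nat.card K := Nat.card_le_card_of_injective _ Subtype.val_injective
    have h5 : 0 < Nat.card K := Nat.card_pos
    by_contra h6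
    have h7 : Nat.card φ.ker * Nat.card φ.range ≤ 3 * Nat.card K := Nat.mul_le_mul (by omega) h3
    omega
  obtain ⟨b₀, hb₀, htr⟩ := h.exists_trace hv
  have hnd : ∀ x ∈ E, (∀ b ∈ E, LinearMap.trace K V (x * b) = 0) → x = 0 := by
    intro x hx h0
    by_contra h2
    obtain ⟨d, hd, h3, -⟩ := h.inv hx h2
    have h5 := h0 _ (mul_mem hd hb₀)
    rw [← mul_assoc, h3, one_mul] at h5
    exact htr h5
  have hk : ∀ {a y : End K V}, a ∈ E → a ≠ 0 →
      (∀ b ∈ E, LinearMap.trace K V (a * b) = f ((a * y) v) * f ((b * y) v)) → f ((a * y) v) ≠ 0 :=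
    fun ha ha0 hb h0 => ha0 (hnd _ ha fun b hb' => by rw [hb b hb', h0, zero_mul])
  classical
  obtain ⟨y₁, hy₁⟩ : ∃ y : φ.ker, y ≠ 0 := by
    have : Nontrivial φ.ker := Finite.one_lt_card_iff_nontrivial.1 (by omega)
    exact exists_ne 0
  obtain ⟨y₂, hy₂⟩ : ∃ y : φ.ker, y ∉ ({0, y₁, -y₁} : Finset φ.ker) := by
    by_contra h2
    push Not at h2
    have := Fintype.ofFinite φ.ker
    have h3 := Finset.card_le_card (fun y _ => h2 y : Finset.univ ⊆ _)
    have h5 := Finset.card_le_three (a := (0 : φ.ker)) (b := y₁) (c := -y₁)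
    rw [Finset.card_univ, ← Nat.card_eq_fintype_card] at h3
    omega
  simp only [Finset.mem_insert, Finset.mem_singleton, not_or] at hy₂
  have hne : ∀ y : φ.ker, y ≠ 0 → y.1.1 ≠ 0 := fun y hy h0 => hy (Subtype.ext (Subtype.ext h0))
  obtain ⟨a₁, ha₁, ha₁0, hb₁⟩ := hcon _ y₁.1.2 (hne _ hy₁) y₁.2
  obtain ⟨d, hd, -, hd'⟩ := h.inv (hS _ y₁.1.2) (hne _ hy₁)
  have hk₁ := hk ha₁ ha₁0 hb₁
  set k₁ := f ((a₁ * y₁.1.1) v)
  obtain ⟨l, hl, hl'⟩ : ∃ l ∈ E, ∀ b ∈ E, LinearMap.trace K V (l * b) = f (b v) := by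
    refine ⟨k₁⁻¹ • (a₁ * d), E.smul_mem (mul_mem ha₁ hd) _, fun b hb => ?_⟩
    rw [smul_mul_assoc, map_smul, mul_assoc, hb₁ _ (mul_mem hd hb), h.comm hd hb, mul_assoc, hd', mul_one,
      smul_eq_mul, ← mul_assoc, inv_mul_cancel₀ hk₁, one_mul]
  have hQ : ∀ y : φ.ker, y ≠ 0 → f ((l * y.1.1 * y.1.1) v) = 1 := by
    intro y hy
    obtain ⟨a, ha, ha0, hb⟩ := hcon _ y.1.2 (hne _ hy) y.2
    have hk' := hk ha ha0 hb
    have hyE := hS _ y.1.2
    have h2 := hnd _ (sub_mem ha (E.smul_mem (mul_mem hl hyE) (f ((a * y.1.1) v)))) fun b hb' => by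
      rw [sub_mul, map_sub, hb b hb', smul_mul_assoc, map_smul, mul_assoc, hl' _ (mul_mem hyE hb'), h.comm hyE hb',
        smul_eq_mul, sub_self]
    have h3 := congrArg (fun x : End K V => f ((x * y.1.1) v)) (sub_eq_zero.1 h2)
    simp only [smul_mul_assoc, LinearMap.smul_apply, map_smul, smul_eq_mul] at h3
    exact mul_left_cancel₀ hk' (by rw [← h3, mul_one])
  have q1 := hQ _ hy₁
  have q2 := hQ _ hy₂.1
  have q3 := hQ (y₁ + y₂) fun h0 => hy₂.2.2 (eq_neg_of_add_eq_zero_right h0)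
  have q4 := hQ (y₁ - y₂) fun h0 => hy₂.2.1 (sub_eq_zero.1 h0).symm
  have hc : l * y₂.1.1 * y₁.1.1 = l * y₁.1.1 * y₂.1.1 := by
    rw [mul_assoc, mul_assoc, h.comm (hS _ y₂.1.2) (hS _ y₁.1.2)]
  simp only [AddSubgroup.coe_add, AddSubgroup.coe_sub, mul_add, add_mul, mul_sub, sub_mul, hc, LinearMap.add_apply,
    LinearMap.sub_apply, map_add, map_sub, q1, q2] at q3 q4
  have h2 : (2 : K) = 0 := by linear_combination q3 + q4
  exact one_ne_zero (α := K) (by linear_combination -q3 + (1 + f ((l * y₁.1.1 * y₂.1.1) v)) * h2)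

end MaxF

end Cfsg.Agent.SB.Fld
end

-- part: SB/Fld/LU
section
/-!
# S5765: linear and unitary form rings, transvections (helper52)

`LU π c η θ` : common description of the rings of the linear and the unitary groups.
-/

set_option autoImplicit false

namespace Cfsg.Agent.SB.Fld

open Module Cfsg.Agent.DS.Cl Cfsg.Agent.DS.Cl.Fwd
open scoped commutatorElement

variable {A : Type} [Ring A] [StarRing A]

omit [StarRing A] in
theorem eich_mul {c c' p q p' q' : A} (hc' : c' ∈ Subring.center A) (h1 : p * p' = 0) (h2 : p * q' = 0)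
    (h3 : q * q' = 0) : p * (p' - q' - c' * (q' * p')) = 0 ∧
      (p - q - c * (q * p)) * (p' - q' - c' * (q' * p')) = -(q * p') := by
  have h4 : p * (p' - q' - c' * (q' * p')) = 0 := by
    rw [mul_sub, mul_sub, h1, h2, ← mul_assoc, cen_comm hc', mul_assoc, ← mul_assoc p, h2]; simp
  have h5 : q * (p' - q' - c' * (q' * p')) = q * p' := by
    rw [mul_sub, mul_sub, h3, ← mul_assoc, cen_comm hc', mul_assoc, ← mul_assoc q, h3]; simp
  refine ⟨h4, ?_⟩
  rw [sub_mul, sub_mul, h4, h5, mul_assoc, mul_assoc, h4]; simp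

theorem eich_uni {c x : A} (hc : c ∈ Subring.center A) (h1 : c + star c = 1) (hx : x * x = 0) (hx' : x * star x = 0) :
    (1 + (x - star x - c * (star x * x))) * star (1 + (x - star x - c * (star x * x))) = 1 := by
  have h2 : star x * star x = 0 := by rw [← star_mul, hx, star_zero]
  have h3 : star (x - star x - c * (star x * x)) = -(x - star x - (-star c) * (star x * x)) := by
    rw [star_sub, star_sub, star_star, star_mul, star_mul, star_star, cen_comm (star_cen hc)]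
    noncomm_ring
  have h4 := (eich_mul (c := c) (Subring.neg_mem _ (star_cen hc)) hx hx' h2).2
  rw [star_add, star_one, h3, add_mul, one_mul, mul_add, mul_one, mul_neg, h4]
  have h5 : star x * x = (c + star c) * (star x * x) := by rw [h1, one_mul]
  nth_rewrite 3 [h5]
  noncomm_ring

/-- a long root element is a commutator of isometries -/
theorem eich_comm [Finite A] (F : FR A) {c x μ : A} (hc : c ∈ Subring.center A) (h1 : c + star c = 1)
    (hμ : μ ∈ Subring.center A) (hx : x * x = 0) (hx' : x * star x = 0) :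
    ∃ t ∈ (⁅F.Iso, F.Iso⁆ : Subgroup Aˣ), (t : A) = 1 + (star μ - μ) * (star x * x) := by
  have hμ' := star_cen hμ
  have e1 : star (μ * x) = star μ * star x := by rw [star_mul, cen_comm hμ']
  have h2 : star x * star x = 0 := by rw [← star_mul, hx, star_zero]
  have a1 : ∀ {d y z : A}, d ∈ Subring.center A → y * z = 0 → y * (d * z) = 0 := fun hd h0 => by
    rw [← mul_assoc, cen_comm hd, mul_assoc, h0, mul_zero]
  have a2 : ∀ {d y z : A}, y * z = 0 → d * y * z = 0 := fun h0 => by rw [mul_assoc, h0, mul_zero]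
  have h3 := eich_uni hc h1 hx hx'
  have h4 := eich_uni (x := μ * x) hc h1 (a2 (a1 hμ hx)) (by rw [e1]; exact a2 (a1 hμ' hx'))
  have hL := F.L_eq hc h1
  refine ⟨⁅mkU _ h3, mkU _ h4⁆, Subgroup.commutator_mem_commutator (mem_Iso_max hL h3) (mem_Iso_max hL h4), ?_⟩
  rw [commutatorElement_def, Units.val_mul, Units.val_mul, Units.val_mul, Units.mul_inv_eq_iff_eq_mul,
    Units.mul_inv_eq_iff_eq_mul, mkU_val, mkU_val, e1]
  obtain ⟨b1, b2⟩ := eich_mul (c := c) (q := star x) hc (a1 hμ hx) (a1 hμ' hx') (a1 hμ' h2)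
  obtain ⟨b3, -⟩ := eich_mul (c := c) (q := star x) hc hx hx' h2
  obtain ⟨-, b4⟩ := eich_mul (c := c) (p := μ * x) (q := star μ * star x) hc (a2 hx) (a2 hx') (a2 h2)
  set a := x - star x - c * (star x * x)
  set a' := μ * x - star μ * star x - c * (star μ * star x * (μ * x))
  have b5 : star x * (μ * x) = μ * (star x * x) := by rw [← mul_assoc, cen_comm hμ, mul_assoc]
  have b6 : (1 + (star μ - μ) * (star x * x)) * (1 + a') * (1 + a) =
      1 + a + a' + a' * a + (star μ - μ) * (star x * x) + (star μ - μ) * star x * (x * a') * (1 + a) +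
        (star μ - μ) * star x * (x * a) := by noncomm_ring
  rw [b6, b1, b3, b4, add_mul, one_mul, mul_add, mul_one, b2, b5]
  noncomm_ring

variable {K V : Type} [Field K] [AddCommGroup V] [Module K V]

/-- the ring of a linear or unitary group -/
structure LU (π : A →+* End K V) (c η θ : A) : Prop where
  surj : Function.Surjective π
  c_cen : c ∈ Subring.center A
  c_add : c + star c = 1
  c_ker : ∀ a, π a = 0 → c * a = 0
  η_cen : η ∈ Subring.center A
  η_one : π η = 1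
  η_ker : ∀ a, π a = 0 → η * a = 0
  θ_cen : θ ∈ Subring.center A
  θ_unit : IsUnit (θ - star θ)

namespace LU

variable {π : A →+* End K V} {c η θ : A} (h : LU π c η θ)
include h

theorem sep (a : A) (h1 : π a = 0) (h2 : π (star a) = 0) : a = 0 := by
  have h3 := congrArg star (h.c_ker _ h2)
  rw [star_mul, star_star, star_zero, cen_comm (star_cen h.c_cen)] at h3
  rw [← one_mul a, ← h.c_add, add_mul, h.c_ker a h1, h3, add_zero]

theorem sep_symm {a : A} (ha : star a = a) (h1 : π a = 0) : a = 0 := h.sep a h1 (by rw [ha, h1])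

theorem exists_cen (k : K) : ∃ d ∈ Subring.center A, π d = k • 1 := by
  obtain ⟨a, ha⟩ := h.surj (k • 1)
  refine ⟨η * a, Subring.mem_center_iff.2 fun y => ?_, by rw [map_mul, h.η_one, one_mul, ha]⟩
  have h1 := h.η_ker (y * a - a * y) (by rw [map_sub, map_mul, map_mul, ha]; simp)
  rw [mul_sub, sub_eq_zero] at h1
  rw [← mul_assoc, cen_comm h.η_cen, mul_assoc, h1, mul_assoc]

theorem cen_of {a : A} {k k' : K} (h1 : π a = k • 1) (h2 : π (star a) = k' • 1) : a ∈ Subring.center A := by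
  refine Subring.mem_center_iff.2 fun y => sub_eq_zero.1 (h.sep _ ?_ ?_)
  · rw [map_sub, map_mul, map_mul, h1]; simp
  · rw [star_sub, star_mul, star_mul, map_sub, map_mul, map_mul, h2]; simp only [_root_.Algebra.smul_mul_assoc, _root_.one_mul, _root_.Algebra.mul_smul_comm, _root_.mul_one, _root_.sub_self]

theorem scal_of {a : A} (ha : a ∈ Subring.center A) : ∃ k : K, π a = k • 1 := by
  have h1 : π a ∈ Subalgebra.center K (End K V) := Subalgebra.mem_center_iff.2 fun y => by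
    obtain ⟨b, rfl⟩ := h.surj y
    rw [← map_mul, ← map_mul, cen_comm ha]
  rw [Algebra.IsCentral.center_eq_bot, Algebra.mem_bot] at h1
  obtain ⟨k, hk⟩ := h1
  exact ⟨k, by rw [← hk, Algebra.algebraMap_eq_smul_one]⟩

/-- transvections lie in the commutator group of the isometry group -/
theorem transv [Finite A] [Module.Finite K V] (F : FR A) (h3 : 3 ≤ finrank K V) {s : A} (hs : star s = -s) {v : V}
    (hv : v ≠ 0) {f : V →ₗ[K] K} (hf : f ≠ 0) (hfv : f v = 0) (hπ : π s = f.smulRight v) :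
    s * s = 0 ∧ ∃ t ∈ (⁅F.Iso, F.Iso⁆ : Subgroup Aˣ), (t : A) = 1 + s := by
  have hsa : ∀ w, π s w = f w • v := fun w => by rw [hπ, LinearMap.smulRight_apply]
  have hsas : ∀ a, π (s * a * s) = f (π a v) • π s := fun a => LinearMap.ext fun w => by
    rw [map_mul, map_mul, Module.End.mul_apply, Module.End.mul_apply, hsa w, map_smul, map_smul, hsa,
      LinearMap.smul_apply, hsa, smul_comm]
  have hss : s * s = 0 := h.sep_symm (by rw [star_mul, hs, neg_mul_neg]) (by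
    have := hsas 1
    rwa [mul_one, map_one, Module.End.one_apply, hfv, zero_smul] at this)
  refine ⟨hss, ?_⟩
  obtain ⟨y, hy, hy'⟩ : ∃ y, s * y * s = 0 ∧ f (π (star y * y) v) ≠ 0 := by
    by_contra hcon
    push Not at hcon
    have h1 : ∀ y, s * y * s = 0 → ∀ y', s * y' * s = 0 → f (π (star y * y') v) + f (π (star y' * y) v) = 0 := by
      intro y hy y' hy'
      have h2 := hcon (y + y') (by rw [mul_add, add_mul, hy, hy', add_zero])
      simp only [star_add, add_mul, mul_add, map_add, LinearMap.add_apply, hcon y hy, hcon y' hy', zero_add,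
        add_zero] at h2
      rwa [add_comm] at h2
    obtain ⟨k, hk⟩ := h.scal_of h.θ_cen
    obtain ⟨k', hk'⟩ := h.scal_of (star_cen h.θ_cen)
    have hkk : k - k' ≠ 0 := fun h0 => by
      have h2 := h.θ_unit.map π
      rw [map_sub, hk, hk', ← sub_smul, h0, zero_smul] at h2
      exact hv (by simpa using LinearMap.congr_fun (isUnit_zero_iff.1 h2) v |>.symm)
    have h2 : ∀ y, s * y * s = 0 → ∀ y', s * y' * s = 0 → f (π (star y * y') v) = 0 := by
      intro y hy y' hy'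
      have h4 := h1 y hy y' hy'
      have h5 := h1 y hy (θ * y') (by
        rw [← mul_assoc, cen_comm h.θ_cen, mul_assoc θ, mul_assoc θ, hy', mul_zero])
      rw [← mul_assoc, cen_comm h.θ_cen, mul_assoc, star_mul, cen_comm (star_cen h.θ_cen), mul_assoc,
        map_mul π θ, map_mul π (star θ), hk, hk'] at h5
      simp only [smul_mul_assoc, one_mul, LinearMap.smul_apply, map_smul, smul_eq_mul] at h5
      exact (mul_eq_zero.1 (by linear_combination h5 - k' * h4)).resolve_left hkk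
    obtain ⟨u, hu⟩ : ∃ u, f u = 1 := by
      obtain ⟨u, hu⟩ : ∃ u, f u ≠ 0 := by
        by_contra hc
        push Not at hc
        exact hf (LinearMap.ext hc)
      exact ⟨(f u)⁻¹ • u, by rw [map_smul, smul_eq_mul, inv_mul_cancel₀ hu]⟩
    obtain ⟨φ, hφ⟩ := Module.Projective.exists_dual_eq_one K hv
    obtain ⟨w, hw0, hw1, hw2⟩ : ∃ w, w ≠ 0 ∧ f w = 0 ∧ φ w = 0 := by
      have h1 := LinearMap.ker_ne_bot_of_finrank_lt (f := f.prod φ) (by simp; omega)
      obtain ⟨w, hw, hw0⟩ := Submodule.exists_mem_ne_zero_of_ne_bot h1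
      exact ⟨w, hw0, congrArg Prod.fst (LinearMap.mem_ker.1 hw), congrArg Prod.snd (LinearMap.mem_ker.1 hw)⟩
    obtain ⟨ψ, hψ⟩ := Module.Projective.exists_dual_eq_one K hw0
    obtain ⟨a', ha'⟩ := h.surj (φ.smulRight w)
    obtain ⟨a, ha⟩ := h.surj ((ψ - ψ v • φ).smulRight u)
    have h4 : ∀ a, f (π a v) = 0 → s * (η * a) * s = 0 := fun a h0 => by
      rw [← mul_assoc, cen_comm h.η_cen, mul_assoc η, mul_assoc η]
      exact h.η_ker _ (by rw [hsas, h0, zero_smul])
    have h5 := h4 a (by simp [ha, hφ])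
    have h6 := h2 (star (η * a)) (by
      have h6 := congrArg star h5
      rwa [star_mul, star_mul, hs, star_zero, neg_mul, mul_neg, mul_neg, neg_neg, ← mul_assoc] at h6) _
      (h4 a' (by simp [ha', hφ, hw1]))
    simp only [h.η_one, ha, ha', hφ, hψ, hw2, hu, _root_.StarMul.star_mul, _root_.star_star, _root_.map_mul, _root_.one_mul, _root_.Module.End.mul_apply, _root_.LinearMap.coe_smulRight, _root_.one_smul, _root_.LinearMap.sub_apply, _root_.LinearMap.smul_apply, _root_.smul_eq_mul, _root_.MulZeroClass.mul_zero, _root_.sub_zero, _root_.one_ne_zero] at h6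
  have e1 : star (y * s) = -(s * star y) := by rw [star_mul, hs, neg_mul]
  obtain ⟨d, hd, hd'⟩ := h.exists_cen (-(f (π (star y * y) v))⁻¹)
  have e2 : star (y * s) * (y * s) = -(s * (star y * y) * s) := by rw [e1]; noncomm_ring
  have e3 := h.c_ker (d * (star (y * s) * (y * s)) - s) (by
    rw [map_sub, map_mul, hd', e2, map_neg, hsas, smul_mul_assoc, one_mul, smul_neg, neg_smul, neg_neg, smul_smul,
      inv_mul_cancel₀ hy', one_smul, sub_self])
  rw [mul_sub, sub_eq_zero, ← mul_assoc] at e3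
  have hcd := Subring.mul_mem _ h.c_cen hd
  have e4 := congrArg star e3
  rw [star_mul, star_mul, star_star, cen_comm (star_cen hcd), star_mul c s, hs, cen_comm (star_cen h.c_cen)] at e4
  obtain ⟨t, ht, ht'⟩ := eich_comm F (x := y * s) h.c_cen h.c_add (star_cen hcd)
    (by rw [mul_assoc, ← mul_assoc s, hy, mul_zero])
    (by rw [e1, mul_neg, mul_assoc, ← mul_assoc s, hss, zero_mul, mul_zero, neg_zero])
  refine ⟨t, ht, ?_⟩
  rw [ht', star_star, sub_mul, e3, e4, mul_neg, sub_neg_eq_add, ← add_mul, h.c_add, one_mul]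

end LU

end Cfsg.Agent.SB.Fld
end

-- part: SB/Fld/Singer
section
/-!
# S5765: normalizers of Singer cycles in linear and unitary groups have base size at most three (helper52)
-/

set_option autoImplicit false

namespace Cfsg.Agent.SB.Fld

open Module Cfsg.Agent.DS.Cl Cfsg.Agent.DS.Cl.Fwd Cfsg.Agent.SB.Cl

variable {A : Type} [Ring A] [StarRing A] {K V : Type} [Field K] [AddCommGroup V] [Module K V]

namespace LU

variable {π : A →+* End K V} {c η θ : A} (h : LU π c η θ)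
include h

/-- the image of `Z` -/
def img (Z : Subring A) (hZ : Subring.center A ≤ Z) : Subalgebra K (End K V) where
  carrier := π '' Z
  mul_mem' := by
    rintro _ _ ⟨a, ha, rfl⟩ ⟨b, hb, rfl⟩
    exact ⟨a * b, Z.mul_mem ha hb, map_mul π a b⟩
  add_mem' := by
    rintro _ _ ⟨a, ha, rfl⟩ ⟨b, hb, rfl⟩
    exact ⟨a + b, Z.add_mem ha hb, map_add π a b⟩
  algebraMap_mem' := fun k => by
    obtain ⟨d, hd, hd'⟩ := h.exists_cen k
    exact ⟨d, hZ hd, by rw [hd', Algebra.algebraMap_eq_smul_one]⟩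

theorem img_field [Finite A] [Nontrivial V] {Z : Subring A} (hZ : ComSub Z)
    (hE : ∀ z ∈ Z, π z ≠ 0 → IsUnit (π z)) : IsField (h.img Z hZ.1) := by
  have hfin : Finite (End K V) := Finite.of_surjective π h.surj
  refine ⟨⟨0, 1, zero_ne_one⟩, ?_, fun {a} ha => ?_⟩
  · rintro ⟨_, a, ha, rfl⟩ ⟨_, b, hb, rfl⟩
    exact Subtype.ext (show π a * π b = π b * π a by rw [← map_mul, ← map_mul, hZ.2.2 a ha b hb])
  · have h1 : IsUnit (a : End K V) := by
      obtain ⟨_, z, hz, rfl⟩ := a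
      exact hE z hz fun h0 => ha (Subtype.ext h0)
    exact Finite.surjective_of_injective (f := fun b => a * b)
      (fun b b' hb => Subtype.ext (h1.mul_left_cancel (congrArg Subtype.val hb))) 1

theorem cent {Z : Subring A} (hZ : ComSub Z) (hM : MaxF (h.img Z hZ.1)) {a : A} (ha : ∀ z ∈ Z, z * a = a * z) :
    a ∈ Z := by
  have key : ∀ a : A, (∀ z ∈ Z, z * a = a * z) → c * a ∈ Z := by
    intro a ha
    obtain ⟨z, hz, hz'⟩ := hM.cent (π a) (by
      rintro _ ⟨z, hz, rfl⟩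
      rw [← map_mul, ← map_mul, ha z hz])
    have h1 := h.c_ker (a - z) (by rw [map_sub, hz', sub_self])
    rw [mul_sub, sub_eq_zero] at h1
    rw [h1]
    exact Z.mul_mem (hZ.1 h.c_cen) hz
  have h1 := hZ.2.1 _ (key (star a) fun z hz => by
    have h2 := congrArg star (ha _ (hZ.2.1 z hz))
    rw [star_mul, star_mul, star_star] at h2
    exact h2.symm)
  rw [star_mul, star_star, cen_comm (star_cen h.c_cen)] at h1
  have h2 := Z.add_mem (key a ha) h1
  rwa [← add_mul, h.c_add, one_mul] at h2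

/-- **Singer cycles** -/
theorem four [Finite A] [Finite K] [Finite V] (F : FR A) (hA : SS A) (h3 : 3 ≤ finrank K V) {Z : Subring A}
    (hZ : ComSub Z) (hE : ∀ z ∈ Z, π z ≠ 0 → IsUnit (π z)) (hc : Nat.card V ≤ Nat.card (h.img Z hZ.1))
    {s : A} (hs : star s = -s) {v : V} (hv : v ≠ 0) {f : V →ₗ[K] K} (hf : f ≠ 0) (hπ : π s = f.smulRight v)
    (hnum : ∀ Q q : ℕ, Nat.card Z ≤ Q * Q → 2 ≤ q → q * q ≤ Nat.card (Subring.center A) →
      4 * Nat.card K ≤ Q ∧ (q + 2) ^ 2 < Q)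
    {S : Subgroup (RingAut A)} (hS : S ≤ F.Aut) (hI : _root_.Cfsg.Agent.DS.Cl.Inv S Z) : Four F.S S := by
  have : Nontrivial V := ⟨⟨v, 0, hv⟩⟩
  have hfin : Finite (End K V) := Finite.of_surjective π h.surj
  have hEf := h.img_field hZ hE
  have hM := maxF_of_card hEf hv hc
  set E := h.img Z hZ.1
  let _ : Field E := hEf.toField
  set B := Blk.ofSubring Z hZ.2.1
  let _ : CommRing B.T := { (inferInstance : Ring B.T) with
    mul_comm := fun x y => B.val_inj (hZ.2.2 _ (B.val_mem x) _ (B.val_mem y)) }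
  let ρ : B.T →+* E :=
    { toFun := fun x => ⟨π (B.val x), _, B.val_mem x, rfl⟩
      map_one' := Subtype.ext (map_one π)
      map_mul' := fun x y => Subtype.ext (map_mul π _ _)
      map_zero' := Subtype.ext (map_zero π)
      map_add' := fun x y => Subtype.ext (map_add π _ _) }
  have hρ : Sep ρ := fun a h1 h2 => B.val_inj (h.sep _ (congrArg Subtype.val h1) (congrArg Subtype.val h2))
  have hθ : IsUnit (B.mk' θ (hZ.1 h.θ_cen) - star (B.mk' θ (hZ.1 h.θ_cen))) := by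
    obtain ⟨u, hu⟩ := h.θ_unit
    have h1 : (u : A) ∈ Subring.center A := hu ▸ Subring.sub_mem _ h.θ_cen (star_cen h.θ_cen)
    refine IsUnit.of_mul_eq_one (B.mk' _ (hZ.1 (inv_cen h1))) (B.val_inj ?_)
    change (θ - star θ) * ((u⁻¹ : Aˣ) : A) = 1
    rw [← hu, Units.mul_inv]
  let C : Subring B.T :=
    { carrier := {x | B.val x ∈ Subring.center A}
      mul_mem' := fun ha hb => (Subring.center A).mul_mem ha hb
      one_mem' := (Subring.center A).one_mem
      add_mem' := fun ha hb => (Subring.center A).add_mem ha hb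
      zero_mem' := (Subring.center A).zero_mem
      neg_mem' := fun {a} ha => show B.val (-a) ∈ Subring.center A by rw [map_neg]; exact neg_mem ha }
  obtain ⟨n1, n2⟩ := hnum (Nat.card (sym B.T)) (Nat.card ↥(C ⊓ sym B.T)) (card_le_sq (R := B.T) hθ)
    (hρ.two_le_card _ inf_le_right) ((sq_le_card hθ C h.θ_cen).trans (Nat.card_le_card_of_injective
      (fun x : C => (⟨B.val x, x.2⟩ : Subring.center A)) fun a b hab =>
        Subtype.ext (B.val_inj (Subtype.mk.inj hab))))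
  obtain ⟨u, hu, hfaith⟩ := hρ.faithful hθ C (fun a ha => star_cen ha) n2
  let ι : B.T →+ End K V := π.toAddMonoidHom.comp B.val
  obtain ⟨_, ⟨y, hy, rfl⟩, hy0, hyv, hgood⟩ := hM.exists_good hv f ((sym B.T).toAddSubgroup.map ι)
    (by rintro _ ⟨y, -, rfl⟩; exact ⟨_, B.val_mem y, rfl⟩)
    (n1.trans (Nat.card_le_card_of_injective (fun x : sym B.T => ⟨ι x, x, x.2, rfl⟩) fun a b hab =>
      Subtype.ext (hρ.sym_inj a.2 b.2 (Subtype.ext (Subtype.mk.inj hab)))))
  obtain ⟨w, hw⟩ := hρ.norm_surj hθ hy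
  have hwZ : B.val w ∈ Z := B.val_mem w
  set W := B.val w
  have hW : π W * π (star W) = ι y := by rw [← map_mul]; exact congrArg (fun x => π (B.val x)) hw
  have hWE : π W ∈ E := ⟨_, hwZ, rfl⟩
  have hWE' : π (star W) ∈ E := ⟨_, hZ.2.1 _ hwZ, rfl⟩
  have hf' : ∀ b ∈ E, f (π (star W) (b (π W v))) = f ((b * ι y) v) := fun b hb => by
    rw [← hW, hM.comm hWE hWE', ← mul_assoc, hM.comm hb hWE']; rfl
  have hv1 : π W v ≠ 0 := fun h0 => hy0 (by rw [← hW, hM.eq_zero hWE hv h0, zero_mul])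
  have hf1 : f.comp (π (star W)) ≠ 0 := fun h0 => by
    obtain ⟨d, -, hd, -⟩ := hM.inv hWE' fun h1 => hy0 (by rw [← hW, h1, mul_zero])
    refine hf (LinearMap.ext fun x => ?_)
    have h1 := LinearMap.congr_fun h0 (d x)
    rwa [LinearMap.comp_apply, ← Module.End.mul_apply, hd] at h1
  have hfv1 : f.comp (π (star W)) (π W v) = 0 := by
    have h1 := hf' 1 (one_mem E)
    rw [one_mul, hyv] at h1
    exact h1
  have hπ1 : π (W * s * star W) = (f.comp (π (star W))).smulRight (π W v) := LinearMap.ext fun x => by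
    rw [map_mul, map_mul, hπ]; simp only [_root_.Module.End.mul_apply, _root_.LinearMap.coe_smulRight, _root_.map_smul, _root_.LinearMap.coe_comp, _root_.Function.comp_apply]
  obtain ⟨hss, t, ht, ht'⟩ := h.transv F h3 (s := W * s * star W)
    (by rw [star_mul, star_mul, star_star, hs, neg_mul, mul_neg, mul_assoc]) hv1 hf1 hfv1 hπ1
  have ht'' : ((t⁻¹ : Aˣ) : A) = 1 - W * s * star W :=
    (Units.eq_inv_of_mul_eq_one_left (by rw [ht', add_mul, one_mul, mul_sub, mul_one, hss]; abel)).symm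
  have hx : cj A t ∈ F.S := ⟨t, ht, rfl⟩
  have hNS : F.Aut ⊓ _root_.Cfsg.Agent.DS.Cl.Fix (Z : Set A) ≤ F.Aut ⊓ B.stab :=
    inf_le_inf_left _ (Blk.mem_stab fun γ hγ x hx => by rw [hγ x hx]; exact hx)
  have hNn : ∀ k ∈ F.Aut ⊓ B.stab, ∀ γ ∈ F.Aut ⊓ _root_.Cfsg.Agent.DS.Cl.Fix (Z : Set A), k * γ * k⁻¹ ∈ F.Aut ⊓ _root_.Cfsg.Agent.DS.Cl.Fix (Z : Set A) :=
    fun k hk γ hγ => ⟨F.Aut.mul_mem (F.Aut.mul_mem hk.1 hγ.1) (F.Aut.inv_mem hk.1), fun x hx => by
      rw [ra_mul, ra_mul, hγ.2 _ (((B.stab.inv_mem hk.2) x).1 hx), ra_apply_inv]⟩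
  have hxN : ∀ γ ∈ F.Aut ⊓ _root_.Cfsg.Agent.DS.Cl.Fix (Z : Set A), (cj A t)⁻¹ * γ * cj A t ∈ F.Aut ⊓ B.stab → γ = 1 := by
    intro γ hγ hγ'
    obtain ⟨z, rfl⟩ := hA.sn (γ := γ) fun d hd => hγ.2 d (hZ.1 hd)
    have hz : (z : A) ∈ Z := h.cent hZ hM fun x hx => by rw [← cj_mul_eq, hγ.2 x hx]
    rw [← map_inv, ← map_mul, ← map_mul] at hγ'
    have hz0 : π z * π (z⁻¹ : Aˣ) = 1 := by rw [← map_mul, Units.mul_inv, map_one]
    rcases hM.bad h3 hv1 hf1 hfv1 (a := π z) ⟨_, hz, rfl⟩ (by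
      rintro _ ⟨b, hb, rfl⟩
      refine ⟨_, ⟨_, (hγ'.2 b).1 hb, rfl⟩, ?_⟩
      have h1 := congrArg π (cj_mul_eq (t⁻¹ * z * t) b)
      rw [cj_apply, Units.inv_mul_cancel_right] at h1
      have h2 : π ((t⁻¹ * z * t : Aˣ) : A) = (1 - π (W * s * star W)) * π z * (1 + π (W * s * star W)) := by
        rw [Units.val_mul, Units.val_mul, ht', ht'', map_mul, map_mul, map_sub, map_add, map_one]
      rw [← hπ1, ← h2, ← map_mul, ← map_mul, cj_mul_eq]) with ⟨k, hk⟩ | h1
    · obtain ⟨k', hk'⟩ := h.scal_of (cj_SAut_cen hγ.1.1)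
      have hk0 : k ≠ 0 := fun h0 => by
        rw [hk, h0, zero_smul, zero_mul] at hz0
        exact zero_ne_one hz0
      rw [map_mul, hk, mul_smul_comm, mul_one] at hk'
      exact cj_eq_one_iff.2 (h.cen_of hk (k' := k⁻¹ * k') (by
        rw [mul_smul, ← hk', smul_smul, inv_mul_cancel₀ hk0, one_smul]))
    · refine absurd (fun b hb => ?_) (hgood (π z) ⟨_, hz, rfl⟩ fun h0 => by
        rw [h0, zero_mul] at hz0
        exact zero_ne_one hz0)
      rw [h1 b hb, ← hf' b hb, ← hf' _ ⟨_, hz, rfl⟩]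
      rfl
  have hu' : B.val u * star (B.val u) = 1 := congrArg B.val hu
  have hvN : cj A (mkU _ hu') ∈ F.Aut ⊓ _root_.Cfsg.Agent.DS.Cl.Fix (Z : Set A) :=
    ⟨FR.cj_mem_Aut (mem_Iso_max (F.L_eq h.c_cen h.c_add) hu'), fun x hx =>
      cj_eq_of_mul (hZ.2.2 _ (B.val_mem u) x hx)⟩
  refine Four.mono (S' := F.Aut ⊓ B.stab) ⟨_, hx, _, FR.conj_mem_S hvN.1 hx, _, hx, fun k hk a0 a1 _ => ?_⟩
    (le_inf hS (Blk.mem_stab hI))
  have h1 := trick_key hNS hNn hxN hvN hvN hk a0 a1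
  rw [conj_cj, cj_eq_iff] at h1
  obtain ⟨z, hz, hz'⟩ := h1
  have h2 := hfaith (B.res ⟨k, hk.2⟩ : B.T →+* B.T) (B.res_SAut (γ := ⟨k, hk.2⟩) hk.1.1)
    ⟨B.mk' z (hZ.1 hz), hz, B.val_inj (by
      have h2 := congrArg Units.val hz'
      rw [um_val, Units.val_mul, mkU_val, cen_comm hz] at h2
      exact h2)⟩
  exact hxN k ⟨hk.1, fun x hx => congrArg B.val (h2 (B.mk' x hx))⟩ a0

end LU

end Cfsg.Agent.SB.Fld
end

-- part: SB/Fld/Rows
section
/-!
# S5765: the rows `RowLSing`, `RowUSing` (helper52)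
-/

set_option autoImplicit false

namespace Cfsg.Agent.SB.Fld

open Module Cfsg.Agent.DS.Cl Cfsg.Agent.DS.Cl.Fwd Cfsg.Agent.SB.Cl
open scoped Matrix

section L

variable {n : ℕ} {K : Type} [Field K]

/-- the first component -/
noncomputable def prL (n : ℕ) (K : Type) [Field K] : LR (Fin n) K →+* End K (Fin n → K) :=
  (Matrix.toLinAlgEquiv' (n := Fin n) (R := K)).toRingEquiv.toRingHom.comp
    (RingHom.fst (Matrix (Fin n) (Fin n) K) (Matrix (Fin n) (Fin n) K))

theorem prL_apply (a : LR (Fin n) K) : prL n K a = Matrix.toLinAlgEquiv' a.1 := rfl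

theorem luL [Finite K] : LU (prL n K) (LR.mk 1 0) (LR.mk 1 0) (LR.mk 1 0) := by
  have h1 : (LR.mk 1 0 : LR (Fin n) K) ∈ Subring.center (LR (Fin n) K) := Subring.mem_center_iff.2 fun a => by
    obtain ⟨a, b, rfl⟩ := LR.exists_mk a
    rw [LR.mk_mul, LR.mk_mul, mul_one, one_mul, mul_zero, zero_mul]
  have h2 : ∀ a : LR (Fin n) K, prL n K a = 0 → LR.mk 1 0 * a = 0 := fun a ha => by
    obtain ⟨a, b, rfl⟩ := LR.exists_mk a
    have h3 : a = 0 := (map_eq_zero_iff _ (Matrix.toLinAlgEquiv' (n := Fin n) (R := K)).injective).1 ha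
    rw [LR.mk_mul, h3, mul_zero, zero_mul, LR.zero_eq]
  refine ⟨fun x => ⟨LR.mk (Matrix.toLinAlgEquiv'.symm x) 0, Matrix.toLinAlgEquiv'.apply_symm_apply x⟩, h1, LR.half, h2,
    h1, map_one (Matrix.toLinAlgEquiv' (n := Fin n) (R := K)), h2, h1, IsUnit.of_mul_eq_one (LR.mk 1 (-1)) ?_⟩
  rw [LR.star_mk, LR.mk_sub, LR.mk_mul, LR.one_eq]
  simp

theorem fourL [Finite K] (F : FR (LR (Fin n) K)) (hA : SS (LR (Fin n) K)) (h3 : 3 ≤ n)
    (h4 : n ≤ 4 → 3 ≤ Nat.card K) {Z : Subring (LR (Fin n) K)} (hZ : ComSub Z) (hE : ∀ x ∈ Z, x.1 ≠ 0 → IsUnit x.1)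
    (hc : Nat.card Z = Nat.card K ^ (2 * n)) {S : Subgroup (RingAut (LR (Fin n) K))} (hS : S ≤ F.Aut)
    (hI : _root_.Cfsg.Agent.DS.Cl.Inv S Z) : Four F.S S := by
  have h := luL (n := n) (K := K)
  have hk : 2 ≤ Nat.card K := Finite.one_lt_card
  have hfin : Finite (End K (Fin n → K)) := Finite.of_surjective _ h.surj
  let i : Fin n := ⟨0, by omega⟩
  refine h.four F hA (by simpa only [_root_.Module.finrank_fintype_fun_eq_card, _root_.Fintype.card_fin] using h3) hZ (fun z hz h0 => (hE z hz fun h1 => h0 (by rw [prL_apply, h1, map_zero])).map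
      (Matrix.toLinAlgEquiv' (n := Fin n) (R := K))) ?_
    (s := LR.mk (Matrix.single i i 1) (-Matrix.single i i 1)) ?_ (v := Pi.single i 1) (by simp)
    (f := LinearMap.proj i) (fun h0 => by simpa using LinearMap.congr_fun h0 (Pi.single i 1)) ?_ ?_ hS hI
  · have h1 : Nat.card Z ≤ Nat.card (h.img Z hZ.1) * Nat.card (h.img Z hZ.1) := by
      rw [← Nat.card_prod]
      refine Nat.card_le_card_of_injective (fun z : Z => ((⟨_, z, z.2, rfl⟩, ⟨_, star (z : LR (Fin n) K),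
        hZ.2.1 _ z.2, rfl⟩) : h.img Z hZ.1 × h.img Z hZ.1)) fun a b hab => Subtype.ext (sub_eq_zero.1 (h.sep _ ?_ ?_))
      · rw [map_sub, sub_eq_zero]
        exact Subtype.mk.inj (Prod.mk.inj hab).1
      · rw [star_sub, map_sub, sub_eq_zero]
        exact Subtype.mk.inj (Prod.mk.inj hab).2
    rw [hc, two_mul, pow_add] at h1
    rw [Nat.card_fun, Nat.card_fin]
    exact Nat.mul_self_le_mul_self_iff.1 h1
  · rw [LR.star_mk, Matrix.transpose_neg, Matrix.transpose_single]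
    exact Prod.ext rfl (neg_neg _).symm
  · refine LinearMap.ext fun w => ?_
    rw [prL_apply, Matrix.toLinAlgEquiv'_apply]
    change (Matrix.single i i (1 : K)) *ᵥ w = w i • (Pi.single i 1 : Fin n → K)
    rw [Matrix.single_mulVec, one_mul]
    funext j
    by_cases hj : j = i
    · subst hj; simp
    · simp [hj]
  · intro Q q h1 h2 h5
    have h6 : Nat.card (Subring.center (LR (Fin n) K)) ≤ Nat.card K * Nat.card K := by
      rw [← Nat.card_prod]
      refine Nat.card_le_card_of_injective (fun a => ((h.scal_of a.2).choose, (h.scal_of (star_cen a.2)).choose))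
        fun a b hab => Subtype.ext (sub_eq_zero.1 (h.sep _ ?_ ?_))
      · rw [map_sub, (h.scal_of a.2).choose_spec, (h.scal_of b.2).choose_spec, (Prod.mk.inj hab).1, sub_self]
      · rw [star_sub, map_sub, (h.scal_of (star_cen a.2)).choose_spec, (h.scal_of (star_cen b.2)).choose_spec,
          (Prod.mk.inj hab).2, sub_self]
    rw [hc, two_mul, pow_add] at h1
    have h7 := Nat.mul_self_le_mul_self_iff.1 h1
    have h8 := Nat.mul_self_le_mul_self_iff.1 (h5.trans h6)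
    set k := Nat.card K
    have h9 : k ^ 3 ≤ Q := (Nat.pow_le_pow_right (by omega) h3).trans h7
    refine ⟨by nlinarith only [hk, h9, _root_.mul_self_nonneg (↑k : ℤ), _root_.Nat.cast_nonneg (α := ℤ) (k)], ?_⟩
    by_cases h10 : 3 ≤ k
    · nlinarith only [h6, h8, h9, h10]
    · have h11 : k ^ 5 ≤ Q := (Nat.pow_le_pow_right (by omega) (by omega)).trans h7
      obtain rfl : q = 2 := by omega
      rw [show k = 2 by omega] at h11
      omega

end L

section U

variable {K V : Type} [Field K] [Finite K] [AddCommGroup V] [Module K V] [Finite V] (h : HF K V)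

/-- the identity -/
def prU : h.EB →+* End K V := RingHom.id (End K V)

theorem star_smul_one (c : K) : star (h.eb (c • 1)) = h.eb (h.τ c • 1) := h.ap_ext fun v => h.ext_right fun u => by
  rw [h.b_star, h.ap_eb, h.ap_eb, LinearMap.smul_apply, LinearMap.smul_apply, h.smul_left, h.smul_right,
    h.τ_τ]
  rfl

theorem luU {θ : K} (hθ : h.τ θ ≠ θ) : LU (prU h) (h.eb ((θ / (θ - h.τ θ)) • 1)) 1 (h.eb (θ • 1)) := by
  have h0 : θ - h.τ θ ≠ 0 := sub_ne_zero.2 hθ.symm
  have h1 : h.τ θ - θ ≠ 0 := sub_ne_zero.2 hθ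
  refine ⟨Function.surjective_id, h.smul_mem_center _, ?_, fun a (ha : a = 0) => by rw [ha, mul_zero],
    Subring.one_mem _, rfl, fun a (ha : a = 0) => by rw [ha, mul_zero], h.smul_mem_center _,
    IsUnit.of_mul_eq_one (h.eb ((θ - h.τ θ)⁻¹ • 1)) ?_⟩
  · rw [star_smul_one]
    change (θ / (θ - h.τ θ)) • (1 : End K V) + h.τ (θ / (θ - h.τ θ)) • (1 : End K V) = 1
    rw [← add_smul, map_div₀, map_sub, h.τ_τ]
    convert one_smul K (1 : End K V) using 2
    field_simp
    ring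
  · rw [star_smul_one]
    change (θ • (1 : End K V) - h.τ θ • (1 : End K V)) * ((θ - h.τ θ)⁻¹ • (1 : End K V)) = 1
    rw [← sub_smul, smul_mul_smul_comm, mul_inv_cancel₀ h0, one_mul, one_smul]

theorem fourU (F : FR h.EB) (hU : IsU h) (h5 : 5 ≤ finrank K V) {Z : Subring h.EB} (hZ : ComSub Z)
    (hE : ∀ x ∈ Z, x ≠ 0 → IsUnit x) (hc : Nat.card Z = Nat.card K ^ finrank K V) {S : Subgroup (RingAut h.EB)}
    (hS : S ≤ F.Aut) (hI : _root_.Cfsg.Agent.DS.Cl.Inv S Z) : Four F.S S := by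
  obtain ⟨hε, θ, hθ⟩ := hU
  have hl := luU h hθ
  have hfin : Finite (End K V) := Finite.of_surjective _ hl.surj
  have : Nontrivial V := Module.nontrivial_of_finrank_pos (R := K) (by omega)
  obtain ⟨v, hv⟩ := exists_ne (0 : V)
  have h0 : θ - h.τ θ ≠ 0 := sub_ne_zero.2 hθ.symm
  refine hl.four F h.ss (by omega) hZ hE ?_ (s := h.eb (((θ - h.τ θ) • h.lin v).smulRight v)) ?_ hv
    (f := (θ - h.τ θ) • h.lin v) (fun h1 => ?_) rfl ?_ hS hI
  · rw [Module.natCard_eq_pow_finrank (K := K) (V := V), ← hc]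
    exact Nat.card_le_card_of_injective (fun z : Z => ⟨_, z, z.2, rfl⟩) fun a b hab => Subtype.ext (Subtype.mk.inj hab)
  · refine h.ap_ext fun y => h.ext_right fun u => ?_
    rw [h.b_star]
    change h.b (((θ - h.τ θ) * h.b u v) • v) y = h.b u (-(((θ - h.τ θ) * h.b y v) • v))
    rw [← neg_smul, h.smul_left, h.smul_right, h.swap y v, hε, map_neg, map_mul, map_sub, h.τ_τ]
    ring
  · obtain ⟨u, hu⟩ := h.exists_ne hv
    exact mul_ne_zero h0 hu (LinearMap.congr_fun h1 u)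
  · intro Q q h1 h2 h3
    have h6 : Nat.card (Subring.center h.EB) ≤ Nat.card K :=
      Nat.card_le_card_of_injective (fun a => (hl.scal_of a.2).choose) fun a b hab => Subtype.ext (by
        have h7 := (hl.scal_of a.2).choose_spec
        rw [show (hl.scal_of a.2).choose = (hl.scal_of b.2).choose from hab, ← (hl.scal_of b.2).choose_spec] at h7
        exact h7)
    have h7 := h3.trans h6
    set k := Nat.card K
    have h8 : k ^ 5 ≤ Q * Q := (Nat.pow_le_pow_right (by nlinarith only [h2, h3, h6]) h5).trans (hc ▸ h1)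
    have h9 : 4 ≤ k := by nlinarith only [h2, h3, h6]
    have h10 : 4 * k < Q := by
      by_contra h10
      have h11 : Q * Q ≤ 4 * k * (4 * k) := Nat.mul_self_le_mul_self (by omega)
      have h12 : 4 ^ 3 ≤ k ^ 3 := Nat.pow_le_pow_left h9 3
      nlinarith only [h8, h11, h12]
    exact ⟨h10.le, by nlinarith only [h3, h6, h9, h10]⟩

end U

end Cfsg.Agent.SB.Fld
end
end

section
prune_inst 0xfca8f9abb829dfdfff7e77a6dccdfc39909fffe6dff94bbfe021ef0b9f03000945238d09e000fc1e82401400a87803fb7eceffe26bdc7ffffd5df41ffbee0fe5f7b508519488340f340ff603f0778e7f000000000000000000000000000000000200000000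

-- part: SB/Tor/Ext
section
prune_inst 0x347025445d2202000018808031201c42f20001000008040084810e0407c8ae482dc30860b1a020075a22094508350048131000804000000000200000011d0180000010068008a008820088000080000000000000000000000000000000000000000000000
set_option linter.all false
open scoped Cfsg.Agent.FastGrp

-- part: SB/Tor/Two
section
/-!
# S5765, `2^{1+4}` normalisers: the unipotent element (helper90)

`c6two'` is `H716.FC.Dat.c6two` (same proof) without the unused minimality hypothesis.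
-/

set_option autoImplicit false

namespace Cfsg.Agent.SB.Tor

open Cfsg.Agent.H198.FC Cfsg.Agent.H716.FC Cfsg.Agent.H716.FC.Dat Module

universe u v

variable {K : Type u} [Field K] {V : Type v} [AddCommGroup V] [Module K V]
variable {A : Subgroup (Equiv.Perm (R K V))} {m : ℕ}

theorem c6two' [Finite K] [Module.Finite K V] {S : Subgroup (Equiv.Perm (R K V))} (hS : S ≤ RA K V)
    (h : Dat A 2 m) (hnorm : ∀ g ∈ S, ∀ f ∈ A, g * f * g⁻¹ ∈ A) (hm : 2 ≤ m) :
    ∃ x : (R K V)ˣ, LinearMap.det (x : R K V) = 1 ∧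
      ∀ f ∈ S, (∀ g ∈ A, f * g = g * f) → cj K V x * f * (cj K V x)⁻¹ ∈ S → f = 1 := by
  classical
  have := h.nontriv
  have : Finite (R K V) := finite_R
  have : Fintype A := Fintype.ofFinite A
  have h2 := h.two_ne
  have hn := h.n_ne_zero
  obtain ⟨a, b, c, hN, hc, hac, hbc, hbc', ⟨Db, hDb, hDb'⟩, ⟨Dc, hDc0, hDc, hDc'⟩, η, hη, ζ, hζ, haη, hbη, haζ, hbζ,
    hηζ⟩ := h.exists_abc hm
  have hba := hN.hab.symm
  -- representatives
  obtain ⟨y0, hy0⟩ := h.exists_rep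
  let βb : A := ⟨cj K V b, hN.hb⟩
  let βc : A := ⟨cj K V c, hc⟩
  have hβ : βb ≠ βc := fun hh => hbc' (congrArg (fun x : A => (x : Equiv.Perm (R K V))) hh)
  let y : A → (R K V)ˣ := Function.update (Function.update y0 βb b) βc c
  have hyb : y βb = b := by
    simp only [y]
    rw [Function.update_of_ne hβ, Function.update_self]
  have hyc : y βc = c := Function.update_self _ _ _
  have hy : ∀ α : A, cj K V (y α) = α := by
    intro α
    by_cases h3 : α = βc
    · rw [h3, hyc]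
    by_cases h4 : α = βb
    · rw [h4, hyb]
    simp only [y]
    rw [Function.update_of_ne h3, Function.update_of_ne h4, hy0]
  have hyA : ∀ α : A, y α ∈ Lf A := fun α => rep_mem hy α
  let T : Finset A := Finset.univ.filter fun α => An (a : R K V) (y α) ∧ Cm (b : R K V) (y α)
  have hT : ∀ α, α ∈ T ↔ An (a : R K V) (y α) ∧ Cm (b : R K V) (y α) := by
    intro α
    simp only [T, Finset.mem_filter, Finset.mem_univ, true_and]
  have hbT : βb ∈ T := (hT _).2 ⟨by rw [hyb]; exact hN.hab, by rw [hyb]; exact Cm.self⟩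
  have hcT : βc ∈ T := (hT _).2 ⟨by rw [hyc]; exact hac, by rw [hyc]; exact hbc⟩
  set W : R K V := ∑ α ∈ T, (y α : R K V) with hW
  have haW : An (a : R K V) W := An.sum T fun α hα => ((hT α).1 hα).1
  have hbW : Cm (b : R K V) W := Cm.sum T fun α hα => ((hT α).1 hα).2
  have htr : ∀ (ρ : A → K) (α : A), α ∈ T →
      LinearMap.trace K V ((∑ β ∈ T, ρ β • (y β : R K V)) * (((y α)⁻¹ : (R K V)ˣ) : R K V)) = finrank K V * ρ α := by
    intro ρ α hα
    rw [Finset.sum_mul, map_sum, Finset.sum_eq_single α]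
    · rw [smul_mul_assoc, map_smul, h.trace_rep hy, if_pos rfl, smul_eq_mul, mul_comm]
    · intro β _ hβ
      rw [smul_mul_assoc, map_smul, h.trace_rep hy, if_neg (Ne.symm hβ), smul_zero]
    · intro h3
      exact absurd hα h3
  have htrW : ∀ α ∈ T, LinearMap.trace K V (W * (((y α)⁻¹ : (R K V)ˣ) : R K V)) = finrank K V := by
    intro α hα
    have h3 := htr (fun _ => 1) α hα
    simp only [one_smul, mul_one] at h3
    exact h3
  set Z : R K V := (1 + (a : R K V)) * W with hZ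
  have e0 : W * (a : R K V) = -(a * W) := by rw [haW, neg_neg]
  have hZZ : Z * Z = 0 := by
    have e1 : W * (1 + (a : R K V)) = (1 - (a : R K V)) * W := by
      rw [mul_add, e0, mul_one, sub_mul, one_mul, sub_eq_add_neg]
    have e2 : (1 + (a : R K V)) * (1 - (a : R K V)) = 0 := by
      rw [add_mul, mul_sub, mul_sub, hN.haa]; simp
    calc Z * Z = (1 + (a : R K V)) * (W * (1 + (a : R K V))) * W := by rw [hZ]; simp only [mul_assoc]
      _ = (1 + (a : R K V)) * (1 - (a : R K V)) * W * W := by rw [e1]; simp only [mul_assoc]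
      _ = 0 := by rw [e2]; simp
  have haZ : An (a : R K V) Z := by
    have : Cm (a : R K V) (1 + (a : R K V)) := by
      unfold Cm; rw [mul_add, add_mul, mul_one, one_mul]
    exact this.mul_an haW
  have e3 : (1 + Z) * (1 - Z) = 1 := by rw [add_mul, mul_sub, mul_sub, hZZ]; simp
  have e4 : (1 - Z) * (1 + Z) = 1 := by rw [sub_mul, mul_add, mul_add, hZZ]; simp
  let x : (R K V)ˣ := ⟨1 + Z, 1 - Z, e3, e4⟩
  refine ⟨x, det_one_add h2 haZ hZZ, ?_⟩
  intro f hfS hfA hfx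
  have hf := hS hfS
  have hf1 := RA_one hf
  obtain ⟨σ, hσ⟩ := exists_sig hf
  have hρ : ∀ α : A, ∃ ρ : K, ρ ≠ 0 ∧ f (y α) = ρ • (y α : R K V) := fun α => h.exists_rho hf hfA (hyA α)
  choose ρ hρ0 hρ using hρ
  obtain ⟨δ, hδ0, hδ⟩ := h.exists_rho hf hfA hN.ha
  have hδ1 : δ = 1 ∨ δ = -1 := by
    have h3 := h.rho_sq hf hσ hδ (D := 1) (by rw [hN.haa, one_smul])
    rw [mul_one, map_one] at h3
    exact mul_self_eq_one_iff.1 h3
  have hfsum : ∀ s : Finset A, f (∑ α ∈ s, (y α : R K V)) = ∑ α ∈ s, ρ α • (y α : R K V) := by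
    intro s
    induction s using Finset.induction_on with
    | empty => rw [Finset.sum_empty, Finset.sum_empty, RA_zero hf]
    | insert α s hα ih => rw [Finset.sum_insert hα, Finset.sum_insert hα, hf.1, ih, hρ]
  have hfW : f W = ∑ α ∈ T, ρ α • (y α : R K V) := hfsum T
  have haW' : An (a : R K V) (f W) := by rw [hfW]; exact An.sum T fun α hα => ((hT α).1 hα).1.smul _
  have hbW' : Cm (b : R K V) (f W) := by rw [hfW]; exact Cm.sum T fun α hα => ((hT α).1 hα).2.smul _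
  have htrW' : ∀ α ∈ T, LinearMap.trace K V (f W * (((y α)⁻¹ : (R K V)ˣ) : R K V)) = finrank K V * ρ α := by
    intro α hα
    rw [hfW]
    exact htr ρ α hα
  have e0' : f W * (a : R K V) = -(a * f W) := by rw [haW', neg_neg]
  have hd : cj K V x * f * (cj K V x)⁻¹ * f⁻¹ ∈ S := mul_mem hfx (inv_mem hfS)
  have hfsub : ∀ X Y : R K V, f (X - Y) = f X - f Y := by
    intro X Y
    rw [eq_sub_iff_add_eq, ← hf.1, sub_add_cancel]
  have hfx1 : f (x : R K V) = 1 + f Z := by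
    change f (1 + Z) = _
    rw [hf.1, hf1]
  have hfx2 : f ((x⁻¹ : (R K V)ˣ) : R K V) = 1 - f Z := by
    change f (1 - Z) = _
    rw [hfsub, hf1]
  have hf1a : f (1 + (a : R K V)) = 1 + δ • (a : R K V) := by rw [hf.1, hf1, hδ]
  have hci : (cj K V x)⁻¹ = cj K V x⁻¹ := (map_inv _ _).symm
  -- the squares
  have hρc : ρ βc ^ 2 ≠ -1 := by
    intro h3
    have h4 := h.rho_sq hf hσ (u := c) (ρ := ρ βc) (by rw [← hyc]; exact hρ βc) hDc
    apply hDc' σ
    rw [← h4, ← sq, h3]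
    ring
  rcases hf.2 with hmul | hmul
  · -- automorphisms
    have hfZ : f Z = (1 + δ • (a : R K V)) * f W := by rw [hZ, hmul, hf1a]
    let z : (R K V)ˣ := ⟨1 + f Z, 1 - f Z, by
      rw [← hfx1, ← hfx2, ← hmul, Units.mul_inv, hf1], by
      rw [← hfx1, ← hfx2, ← hmul, Units.inv_mul, hf1]⟩
    have hg : cj K V (x * z⁻¹) = cj K V x * f * (cj K V x)⁻¹ * f⁻¹ := by
      apply Equiv.ext
      intro Y
      obtain ⟨X, rfl⟩ := f.surjective Y
      rw [hci]
      change ((x * z⁻¹ : (R K V)ˣ) : R K V) * f X * (((x * z⁻¹)⁻¹ : (R K V)ˣ) : R K V) =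
        x * f ((cj K V x⁻¹) ((f⁻¹ : Equiv.Perm (R K V)) (f X))) * ((x⁻¹ : (R K V)ˣ) : R K V)
      rw [show (f⁻¹ : Equiv.Perm (R K V)) (f X) = X from f.symm_apply_apply X, cj_apply, hmul, hmul, inv_inv, hfx1,
        hfx2, mul_inv_rev, inv_inv, Units.val_mul, Units.val_mul]
      simp only [mul_assoc]
      rfl
    have hgn : ∀ α ∈ A, cj K V (x * z⁻¹) * α * (cj K V (x * z⁻¹))⁻¹ ∈ A := by
      intro α hα
      rw [hg]
      exact hnorm _ hd α hα
    have hgv : ((x * z⁻¹ : (R K V)ˣ) : R K V) = (1 + Z) * (1 - f Z) := rfl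
    rcases hδ1 with hδ1 | hδ1
    · -- `f a = a`
      rw [hδ1, one_smul] at hfZ hδ
      have hgW : ((x * z⁻¹ : (R K V)ˣ) : R K V) = 1 + (1 + a) * (W - f W) := by
        rw [hgv, hfZ, hZ]
        have e1 : (1 + (a : R K V)) * W * ((1 + (a : R K V)) * f W) = 0 := by
          have e1 : W * (1 + (a : R K V)) = (1 - (a : R K V)) * W := by
            rw [mul_add, e0, mul_one, sub_mul, one_mul, sub_eq_add_neg]
          have e2 : (1 + (a : R K V)) * (1 - (a : R K V)) = 0 := by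
            rw [add_mul, mul_sub, mul_sub, hN.haa]; simp
          calc (1 + (a : R K V)) * W * ((1 + (a : R K V)) * f W) =
              (1 + (a : R K V)) * (W * (1 + (a : R K V))) * f W := by simp only [mul_assoc]
            _ = (1 + (a : R K V)) * (1 - (a : R K V)) * W * f W := by rw [e1]; simp only [mul_assoc]
            _ = 0 := by rw [e2]; simp
        rw [mul_sub, mul_one, add_mul (1 : R K V) ((1 + (a : R K V)) * W), one_mul, e1, mul_sub]
        abel
      have hρ1 : ∀ α ∈ T, ρ α = 1 := by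
        intro α hα
        have h3 := h.lemA hN hgn (W := W - f W) (by unfold An at *; rw [mul_sub, haW, haW', sub_mul]; abel)
          (by unfold Cm at *; rw [mul_sub, hbW, hbW', sub_mul]) hgW (hyA α) ((hT α).1 hα).1 ((hT α).1 hα).2
        rw [sub_mul, map_sub, htrW α hα, htrW' α hα] at h3
        have h4 : (finrank K V : K) * (1 - ρ α) = 0 := by linear_combination h3
        rcases mul_eq_zero.1 h4 with h5 | h5
        · exact absurd h5 hn
        · linear_combination -h5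
      have hfb : f b = b := by
        have := hρ βb
        rwa [hyb, hρ1 βb hbT, one_smul] at this
      have hid : ∀ s, σ s = s := by
        apply hDb'
        have := h.rho_sq hf hσ (u := b) (ρ := 1) (by rw [hfb, one_smul]) hDb
        rw [← this]; ring
      have hfT : ∀ u ∈ Lf A, An (a : R K V) u → Cm (b : R K V) u → f u = u := by
        intro u hu hau hbu
        obtain ⟨s, hs⟩ := exists_rep_smul hy hu
        have hs0 : s ≠ 0 := by
          rintro rfl
          rw [zero_smul] at hs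
          exact u.ne_zero hs
        have hsi : (y ⟨cj K V u, hu⟩ : R K V) = s⁻¹ • (u : R K V) := by
          rw [hs, smul_smul, inv_mul_cancel₀ hs0, one_smul]
        have hα : (⟨cj K V u, hu⟩ : A) ∈ T := (hT _).2 ⟨by rw [hsi]; exact hau.smul _, by rw [hsi]; exact hbu.smul _⟩
        rw [hs, hσ, hid, hρ, hρ1 _ hα, one_smul]
      have hfA' : ∀ u ∈ Lf A, f u = u := by
        intro u hu
        obtain ⟨w, hw, hw4, hw1, hw2⟩ := h.corr hN.ha hN.hb hN.hab hu
        have hfw : f w = w := by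
          rcases hw4 with rfl | rfl | rfl | rfl
          · exact hf1
          · exact hδ
          · exact hfb
          · rw [Units.val_mul, hmul, hδ, hfb]
        have h3 := hfT (u * w * b) (mul_mem (mul_mem hu hw) hN.hb)
          (by rw [Units.val_mul]; exact hw1.mul_an hN.hab) (by rw [Units.val_mul]; exact hw2.mul Cm.self)
        rw [Units.val_mul, Units.val_mul, hmul, hmul, hfw, hfb] at h3
        have h4 := congrArg (fun X => X * ((b⁻¹ : (R K V)ˣ) : R K V) * ((w⁻¹ : (R K V)ˣ) : R K V)) h3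
        simpa only [mul_assoc, _root_.Units.mul_inv, _root_.mul_one] using h4
      apply Equiv.ext
      intro X
      have hX : X ∈ Submodule.span K {X : R K V | ∃ x : (R K V)ˣ, (x : R K V) = X ∧ cj K V x ∈ A} := by
        rw [h.hspan]; trivial
      change f X = X
      induction hX using Submodule.span_induction with
      | mem Y hY =>
        obtain ⟨u, rfl, hu⟩ := hY
        exact hfA' u hu
      | zero => exact RA_zero hf
      | add X Y _ _ hX hY => rw [hf.1, hX, hY]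
      | smul s X _ hX => rw [hσ, hid, hX]
    · -- `f a = -a`
      exfalso
      rw [hδ1, neg_smul, one_smul, ← sub_eq_add_neg] at hfZ
      refine h.lemB hN hgn haW hbW haW' hbW' (by rw [hgv, hfZ, hZ]) (u := b) (c := c) hN.hb hN.hab Cm.self hc hac hbc
        hbc' (s := ρ βb) (t := ρ βc) ?_ ?_ ?_ ?_ (hρ0 βc) hρc
      · have := htrW βb hbT; rwa [hyb] at this
      · have := htrW' βb hbT; rwa [hyb] at this
      · have := htrW βc hcT; rwa [hyc] at this
      · have := htrW' βc hcT; rwa [hyc] at this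
  · -- anti-automorphisms
    exfalso
    have hfZ : f Z = (1 - δ • (a : R K V)) * f W := by
      rw [hZ, hmul, hf1a, mul_add, mul_one, mul_smul_comm, e0', sub_mul, one_mul, smul_neg, smul_mul_assoc,
        sub_eq_add_neg]
    let z : (R K V)ˣ := ⟨1 + f Z, 1 - f Z, by
      rw [← hfx1, ← hfx2, ← hmul, Units.inv_mul, hf1], by
      rw [← hfx1, ← hfx2, ← hmul, Units.mul_inv, hf1]⟩
    have hg : cj K V (x * z) = cj K V x * f * (cj K V x)⁻¹ * f⁻¹ := by
      apply Equiv.ext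
      intro Y
      obtain ⟨X, rfl⟩ := f.surjective Y
      rw [hci]
      change ((x * z : (R K V)ˣ) : R K V) * f X * (((x * z)⁻¹ : (R K V)ˣ) : R K V) =
        x * f ((cj K V x⁻¹) ((f⁻¹ : Equiv.Perm (R K V)) (f X))) * ((x⁻¹ : (R K V)ˣ) : R K V)
      rw [show (f⁻¹ : Equiv.Perm (R K V)) (f X) = X from f.symm_apply_apply X, cj_apply, hmul, hmul, inv_inv, hfx1,
        hfx2, mul_inv_rev, Units.val_mul, Units.val_mul]
      simp only [mul_assoc]
      rfl
    have hgn : ∀ α ∈ A, cj K V (x * z) * α * (cj K V (x * z))⁻¹ ∈ A := by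
      intro α hα
      rw [hg]
      exact hnorm _ hd α hα
    have hgv : ((x * z : (R K V)ˣ) : R K V) = (1 + Z) * (1 + f Z) := rfl
    rcases hδ1 with hδ1 | hδ1
    · -- `f a = a`
      rw [hδ1, one_smul] at hfZ
      refine h.lemB hN hgn haW hbW (W' := -f W) (by unfold An at *; rw [mul_neg, haW', neg_mul])
        (by unfold Cm at *; rw [mul_neg, hbW', neg_mul]) (by rw [hgv, hfZ, hZ, mul_neg, sub_neg_eq_add])
        (u := b) (c := c) hN.hb hN.hab Cm.self hc hac hbc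
        hbc' (s := -ρ βb) (t := -ρ βc) ?_ ?_ ?_ ?_ (neg_ne_zero.2 (hρ0 βc)) (by rw [neg_sq]; exact hρc)
      · have := htrW βb hbT; rwa [hyb] at this
      · have := htrW' βb hbT; rw [hyb] at this; rw [neg_mul, map_neg, this]; ring
      · have := htrW βc hcT; rwa [hyc] at this
      · have := htrW' βc hcT; rw [hyc] at this; rw [neg_mul, map_neg, this]; ring
    · -- `f a = -a`
      rw [hδ1, neg_smul, one_smul, sub_neg_eq_add] at hfZ
      have hgW : ((x * z : (R K V)ˣ) : R K V) = 1 + (1 + a) * (W + f W) := by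
        rw [hgv, hfZ, hZ]
        have e1 : (1 + (a : R K V)) * W * ((1 + (a : R K V)) * f W) = 0 := by
          have e1 : W * (1 + (a : R K V)) = (1 - (a : R K V)) * W := by
            rw [mul_add, e0, mul_one, sub_mul, one_mul, sub_eq_add_neg]
          have e2 : (1 + (a : R K V)) * (1 - (a : R K V)) = 0 := by
            rw [add_mul, mul_sub, mul_sub, hN.haa]; simp
          calc (1 + (a : R K V)) * W * ((1 + (a : R K V)) * f W) =
              (1 + (a : R K V)) * (W * (1 + (a : R K V))) * f W := by simp only [mul_assoc]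
            _ = (1 + (a : R K V)) * (1 - (a : R K V)) * W * f W := by rw [e1]; simp only [mul_assoc]
            _ = 0 := by rw [e2]; simp
        rw [mul_add (1 + (1 + (a : R K V)) * W), mul_one, add_mul (1 : R K V) ((1 + (a : R K V)) * W), one_mul, e1,
          mul_add (1 + (a : R K V)) W]
        abel
      have hρ1 : ∀ α ∈ T, ρ α = -1 := by
        intro α hα
        have h3 := h.lemA hN hgn (W := W + f W) (by unfold An at *; rw [mul_add, haW, haW', add_mul]; abel)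
          (by unfold Cm at *; rw [mul_add, hbW, hbW', add_mul]) hgW (hyA α) ((hT α).1 hα).1 ((hT α).1 hα).2
        rw [add_mul, map_add, htrW α hα, htrW' α hα] at h3
        have h4 : (finrank K V : K) * (1 + ρ α) = 0 := by linear_combination h3
        rcases mul_eq_zero.1 h4 with h5 | h5
        · exact absurd h5 hn
        · linear_combination h5
      have hfb : f b = -b := by
        have := hρ βb
        rwa [hyb, hρ1 βb hbT, neg_smul, one_smul] at this
      have hid : ∀ s, σ s = s := by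
        apply hDb'
        have := h.rho_sq hf hσ (u := b) (ρ := -1) (by rw [hfb, neg_smul, one_smul]) hDb
        rw [← this]; ring
      have hfT : ∀ u ∈ Lf A, An (a : R K V) u → Cm (b : R K V) u → f u = -u := by
        intro u hu hau hbu
        obtain ⟨s, hs⟩ := exists_rep_smul hy hu
        have hs0 : s ≠ 0 := by
          rintro rfl
          rw [zero_smul] at hs
          exact u.ne_zero hs
        have hsi : (y ⟨cj K V u, hu⟩ : R K V) = s⁻¹ • (u : R K V) := by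
          rw [hs, smul_smul, inv_mul_cancel₀ hs0, one_smul]
        have hα : (⟨cj K V u, hu⟩ : A) ∈ T := (hT _).2 ⟨by rw [hsi]; exact hau.smul _, by rw [hsi]; exact hbu.smul _⟩
        rw [hs, hσ, hid, hρ, hρ1 _ hα, neg_smul, one_smul, smul_neg]
      have hfC : ∀ u ∈ Lf A, Cm (a : R K V) u → Cm (b : R K V) u → f u = u := by
        intro u hu hau hbu
        have h3 := hfT (b * u) (mul_mem hN.hb hu) (by rw [Units.val_mul]; exact hN.hab.mul_cm hau)
          (by rw [Units.val_mul]; exact (Cm.self (x := (b : R K V))).mul hbu)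
        rw [Units.val_mul, hmul, hfb, hbu, mul_neg, neg_inj] at h3
        have h4 := congrArg (fun X => X * ((b⁻¹ : (R K V)ˣ) : R K V)) h3
        simpa only [mul_assoc, _root_.Units.mul_inv, _root_.mul_one] using h4
      have h3 := hfC (η * ζ) (mul_mem hη hζ) (by rw [Units.val_mul]; exact haη.mul haζ)
        (by rw [Units.val_mul]; exact hbη.mul hbζ)
      rw [Units.val_mul, hmul, hfC η hη haη hbη, hfC ζ hζ haζ hbζ, hηζ] at h3
      have h4 : (2 : K) • ((ζ * η : (R K V)ˣ) : R K V) = 0 := by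
        rw [two_smul, Units.val_mul]
        nth_rewrite 1 [h3]
        rw [neg_add_cancel]
      exact h2 (smul_eq_zero_unit h4)

end Cfsg.Agent.SB.Tor
end

-- part: SB/Tor/Ext
section
/-!
# S5765, normalisers of `3^{1+2}` and `2^{1+4}` in the linear groups (helper90)

`four_three`, `seven_four` in the language of `H198.FC` (`RA K V` = automorphisms and anti-automorphisms of `End V`).
-/

set_option autoImplicit false

namespace Cfsg.Agent.SB.Tor

open Module Cfsg.Agent.H198.FC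
open Cfsg.Agent.H886.FC (fU fU_val ra_pow ra_zero ra_add ra_neg ra_one conj_cj_rp conj_cj_anti)
open Cfsg.Agent.H716.FC (Dat Lf Cm An mem_Lf cj_eq_of cj_eq_of' smul_inj_unit)

universe u v

/-- the trick with seven triples, normality of `T` replaced by what is used -/
theorem seven_of_trick' {G : Type*} [Group G] {T S N : Subgroup G} (hNS : N ≤ S)
    (hNn : ∀ s ∈ S, ∀ v ∈ N, s * v * s⁻¹ ∈ N) {x : G} (hx : x ∈ T) (hxN : ∀ v ∈ N, x⁻¹ * v * x ∈ S → v = 1)
    (v : Fin 7 → Fin 3 → G) (hv : ∀ c i, v c i ∈ N) (hT : ∀ c i, v c i * x * (v c i)⁻¹ ∈ T)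
    (hD : ∀ k ∈ S, ∀ c c', (∀ i, k * v c' i * k⁻¹ = v c i) → c = c' ∧ k ∈ N) : Seven T S := by
  refine ⟨fun c => ![x, v c 0 * x * (v c 0)⁻¹, v c 1 * x * (v c 1)⁻¹, v c 2 * x * (v c 2)⁻¹], fun c i => ?_,
    fun s hs c c' hi => ?_⟩
  · fin_cases i
    exacts [hx, hT c 0, hT c 1, hT c 2]
  · have h1 := hD s hs c c' fun i => by
      fin_cases i
      · exact trick_key hNS hNn hxN (hv c 0) (hv c' 0) hs (hi 0) (hi 1)
      · exact trick_key hNS hNn hxN (hv c 1) (hv c' 1) hs (hi 0) (hi 2)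
      · exact trick_key hNS hNn hxN (hv c 2) (hv c' 2) hs (hi 0) (hi 3)
    exact ⟨h1.1, hxN s h1.2 (hi 0)⟩

variable {K : Type u} [Field K] {V : Type v} [AddCommGroup V] [Module K V]

variable (K V) in
/-- the image of `SL(V)` -/
noncomputable def SLc : Subgroup (Equiv.Perm (R K V)) :=
  (Units.map (LinearMap.det : R K V →* K)).ker.map (cj K V)

theorem cj_mem_SLc {x : (R K V)ˣ} (h : LinearMap.det (x : R K V) = 1) : cj K V x ∈ SLc K V :=
  ⟨x, Units.ext h, rfl⟩

theorem SLc_conj {g f : Equiv.Perm (R K V)} (hg : g ∈ IN K V) (hf : f ∈ SLc K V) : g * f * g⁻¹ ∈ SLc K V := by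
  obtain ⟨y, rfl⟩ := hg
  obtain ⟨x, hx, rfl⟩ := hf
  exact ⟨y * x * y⁻¹, (MonoidHom.normal_ker _).conj_mem x hx y, by rw [map_mul, map_mul, map_inv]⟩

/-- the centraliser of `A` in `S` -/
theorem cent_conj {G : Type*} [Group G] {S A : Subgroup G} (hnorm : ∀ g ∈ S, ∀ f ∈ A, g * f * g⁻¹ ∈ A) :
    ∀ s ∈ S, ∀ v ∈ S ⊓ Subgroup.centralizer (A : Set G), s * v * s⁻¹ ∈ S ⊓ Subgroup.centralizer (A : Set G) := by
  intro s hs v hv
  refine ⟨S.mul_mem (S.mul_mem hs hv.1) (S.inv_mem hs), Subgroup.mem_centralizer_iff.2 fun g hg => ?_⟩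
  have h1 := Subgroup.mem_centralizer_iff.1 hv.2 _ (hnorm s⁻¹ (inv_mem hs) g hg)
  calc g * (s * v * s⁻¹) = s * (s⁻¹ * g * s⁻¹⁻¹ * v) * s⁻¹ := by group
    _ = s * v * s⁻¹ * g := by rw [h1]; group

/-! ### dimension three -/

theorem trace_cube [Module.Finite K V] (h3 : finrank K V = 3) {X : R K V} (hX : LinearMap.trace K V X = 0) :
    LinearMap.trace K V (X ^ 3) = 3 * LinearMap.det X := by
  let b := Module.finBasisOfFinrankEq K V h3
  rw [LinearMap.trace_eq_matrix_trace K b] at hX ⊢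
  rw [← LinearMap.det_toMatrix b, pow_succ, pow_two, LinearMap.toMatrix_mul, LinearMap.toMatrix_mul]
  generalize LinearMap.toMatrix b b X = M at hX ⊢
  rw [Matrix.trace_fin_three] at hX ⊢
  rw [Matrix.det_fin_three]
  simp only [Matrix.mul_apply, Fin.sum_univ_three]
  linear_combination ((M 0 0 + M 1 1 + M 2 2) ^ 2 - 3 * (M 0 0 * M 1 1 + M 0 0 * M 2 2 + M 1 1 * M 2 2 -
    M 0 1 * M 1 0 - M 0 2 * M 2 0 - M 1 2 * M 2 1)) * hX

theorem cube_eq_one [Module.Finite K V] {A : Subgroup (Equiv.Perm (R K V))} (h : Dat A 3 1) {x : (R K V)ˣ}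
    (hx : x ∈ Lf A) (hns : ¬ ∃ s : K, (x : R K V) = s • (1 : R K V)) (hd : LinearMap.det (x : R K V) = 1) :
    x ^ 3 = 1 := by
  obtain ⟨s, hs⟩ := h.pow_sc hx
  have h3 : finrank K V = 3 := h.hn
  have h1 := trace_cube h3 (h.trace_zero hx hns)
  have h2 : (3 : K) ≠ 0 := by exact_mod_cast h.r_ne_zero
  rw [hs, map_smul, LinearMap.trace_one, h3, hd, smul_eq_mul, mul_comm] at h1
  have h4 : s = 1 := mul_left_cancel₀ h2 (by exact_mod_cast h1)
  apply Units.ext
  rw [Units.val_pow_eq_pow_val, hs, h4, one_smul, Units.val_one]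

theorem four_three [Finite K] [Module.Finite K V] {S A : Subgroup (Equiv.Perm (R K V))} (hS : S ≤ RA K V)
    (hAS : A ≤ S) (hD : Dat A 3 1) (hnorm : ∀ g ∈ S, ∀ f ∈ A, g * f * g⁻¹ ∈ A) (hA : A ≤ SLc K V) :
    Four (SLc K V) S := by
  have hnt := hD.nontriv
  obtain ⟨ω, P, Z, hPA, hZA, h⟩ : ∃ (ω : K) (P Z : (R K V)ˣ), cj K V P ∈ A ∧ cj K V Z ∈ A ∧ H710.FC.Heis 3 ω P Z := by
    obtain ⟨u, hu, hns⟩ := hD.exists_nonsc
    obtain ⟨v, hv, ε, hε, hε1⟩ := hD.exists_eps hns fun v hv => hD.comm hv hu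
    obtain ⟨P, hP, hPu⟩ := hA hu
    obtain ⟨Z, hZ, hZv⟩ := hA hv
    have hP' : P ∈ Lf A := by rw [mem_Lf, hPu]; exact hu
    have hZ' : Z ∈ Lf A := by rw [mem_Lf, hZv]; exact hv
    obtain ⟨c, hc⟩ := cj_eq_of hPu
    obtain ⟨d, hd⟩ := cj_eq_of hZv
    have h1 : (Z : R K V) * P = ε • ((P : R K V) * Z) := by
      rw [hc, hd, smul_mul_smul_comm, smul_mul_smul_comm, hε, smul_comm, mul_comm d c]
    have h2 : ∀ x y : (R K V)ˣ, (∃ s : K, (x : R K V) = s • (1 : R K V)) → (x : R K V) * y = y * x := by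
      rintro x y ⟨s, hs⟩
      rw [hs, smul_mul_assoc, mul_smul_comm, one_mul, mul_one]
    have h3 : (Z : R K V) * P ≠ P * Z := fun h0 => hε1 (smul_inj_unit (x := P * Z) (by
      rw [Units.val_mul, ← h1, h0, one_smul]))
    refine ⟨ε, P, Z, hP', hZ', Nat.prime_three, by norm_num, ?_, hD.hn,
      cube_eq_one hD hP' (fun h0 => h3 (h2 P Z h0).symm) (congrArg Units.val hP),
      cube_eq_one hD hZ' (fun h0 => h3 (h2 Z P h0)) (congrArg Units.val hZ), h1⟩
    have : Fact (Nat.Prime 3) := ⟨Nat.prime_three⟩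
    rw [← orderOf_eq_prime (hD.eps_pow hv hε) hε1]
    exact IsPrimitiveRoot.orderOf ε
  obtain ⟨b, hbZ, hbP⟩ := h.exists_basis
  obtain ⟨δ, hδ⟩ := H710.FC.exists_gen K h.hr h.prim
  set x : (R K V)ˣ := H710.FC.uN _ (h.EE (b := b) δ) with hx
  have hlift : ∀ f ∈ A, ∃ i j : ℕ, f = cj K V (P ^ i * Z ^ j) := by
    intro f hf
    obtain ⟨Y, rfl⟩ := hD.hIN hf
    obtain ⟨c₁, h1⟩ := H710.FC.exists_comm (hD.hcomm _ hf _ hZA)
    obtain ⟨c₂, h2⟩ := H710.FC.exists_comm (hD.hcomm _ hf _ hPA)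
    exact h.lift h1 h2
  have one : ∀ f ∈ S, f * cj K V P * f⁻¹ = cj K V P → f * cj K V Z * f⁻¹ = cj K V Z →
      cj K V x * f * (cj K V x)⁻¹ ∈ S → f = 1 := by
    intro f hf fP fZ hxf
    have hg : cj K V x * f * (cj K V x)⁻¹ * f⁻¹ ∈ S := S.mul_mem hxf (S.inv_mem hf)
    obtain ⟨i, j, hij⟩ := hlift _ (hnorm _ hg _ hZA)
    obtain ⟨gP, gZ, glin, gm⟩ := h.star hbZ hbP hδ (hS hf) fP fZ rfl hij
    apply Equiv.ext
    intro X
    rw [Equiv.Perm.one_apply]
    have hX : X ∈ Submodule.span K {X : R K V | ∃ x : (R K V)ˣ, (x : R K V) = X ∧ cj K V x ∈ A} := by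
      rw [hD.hspan]; exact Submodule.mem_top
    induction hX using Submodule.span_induction with
    | mem X hX =>
      obtain ⟨y, rfl, hy⟩ := hX
      obtain ⟨i', j', h1⟩ := hlift _ hy
      obtain ⟨c, hc⟩ := cj_eq_of h1
      rw [hc, glin, Units.val_mul, Units.val_pow_eq_pow_val, Units.val_pow_eq_pow_val, gm, ra_pow (hS hf),
        ra_pow (hS hf), gP, gZ]
    | zero => exact ra_zero (hS hf)
    | add X Y _ _ hX hY => rw [ra_add (hS hf), hX, hY]
    | smul c X _ hX => rw [glin, hX]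
  have hxT : (cj K V x)⁻¹ ∈ SLc K V := inv_mem (cj_mem_SLc (H710.FC.det_uN _ _))
  have hxA : ∀ f ∈ A, (cj K V x)⁻¹⁻¹ * f * (cj K V x)⁻¹ ∈ S → f = 1 := fun f hf h1 =>
    one f (hAS hf) (by rw [hD.hcomm _ hf _ hPA, mul_inv_cancel_right])
      (by rw [hD.hcomm _ hf _ hZA, mul_inv_cancel_right]) (by rwa [inv_inv] at h1)
  exact ⟨_, hxT, _, SLc_conj (hD.hIN hPA) hxT, _, SLc_conj (hD.hIN hZA) hxT, fun s hs a0 a1 a2 =>
    one s hs (trick_key hAS hnorm hxA hPA hPA hs a0 a1) (trick_key hAS hnorm hxA hZA hZA hs a0 a2)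
      (by rwa [inv_inv] at a0)⟩

/-! ### dimension four -/

/-- `x u = (-1)^n u x` -/
def Sg (x u : (R K V)ˣ) (n : ℕ) : Prop := (x : R K V) * u = (-1 : K) ^ n • ((u : R K V) * x)

namespace Sg

variable {x u v : (R K V)ˣ} {m n : ℕ}

theorem symm (h : Sg x u n) : Sg u x n := by
  unfold Sg at *
  rw [h, smul_smul, ← mul_pow]
  simp

theorem mul (h : Sg x u m) (h' : Sg x v n) : Sg x (u * v) (m + n) := by
  unfold Sg at *
  rw [Units.val_mul, ← mul_assoc, h, smul_mul_assoc, mul_assoc, h', mul_smul_comm, smul_smul, pow_add, mul_assoc]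

theorem pow (h : Sg x u m) (k : ℕ) : Sg x (u ^ k) (m * k) := by
  induction k with
  | zero => simp [Sg]
  | succ k ih => rw [pow_succ]; exact ih.mul h

theorem of_cm (h : Cm (x : R K V) u) : Sg x u 0 := by
  unfold Sg
  rw [pow_zero, one_smul]
  exact h

theorem of_an (h : An (x : R K V) u) : Sg x u 1 := by
  unfold Sg
  rw [pow_one, neg_smul, one_smul]
  exact h

theorem unique [Nontrivial V] (h2 : (2 : K) ≠ 0) (h : Sg x u m) (h' : Sg x u n) : m % 2 = n % 2 := by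
  have h1 : (-1 : K) ^ m = (-1) ^ n := smul_inj_unit (x := u * x) (Eq.trans (Eq.symm h) h')
  rw [neg_one_pow_eq_pow_mod_two, neg_one_pow_eq_pow_mod_two (n := n)] at h1
  rcases Nat.mod_two_eq_zero_or_one m with a | a <;> rcases Nat.mod_two_eq_zero_or_one n with b | b <;>
    rw [a, b] at h1 ⊢
  · exact absurd (by linear_combination h1) h2
  · exact absurd (by linear_combination -h1) h2

theorem of_cj (h : Sg x u n) (e : cj K V v = cj K V u) : Sg x v n := by
  obtain ⟨s, hs⟩ := cj_eq_of e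
  unfold Sg at *
  rw [hs, mul_smul_comm, h, smul_mul_assoc, smul_comm]

theorem map (h : Sg x u n) {k : Equiv.Perm (R K V)} (hk : k ∈ RA K V) : Sg (fU k hk x) (fU k hk u) n := by
  have h1 : ∀ X, k ((-1 : K) ^ n • X) = (-1 : K) ^ n • k X := fun X => by
    rcases neg_one_pow_eq_or K n with a | a <;> rw [a]
    · rw [one_smul, one_smul]
    · rw [neg_smul, neg_smul, one_smul, one_smul, ra_neg hk]
  rcases hk.2 with hm | hm
  · unfold Sg at *
    rw [fU_val, fU_val, ← hm, ← hm, h, h1]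
  · apply Sg.symm
    unfold Sg at *
    rw [fU_val, fU_val, ← hm, ← hm, h, h1]

end Sg

/-- the monomials -/
def mon (a b η ζ : (R K V)ˣ) (t : Fin 4 → ℕ) : (R K V)ˣ := a ^ t 0 * b ^ t 1 * η ^ t 2 * ζ ^ t 3

/-- the commutator form -/
def Bf (s t : Fin 4 → ℕ) : ℕ := t 1 * s 0 + t 0 * s 1 + t 3 * s 2 + t 2 * s 3

theorem sg_mon {a b η ζ : (R K V)ˣ} (ab : Sg a b 1) (aη : Sg a η 0) (aζ : Sg a ζ 0) (bη : Sg b η 0) (bζ : Sg b ζ 0)
    (ηζ : Sg η ζ 1) (s t : Fin 4 → ℕ) : Sg (mon a b η ζ s) (mon a b η ζ t) (Bf s t) := by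
  have s0 : ∀ x : (R K V)ˣ, Sg x x 0 := fun x => Sg.of_cm Cm.self
  have h1 : Sg a (mon a b η ζ t) (t 1) := by
    simpa [mon] using ((((s0 a).pow (t 0)).mul (ab.pow (t 1))).mul (aη.pow (t 2))).mul (aζ.pow (t 3))
  have h2 : Sg b (mon a b η ζ t) (t 0) := by
    simpa [mon] using (((ab.symm.pow (t 0)).mul ((s0 b).pow (t 1))).mul (bη.pow (t 2))).mul (bζ.pow (t 3))
  have h3 : Sg η (mon a b η ζ t) (t 3) := by
    simpa [mon] using (((aη.symm.pow (t 0)).mul (bη.symm.pow (t 1))).mul ((s0 η).pow (t 2))).mul (ηζ.pow (t 3))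
  have h4 : Sg ζ (mon a b η ζ t) (t 2) := by
    simpa [mon] using (((aζ.symm.pow (t 0)).mul (bζ.symm.pow (t 1))).mul (ηζ.symm.pow (t 2))).mul ((s0 ζ).pow (t 3))
  exact ((((h1.symm.pow (s 0)).mul (h2.symm.pow (s 1))).mul (h3.symm.pow (s 2))).mul (h4.symm.pow (s 3))).symm

/-- seven bases of `a^⊥` -/
def wv : Fin 7 → Fin 3 → Fin 4 → ℕ :=
  ![![![0, 0, 1, 0], ![0, 0, 0, 1], ![1, 0, 0, 0]], ![![0, 0, 1, 0], ![1, 0, 0, 0], ![0, 0, 0, 1]],
    ![![1, 0, 0, 0], ![0, 0, 1, 0], ![0, 0, 0, 1]], ![![0, 0, 1, 0], ![0, 0, 0, 1], ![1, 0, 0, 1]],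
    ![![0, 0, 0, 1], ![0, 0, 1, 0], ![1, 0, 0, 1]], ![![0, 0, 0, 1], ![1, 0, 0, 1], ![0, 0, 1, 0]],
    ![![0, 0, 1, 0], ![0, 0, 0, 1], ![1, 0, 1, 1]]]

theorem wv_sep : ∀ c c' : Fin 7, (∀ i j, Bf (wv c i) (wv c j) % 2 = Bf (wv c' i) (wv c' j) % 2) → c = c' := by
  decide +kernel

theorem wv_gen : ∀ c : Fin 7, ∃ i j l, wv c i = ![0, 0, 1, 0] ∧ wv c j = ![0, 0, 0, 1] ∧ wv c l 0 = 1 ∧ wv c l 1 = 0 := by
  decide +kernel

theorem seven_four [Finite K] [Module.Finite K V] (hK : ∀ s : K, s ≠ 0 → s * s = 1)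
    {S A : Subgroup (Equiv.Perm (R K V))} (hS : S ≤ RA K V) (hAS : A ≤ S) (h : Dat A 2 2)
    (hnorm : ∀ g ∈ S, ∀ f ∈ A, g * f * g⁻¹ ∈ A) : Seven (SLc K V) S := by
  have hnt := h.nontriv
  have h2 := h.two_ne
  have : Finite (R K V) := H716.FC.finite_R
  obtain ⟨x, hx, hxN⟩ := c6two' hS h hnorm le_rfl
  obtain ⟨a, b, -, hN, -, -, -, -, ⟨D, hD, -⟩, -, η, hη, ζ, hζ, haη, hbη, haζ, hbζ, hηζ⟩ := h.exists_abc le_rfl
  have sg := sg_mon (Sg.of_an hN.hab) (Sg.of_cm haη) (Sg.of_cm haζ) (Sg.of_cm hbη) (Sg.of_cm hbζ) (Sg.of_an hηζ)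
  have hm : ∀ t, mon a b η ζ t ∈ Lf A := fun t =>
    mul_mem (mul_mem (mul_mem (pow_mem hN.ha _) (pow_mem hN.hb _)) (pow_mem hη _)) (pow_mem hζ _)
  -- every element of `A` is a monomial
  have hsurj : ∀ f ∈ A, ∃ t : Fin 4 → Fin 2, cj K V (mon a b η ζ fun i => t i) = f := by
    let g : (Fin 4 → Fin 2) → A := fun t => ⟨cj K V (mon a b η ζ fun i => t i), hm _⟩
    have hg : Function.Injective g := by
      intro t t' e
      have h1 : ∀ s, Bf s (fun i => t i) % 2 = Bf s (fun i => t' i) % 2 := fun s =>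
        (sg s _).unique h2 ((sg s _).of_cj (congrArg Subtype.val e))
      have a0 := h1 ![0, 1, 0, 0]
      have a1 := h1 ![1, 0, 0, 0]
      have a2 := h1 ![0, 0, 0, 1]
      have a3 := h1 ![0, 0, 1, 0]
      simp only [Bf, Matrix.cons_val, mul_zero, mul_one, add_zero, zero_add] at a0 a1 a2 a3
      funext i
      fin_cases i
      · exact Fin.ext (by have := (t 0).2; have := (t' 0).2; show (t 0 : ℕ) = t' 0; omega)
      · exact Fin.ext (by have := (t 1).2; have := (t' 1).2; show (t 1 : ℕ) = t' 1; omega)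
      · exact Fin.ext (by have := (t 2).2; have := (t' 2).2; show (t 2 : ℕ) = t' 2; omega)
      · exact Fin.ext (by have := (t 3).2; have := (t' 3).2; show (t 3 : ℕ) = t' 3; omega)
    have hb := hg.bijective_of_nat_card_le (by rw [h.hcard]; simp)
    intro f hf
    obtain ⟨t, ht⟩ := hb.2 ⟨f, hf⟩
    exact ⟨t, congrArg Subtype.val ht⟩
  have hcj : ∀ k (hk : k ∈ RA K V), ∀ u ∈ Lf A, k ∈ S → k * cj K V u * k⁻¹ = cj K V (fU k hk u) := by
    intro k hk u hu hkS
    rcases hk.2 with e | e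
    · exact conj_cj_rp hk e u
    · have h1 := h.hpow _ (hnorm k hkS _ hu)
      rw [conj_cj_anti hk e] at h1 ⊢
      rw [inv_pow, inv_eq_one, pow_two] at h1
      exact inv_eq_of_mul_eq_one_right h1
  have hsg : ∀ k ∈ S, ∀ s t s' t', k * cj K V (mon a b η ζ s) * k⁻¹ = cj K V (mon a b η ζ s') →
      k * cj K V (mon a b η ζ t) * k⁻¹ = cj K V (mon a b η ζ t') → Bf s' t' % 2 = Bf s t % 2 := by
    intro k hk s t s' t' e e'
    rw [hcj k (hS hk) _ (hm s) hk] at e
    rw [hcj k (hS hk) _ (hm t) hk] at e'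
    exact (sg s' t').unique h2 ((((sg s t).map (hS hk)).of_cj e'.symm).symm.of_cj e.symm).symm
  refine seven_of_trick' (N := S ⊓ Subgroup.centralizer (A : Set (Equiv.Perm (R K V)))) inf_le_left (cent_conj hnorm)
    (inv_mem (cj_mem_SLc hx)) (fun f hf h1 => hxN f hf.1 (fun g hg => (Subgroup.mem_centralizer_iff.1 hf.2 g hg).symm)
      (by rwa [inv_inv] at h1)) (fun c i => cj K V (mon a b η ζ (wv c i)))
    (fun c i => ⟨hAS (hm _), Subgroup.mem_centralizer_iff.2 fun g hg => h.hcomm _ hg _ (hm _)⟩)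
    (fun c i => SLc_conj ⟨_, rfl⟩ (inv_mem (cj_mem_SLc hx))) fun k hk c c' hi => ?_
  obtain rfl : c = c' := wv_sep c c' fun i j => hsg k hk _ _ _ _ (hi i) (hi j)
  refine ⟨rfl, hk, Subgroup.mem_centralizer_iff.2 fun g hg => ?_⟩
  let C : Subgroup (R K V)ˣ := (Subgroup.centralizer {k}).comap (cj K V)
  have hC : ∀ u, u ∈ C ↔ k * cj K V u * k⁻¹ = cj K V u := fun u => by
    rw [mul_inv_eq_iff_eq_mul]
    exact Subgroup.mem_centralizer_singleton_iff.trans eq_comm
  obtain ⟨i, j, l, e1, e2, e3, e4⟩ := wv_gen c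
  have mη : mon a b η ζ ![0, 0, 1, 0] = η := by simp [mon]
  have mζ : mon a b η ζ ![0, 0, 0, 1] = ζ := by simp [mon]
  have ma : mon a b η ζ ![1, 0, 0, 0] = a := by simp [mon]
  have mb : mon a b η ζ ![0, 1, 0, 0] = b := by simp [mon]
  have cη : η ∈ C := by rw [hC, ← mη, ← e1]; exact hi i
  have cζ : ζ ∈ C := by rw [hC, ← mζ, ← e2]; exact hi j
  have ca : a ∈ C := by
    have h1 := (hC _).2 (hi l)
    rwa [mon, e3, e4, pow_one, pow_zero, mul_one, C.mul_mem_cancel_right (pow_mem cζ _),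
      C.mul_mem_cancel_right (pow_mem cη _)] at h1
  have cb : b ∈ C := by
    obtain ⟨t, ht⟩ := hsurj _ (hnorm k hk _ hN.hb)
    have a1 := hsg k hk ![1, 0, 0, 0] ![0, 1, 0, 0] ![1, 0, 0, 0] (fun i => t i) (by rw [ma]; exact (hC a).1 ca)
      (by rw [mb]; exact ht.symm)
    have a2 := hsg k hk ![0, 0, 0, 1] ![0, 1, 0, 0] ![0, 0, 0, 1] (fun i => t i) (by rw [mζ]; exact (hC ζ).1 cζ)
      (by rw [mb]; exact ht.symm)
    have a3 := hsg k hk ![0, 0, 1, 0] ![0, 1, 0, 0] ![0, 0, 1, 0] (fun i => t i) (by rw [mη]; exact (hC η).1 cη)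
      (by rw [mb]; exact ht.symm)
    simp only [Bf, Matrix.cons_val, mul_zero, mul_one, add_zero, zero_add] at a1 a2 a3
    have b1 : (t 1 : ℕ) = 1 := by have := (t 1).2; omega
    have b2 : (t 2 : ℕ) = 0 := by have := (t 2).2; omega
    have b3 : (t 3 : ℕ) = 0 := by have := (t 3).2; omega
    simp only [mon, b1, b2, b3, pow_one, pow_zero, mul_one] at ht
    have b0 : (t 0 : ℕ) = 0 ∨ (t 0 : ℕ) = 1 := by have := (t 0).2; omega
    rcases b0 with b0 | b0
    · rw [b0, pow_zero, one_mul] at ht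
      exact (hC b).2 ht.symm
    exfalso
    rw [b0, pow_one, hcj k (hS hk) b hN.hb hk] at ht
    obtain ⟨s, hs⟩ := cj_eq_of ht.symm
    have hs0 : s ≠ 0 := by
      rintro rfl
      exact (fU k (hS hk) b).ne_zero (by rw [hs, zero_smul])
    have hD0 : D ≠ 0 := by
      rintro rfl
      exact (b * b).ne_zero (by rw [Units.val_mul, hD, zero_smul])
    have h1 : k (D • 1) = D • 1 := by
      rcases mul_self_eq_one_iff.1 (hK D hD0) with e | e <;> rw [e]
      · rw [one_smul, ra_one (hS hk)]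
      · rw [neg_smul, one_smul, ra_neg (hS hk), ra_one (hS hk)]
    have h3 : (a : R K V) * b * (a * b) = -(D • 1) := by
      rw [mul_assoc, ← mul_assoc (b : R K V), hN.hab.symm, neg_mul, mul_neg, mul_assoc, ← mul_assoc, hN.haa, one_mul, hD]
    have h4 := ra_pow (hS hk) b 2
    rw [pow_two, pow_two, hD, h1, ← fU_val k (hS hk), hs, smul_mul_smul_comm, hK s hs0, one_smul, Units.val_mul, h3,
      ← neg_smul] at h4
    have h5 : D = -D := smul_inj_unit (x := 1) h4
    exact mul_ne_zero h2 hD0 (by linear_combination h5)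
  obtain ⟨t, rfl⟩ := hsurj g hg
  have h1 : mon a b η ζ (fun i => t i) ∈ C :=
    mul_mem (mul_mem (mul_mem (pow_mem ca _) (pow_mem cb _)) (pow_mem cη _)) (pow_mem cζ _)
  exact (mul_inv_eq_iff_eq_mul.1 ((hC _).1 h1)).symm

end Cfsg.Agent.SB.Tor
end

private theorem dce_5cf091d12926 : _root_.True := by
  try have : _root_.True := by simp only [_root_.Cfsg.Agent.SB.Tor.Bf.eq_1]
  try have : _root_.True := by simp only [_root_.Cfsg.Agent.SB.Tor.mon.eq_1]
  try have : _root_.True := by simp only [_root_.Cfsg.Agent.SB.Tor.Sg.eq_1]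
  exact _root_.True.intro
end

-- part: SB/Tor/LExt
section
set_option linter.all false
open scoped Cfsg.Agent.FastGrp

/-!
# S5765, the row `RowLExt` (helper90)

`phi` : the automorphisms of the ring of pairs commuting with `star` act on `End V` (the symmetric elements) as
automorphisms and anti-automorphisms.
-/

set_option autoImplicit false

namespace Cfsg.Agent.SB.Tor

open Module Cfsg Cfsg.Agent.DS.Cl Cfsg.Agent.DS.Cl.Fwd Cfsg.Agent.SB.Fld
open Cfsg.Agent.H198.FC (R RA IN)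
open scoped Matrix commutatorElement

variable {n : ℕ} {K : Type} [Field K]

/-- the symmetric element with given first component -/
noncomputable def sy (X : R K (Fin n → K)) : LR (Fin n) K :=
  LR.mk (Matrix.toLinAlgEquiv'.symm X) (Matrix.toLinAlgEquiv'.symm X)ᵀ

theorem pr_sy (X : R K (Fin n → K)) : prL n K (sy X) = X := Matrix.toLinAlgEquiv'.apply_symm_apply X

theorem star_sy (X : R K (Fin n → K)) : star (sy X) = sy X := rfl

theorem sy_pr {a : LR (Fin n) K} (ha : star a = a) : sy (prL n K a) = a := by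
  have h1 : a.1ᵀ = a.2 := congrArg Prod.snd ha
  rw [sy, prL_apply, AlgEquiv.symm_apply_apply, h1]
  rfl

theorem sy_add (X Y : R K (Fin n → K)) : sy (X + Y) = sy X + sy Y := by
  rw [sy, sy, sy, LR.mk_add, map_add, Matrix.transpose_add]

theorem sy_mul (X Y : R K (Fin n → K)) :
    sy (X * Y) = LR.mk 1 0 * (sy X * sy Y) + star (LR.mk 1 0) * (sy Y * sy X) := by
  rw [sy, sy, sy, LR.star_mk, LR.mk_mul, LR.mk_mul, LR.mk_mul, LR.mk_mul, LR.mk_add, map_mul, Matrix.transpose_mul]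
  simp

theorem eq_sy (a : LR (Fin n) K) :
    a = LR.mk 1 0 * sy (prL n K a) + star (LR.mk 1 0) * sy (prL n K (star a)) := by
  obtain ⟨a, b, rfl⟩ := LR.exists_mk a
  rw [sy, sy, prL_apply, prL_apply, AlgEquiv.symm_apply_apply, AlgEquiv.symm_apply_apply, LR.star_mk, LR.star_mk,
    LR.mk_mul, LR.mk_mul, LR.mk_add]
  simp [LR.mk]
  rfl

theorem pr_eps : prL n K (LR.mk 1 0) = 1 := map_one (Matrix.toLinAlgEquiv' (n := Fin n) (R := K))

theorem pr_eps' : prL n K (star (LR.mk 1 0)) = 0 := by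
  rw [LR.star_mk, Matrix.transpose_zero]
  exact map_zero (Matrix.toLinAlgEquiv' (n := Fin n) (R := K))

theorem eps_LR : Eps (LR.mk 1 0 : LR (Fin n) K) :=
  ⟨Subring.mem_center_iff.2 fun a => by
    obtain ⟨a, b, rfl⟩ := LR.exists_mk a
    rw [LR.mk_mul, LR.mk_mul, mul_one, one_mul, mul_zero, zero_mul], by rw [LR.mk_mul, mul_one, mul_zero], LR.half⟩

variable (n K) in
/-- the action on the symmetric elements -/
noncomputable def phi : SAut (LR (Fin n) K) →* Equiv.Perm (R K (Fin n → K)) :=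
  MonoidHom.toHomPerm
    { toFun := fun γ X => prL n K (γ.1 (sy X))
      map_one' := funext fun X => pr_sy X
      map_mul' := fun γ δ => funext fun X => by
        show prL n K (γ.1 (δ.1 (sy X))) = prL n K (γ.1 (sy (prL n K (δ.1 (sy X)))))
        rw [sy_pr (by rw [← δ.2, star_sy])] }

theorem phi_apply (γ : SAut (LR (Fin n) K)) (X : R K (Fin n → K)) : phi n K γ X = prL n K (γ.1 (sy X)) := rfl

theorem phi_mul_pos {γ : SAut (LR (Fin n) K)} (h : γ.1 (LR.mk 1 0) = LR.mk 1 0) (X Y : R K (Fin n → K)) :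
    phi n K γ (X * Y) = phi n K γ X * phi n K γ Y := by
  simp only [phi_apply, sy_mul, map_add, map_mul, γ.2 (LR.mk 1 0), h, pr_eps, pr_eps', one_mul, zero_mul, add_zero]

theorem phi_mul_neg {γ : SAut (LR (Fin n) K)} (h : γ.1 (LR.mk 1 0) = star (LR.mk 1 0)) (X Y : R K (Fin n → K)) :
    phi n K γ (X * Y) = phi n K γ Y * phi n K γ X := by
  simp only [phi_apply, sy_mul, map_add, map_mul, γ.2 (LR.mk 1 0), h, star_star, pr_eps, pr_eps', one_mul, zero_mul,
    zero_add]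

theorem phi_mem [Nonempty (Fin n)] (γ : SAut (LR (Fin n) K)) : phi n K γ ∈ RA K (Fin n → K) :=
  ⟨fun X Y => by simp only [phi_apply, sy_add, map_add],
    (LR.ss.map_eps eps_LR γ.2).imp (fun h => phi_mul_pos h) fun h => phi_mul_neg h⟩

theorem phi_injective (hn : 2 ≤ n) : Function.Injective (phi n K) := by
  have : Nontrivial (Fin n) := Fin.nontrivial_iff_two_le.2 hn
  rw [injective_iff_map_eq_one]
  intro γ hγ
  have h1 : ∀ X, γ.1 (sy X) = sy X := fun X => by
    have h2 : phi n K γ X = X := by rw [hγ]; rfl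
    rw [← sy_pr (a := γ.1 (sy X)) (by rw [← γ.2, star_sy]), ← phi_apply, h2]
  rcases LR.ss.map_eps eps_LR γ.2 with h | h
  · refine Subtype.ext (RingEquiv.ext fun a => ?_)
    show γ.1 a = a
    conv_lhs => rw [eq_sy a, map_add, map_mul, map_mul, γ.2, h, h1, h1, ← eq_sy a]
  · exfalso
    obtain ⟨i, j, hij⟩ := exists_pair_ne (Fin n)
    have h2 := phi_mul_neg h (Matrix.toLinAlgEquiv' (Matrix.single i j (1 : K)))
      (Matrix.toLinAlgEquiv' (Matrix.single j j (1 : K)))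
    rw [hγ, Equiv.Perm.one_apply, Equiv.Perm.one_apply, Equiv.Perm.one_apply, ← map_mul, ← map_mul,
      Matrix.single_mul_single_same, Matrix.single_mul_single_of_ne _ _ _ _ hij.symm] at h2
    have h3 := congrFun (congrFun (Matrix.toLinAlgEquiv'.injective h2) i) j
    simp at h3

/-- the first component of a unit -/
noncomputable def pu (u : (LR (Fin n) K)ˣ) : (R K (Fin n → K))ˣ := Units.map (prL n K).toMonoidHom u

theorem pu_val (u : (LR (Fin n) K)ˣ) : (pu u : R K (Fin n → K)) = prL n K u := rfl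

theorem phi_cj {u : (LR (Fin n) K)ˣ} (h : cj _ u ∈ SAut (LR (Fin n) K)) :
    phi n K ⟨cj _ u, h⟩ = H198.FC.cj K _ (pu u) := by
  refine Equiv.ext fun X => ?_
  rw [phi_apply, H198.FC.cj_apply, cj_apply, map_mul, map_mul, pr_sy]
  rfl

theorem mem_comm_iff [Finite K] (hn : 3 ≤ n) (F : FR (LR (Fin n) K)) (u : (LR (Fin n) K)ˣ) :
    u ∈ (⁅F.Iso, F.Iso⁆ : Subgroup _) ↔ u ∈ F.Iso ∧ LinearMap.det (prL n K u) = 1 := by
  have _ := Fintype.ofFinite K
  have hr : (LR.gl (ι := Fin n) (F := K)).range = F.Iso := by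
    ext u
    rw [LR.mem_gl]
    exact ⟨fun hu => mem_Iso_max (F.L_eq eps_LR.cen eps_LR.add) hu, fun hu => hu.1⟩
  have hd : ∀ A : GL (Fin n) K, LinearMap.det (prL n K (LR.gl A)) = Matrix.det (A : Matrix (Fin n) (Fin n) K) :=
    fun A => LinearMap.det_toLin' _
  rw [← hr, comm_range, Cfsg.Agent.S0264.result n (by omega)]
  constructor
  · rintro ⟨A, hA, rfl⟩
    exact ⟨⟨A, rfl⟩, (hd A).trans (congrArg Units.val (MonoidHom.mem_ker.1 hA))⟩
  · rintro ⟨⟨A, rfl⟩, hA⟩
    exact ⟨A, MonoidHom.mem_ker.2 (Units.ext ((hd A).symm.trans hA)), rfl⟩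

/-- the image of a subgroup -/
noncomputable def im (S : Subgroup (RingAut (LR (Fin n) K))) : Subgroup (Equiv.Perm (R K (Fin n → K))) :=
  (S.subgroupOf (SAut _)).map (phi n K)

theorem im_S [Finite K] (hn : 3 ≤ n) (F : FR (LR (Fin n) K)) : im F.S = SLc K (Fin n → K) := by
  ext f
  constructor
  · rintro ⟨⟨_, hγ⟩, ⟨u, hu, rfl⟩, rfl⟩
    rw [phi_cj]
    exact cj_mem_SLc ((mem_comm_iff hn F u).1 hu).2
  · rintro ⟨x, hx, rfl⟩
    let u : (LR (Fin n) K)ˣ := LR.gl (Units.map (Matrix.toLinAlgEquiv' (n := Fin n) (R := K)).symm.toMonoidHom x)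
    have h1 : pu u = x := Units.ext (Matrix.toLinAlgEquiv'.apply_symm_apply (x : R K (Fin n → K)))
    have h2 : (u : LR (Fin n) K) * star (u : LR (Fin n) K) = 1 := (LR.mem_gl u).1 ⟨_, rfl⟩
    refine ⟨⟨cj _ u, cj_mem_SAut h2⟩, ⟨u, (mem_comm_iff hn F u).2
      ⟨mem_Iso_max (F.L_eq eps_LR.cen eps_LR.add) h2, ?_⟩, rfl⟩, by rw [phi_cj, h1]⟩
    rw [← pu_val, h1]
    exact congrArg Units.val (MonoidHom.mem_ker.1 hx)

theorem dat_im [Finite K] (hn : 3 ≤ n) {F : FR (LR (Fin n) K)} {S Y : Subgroup (RingAut (LR (Fin n) K))} {r a : ℕ}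
    (hr : r.Prime) (ha : 1 ≤ a) (hna : n = r ^ a) (h : Cl.ExtD F S Y r) (hc : Nat.card Y = r ^ (2 * a)) :
    H716.FC.Dat (im Y) r a := by
  obtain ⟨h1, h2, h3, -, h5⟩ := h
  have hY : Y ≤ SAut _ := (h1.trans inf_le_right).trans (F.S_le_Aut.trans F.Aut_le_SAut)
  refine ⟨hr, ha, by rw [← hna]; simp, ?_, ?_, ?_, ?_, ?_⟩
  · rintro _ ⟨⟨γ, hγ⟩, hγY, rfl⟩
    obtain ⟨u, -, rfl⟩ := (h1 hγY).2
    exact ⟨pu u, (phi_cj hγ).symm⟩
  · rw [im, Subgroup.card_map_of_injective (phi_injective (by omega)), ← hc]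
    exact Nat.card_congr (Subgroup.subgroupOfEquivOfLe hY).toEquiv
  · rintro _ ⟨γ, hγ, rfl⟩
    rw [← map_pow, show γ ^ r = 1 from Subtype.ext (h3 _ hγ), map_one]
  · rintro _ ⟨γ, hγ, rfl⟩ _ ⟨δ, hδ, rfl⟩
    rw [← map_mul, ← map_mul, show γ * δ = δ * γ from Subtype.ext (h2 _ hγ _ hδ)]
  · set W := Submodule.span K {X : R K (Fin n → K) | ∃ x : (R K (Fin n → K))ˣ, (x : R K (Fin n → K)) = X ∧
      H198.FC.cj K _ x ∈ im Y} with hW
    have w1 : (1 : R K (Fin n → K)) ∈ W := Submodule.subset_span ⟨1, rfl, by rw [map_one]; exact one_mem _⟩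
    have wm : ∀ X ∈ W, ∀ X' ∈ W, X * X' ∈ W := by
      intro X hX X' hX'
      have h6 := Submodule.mul_mem_mul hX hX'
      rw [hW, Submodule.span_mul_span] at h6
      refine Submodule.span_mono ?_ h6
      rintro _ ⟨_, ⟨x, rfl, hx⟩, _, ⟨y, rfl, hy⟩, rfl⟩
      exact ⟨x * y, rfl, by rw [map_mul]; exact mul_mem hx hy⟩
    let B : Subring (LR (Fin n) K) :=
      { carrier := {a | prL n K a ∈ W}
        mul_mem' := fun {a b} ha hb => by
          show prL n K (a * b) ∈ W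
          rw [map_mul]; exact wm _ ha _ hb
        one_mem' := by
          show prL n K 1 ∈ W
          rw [map_one]; exact w1
        add_mem' := fun {a b} ha hb => by
          show prL n K (a + b) ∈ W
          rw [map_add]; exact W.add_mem ha hb
        zero_mem' := by
          show prL n K 0 ∈ W
          rw [map_zero]; exact W.zero_mem
        neg_mem' := fun {a} ha => by
          show prL n K (-a) ∈ W
          rw [map_neg]; exact W.neg_mem ha }
    have hB : ⊤ ≤ B := by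
      rw [← h5, Subring.closure_le]
      rintro a (ha | ⟨u, hu, huY, rfl⟩)
      · obtain ⟨k, hk⟩ := luL.scal_of ha
        show prL n K a ∈ W
        rw [hk]
        exact W.smul_mem k w1
      · exact Submodule.subset_span ⟨pu u, rfl, ⟨cj _ u, hY huY⟩, huY, phi_cj _⟩
    rw [eq_top_iff]
    intro X _
    rw [← pr_sy X]
    exact hB (Subring.mem_top _)

theorem rowLExt : Cl.RowLExt := by
  intro K _ _ n F S Y H hc
  have hn : 3 ≤ n := by rcases hc with h | h <;> omega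
  have : Nonempty (Fin n) := ⟨⟨0, by omega⟩⟩
  obtain ⟨r, hE⟩ : ∃ r, Cl.ExtD F S Y r := hc.elim (fun h => ⟨_, h.2.2.1⟩) fun h => ⟨_, h.2.2.1⟩
  have hS : im S ≤ RA K (Fin n → K) := by
    rintro _ ⟨γ, -, rfl⟩
    exact phi_mem γ
  have hYS : im Y ≤ im S := Subgroup.map_mono (Subgroup.comap_mono (hE.1.trans inf_le_left))
  have hYT : im Y ≤ SLc K (Fin n → K) := by
    rw [← im_S hn F]
    exact Subgroup.map_mono (Subgroup.comap_mono (hE.1.trans inf_le_right))
  have hnorm : ∀ g ∈ im S, ∀ f ∈ im Y, g * f * g⁻¹ ∈ im Y := by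
    rintro _ ⟨γ, hγ, rfl⟩ _ ⟨δ, hδ, rfl⟩
    exact ⟨γ * δ * γ⁻¹, hE.2.2.2.1 _ hγ _ hδ, by rw [map_mul, map_mul, map_inv]⟩
  have hinj := phi_injective (K := K) (n := n) (by omega)
  have e1 := Subgroup.map_subgroupOf_eq_of_le (F.S_le_Aut.trans F.Aut_le_SAut)
  have e2 := Subgroup.map_subgroupOf_eq_of_le H.le_SAut
  rcases hc with ⟨h1, -, h3, h4⟩ | ⟨h1, h2, h3, h4⟩
  · have h5 := four_three hS hYS (dat_im hn Nat.prime_three le_rfl h1 h3 h4) hnorm hYT
    rw [← im_S hn F] at h5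
    obtain ⟨x, hx, y, hy, z, hz, h6⟩ := Four.of_map _ hinj h5
    exact H.good_of_four ⟨x, hx, y, hy, z, hz, fun s hs a b c =>
      congrArg Subtype.val (h6 ⟨s, H.le_SAut hs⟩ hs a b c)⟩
  · have hK : ∀ s : K, s ≠ 0 → s * s = 1 := fun s hs => by
      have _ := Fintype.ofFinite K
      have h5 := FiniteField.pow_card_sub_one_eq_one s hs
      rwa [← Nat.card_eq_fintype_card, h2, pow_two] at h5
    have h5 := seven_four hK hS hYS (dat_im hn Nat.prime_two one_le_two h1 h3 h4) hnorm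
    rw [← im_S hn F] at h5
    have h6 := (Seven.of_map _ hinj h5).map _ (SAut (LR (Fin n) K)).subtype_injective
    rw [e1, e2] at h6
    exact Or.inr h6

end Cfsg.Agent.SB.Tor

private theorem dce_b617656586ba : _root_.True := by
  try have : _root_.True := by simp only [_root_.Cfsg.Agent.SB.Tor.sy.eq_1]
  try have : _root_.True := by simp only [_root_.Cfsg.Agent.DS.Cl.Fwd.LR.mk.eq_1]
  try have : _root_.True := by simp only [_root_.Cfsg.Agent.SB.Tor.im.eq_1]
  exact _root_.True.intro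
end

-- part: SB/Idem/Form
section
prune_inst 0x105065445d2202000000800020201c22f20001000008040004010a040fc92c0a80c20060b590200542020185483d000002100080400000000a200000011d01a08000000080080008800009000000000000000000000000000000000000000000000000000
set_option linter.all false
open scoped Cfsg.Agent.FastGrp

-- part: SB/Idem/Ar
section
/-!
# S5765, classical rows: kernel arithmetic for matrices over `F₂, F₃, F₄, F₉` (helper96)

Matrices are natural numbers (`w` bits for an entry); `ev : ℕ → K` decodes an entry.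
-/

set_option autoImplicit false

namespace Cfsg.Agent.SB.Idem

open Finset

/-- `∑ i < n, f i` -/
def sumTo (n : ℕ) (f : ℕ → ℕ) : ℕ := Nat.rec 0 (fun i acc => Nat.add acc (f i)) n

/-- `∀ i < n, f i` -/
def allTo (n : ℕ) (f : ℕ → Bool) : Bool := Nat.rec true (fun i acc => f i && acc) n

theorem sumTo_succ (n : ℕ) (f : ℕ → ℕ) : sumTo (n + 1) f = sumTo n f + f n := rfl

theorem allTo_iff {n : ℕ} {f : ℕ → Bool} : allTo n f = true ↔ ∀ i < n, f i = true := by
  induction n with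
  | zero => simp [allTo]
  | succ n ih =>
    change (f n && allTo n f) = true ↔ _
    rw [Bool.and_eq_true, ih]
    constructor
    · rintro ⟨h1, h2⟩ i hi
      rcases Nat.lt_succ_iff_lt_or_eq.1 hi with h | h
      · exact h2 i h
      · rwa [h]
    · exact fun h => ⟨h n (Nat.lt_succ_self n), fun i hi => h i (Nat.lt_succ_of_lt hi)⟩

/-- the arithmetic -/
structure Ar where
  /-- bits of an entry -/
  w : ℕ
  /-- bound for the entries -/
  m : ℕ
  /-- spreading the digits of an entry -/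
  hat : ℕ → ℕ
  /-- reduction of a sum of products -/
  red : ℕ → ℕ
  /-- the involution -/
  cj : ℕ → ℕ

namespace Ar

/-- correctness of the arithmetic -/
structure Sound (a : Ar) {K : Type} [Field K] (ev : ℕ → K) : Prop where
  ev0 : ev 0 = 0
  ev1 : ev 1 = 1
  one_lt : 1 < a.m
  red_lt : ∀ S, a.red S < a.m
  sum : ∀ n ≤ 1000, ∀ x y : ℕ → ℕ, (∀ i, x i < a.m) → (∀ i, y i < a.m) →
    ev (a.red (sumTo n fun i => Nat.mul (a.hat (x i)) (a.hat (y i)))) = ∑ i ∈ range n, ev (x i) * ev (y i)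
  inj : ∀ S T, ev (a.red S) = ev (a.red T) → a.red S = a.red T

variable (a : Ar)

/-- an entry of a matrix -/
def ent (n N i j : ℕ) : ℕ := Nat.mod (Nat.shiftRight N (Nat.mul a.w (Nat.add (Nat.mul n i) j))) a.m

/-- a sum of products -/
def sp (n : ℕ) (x y : ℕ → ℕ) : ℕ := a.red (sumTo n fun i => Nat.mul (a.hat (x i)) (a.hat (y i)))

/-- an entry of a product -/
def dot (n X Y i j : ℕ) : ℕ := a.sp n (fun k => a.ent n X i k) fun k => a.ent n Y k j

/-- `X * Y = W` -/
def mulOK (n X Y W : ℕ) : Bool := allTo n fun i => allTo n fun j => Nat.beq (a.dot n X Y i j) (a.ent n W i j)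

/-- `X` is the matrix with the entries `g i j` -/
def entOK (n X : ℕ) (g : ℕ → ℕ → ℕ) : Bool := allTo n fun i => allTo n fun j => Nat.beq (a.ent n X i j) (g i j)

/-- the trace -/
def tr (n X : ℕ) : ℕ := a.sp n (fun i => a.ent n X i i) fun _ => 1

/-- the trace of `E * X * Y`, `E` the projection to the coordinates with `c i` -/
def trm (n : ℕ) (c : ℕ → Bool) (X Y : ℕ) : ℕ := a.sp n (fun i => cond (c i) (a.dot n X Y i i) 0) fun _ => 1

/-- the matrix of a number -/
def M {K : Type} (ev : ℕ → K) (n N : ℕ) : Matrix (Fin n) (Fin n) K := Matrix.of fun i j => ev (a.ent n N i j)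

variable {a} {K : Type} [Field K] {ev : ℕ → K}

omit [Field K] in
theorem M_apply (n N : ℕ) (i j : Fin n) : a.M ev n N i j = ev (a.ent n N i j) := rfl

namespace Sound

variable (h : a.Sound ev)
include h

theorem ent_lt (n N i j : ℕ) : a.ent n N i j < a.m := Nat.mod_lt _ (by have := h.one_lt; omega)

theorem ev_sp {n : ℕ} (hn : n ≤ 1000) {x y : ℕ → ℕ} (hx : ∀ i, x i < a.m) (hy : ∀ i, y i < a.m) :
    ev (a.sp n x y) = ∑ i : Fin n, ev (x i) * ev (y i) := by
  rw [Fin.sum_univ_eq_sum_range (fun i => ev (x i) * ev (y i))]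
  exact h.sum n hn x y hx hy

theorem ev_dot {n : ℕ} (hn : n ≤ 1000) (X Y : ℕ) (i j : Fin n) :
    ev (a.dot n X Y i j) = (a.M ev n X * a.M ev n Y) i j := by
  rw [dot, h.ev_sp hn (fun _ => h.ent_lt _ _ _ _) fun _ => h.ent_lt _ _ _ _, Matrix.mul_apply]
  rfl

theorem mul_eq {n : ℕ} (hn : n ≤ 1000) {X Y W : ℕ} (H : a.mulOK n X Y W = true) :
    a.M ev n X * a.M ev n Y = a.M ev n W := by
  ext i j
  rw [← h.ev_dot hn, Nat.eq_of_beq_eq_true (allTo_iff.1 (allTo_iff.1 H i i.2) j j.2)]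
  rfl

omit h [Field K] in
theorem ent_eq {n X : ℕ} {g : ℕ → ℕ → ℕ} (H : a.entOK n X g = true) (i j : Fin n) : a.M ev n X i j = ev (g i j) := by
  rw [M_apply, Nat.eq_of_beq_eq_true (allTo_iff.1 (allTo_iff.1 H i i.2) j j.2)]

theorem ev_tr {n : ℕ} (hn : n ≤ 1000) (X : ℕ) : ev (a.tr n X) = (a.M ev n X).trace := by
  rw [tr, h.ev_sp hn (fun _ => h.ent_lt _ _ _ _) fun _ => h.one_lt]
  simp only [h.ev1, mul_one]
  rfl

theorem ev_trm {n : ℕ} (hn : n ≤ 1000) (c : ℕ → Bool) (X Y : ℕ) :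
    ev (a.trm n c X Y) =
      (Matrix.diagonal (fun i : Fin n => if c i then (1 : K) else 0) * a.M ev n X * a.M ev n Y).trace := by
  rw [trm, h.ev_sp hn (fun i => by
    cases c i
    · have := h.one_lt
      simp only [cond_false]
      omega
    · exact h.red_lt _) fun _ => h.one_lt, Matrix.mul_assoc, Matrix.trace]
  refine Finset.sum_congr rfl fun i _ => ?_
  rw [Matrix.diag_apply, Matrix.diagonal_mul, h.ev1, mul_one]
  cases c i
  · simp [h.ev0]
  · simp [h.ev_dot hn]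

theorem sp_inj {n n' : ℕ} {x y x' y' : ℕ → ℕ} (H : ev (a.sp n x y) = ev (a.sp n' x' y')) :
    a.sp n x y = a.sp n' x' y' := h.inj _ _ H

end Sound

end Ar

/-- prime fields -/
def arP (p : ℕ) : Ar where
  w := 2
  m := 4
  hat x := x
  red S := Nat.mod S p
  cj x := x

theorem cast_sumTo {K : Type} [Field K] (n : ℕ) (f : ℕ → ℕ) : ((sumTo n f : ℕ) : K) = ∑ i ∈ range n, (f i : K) := by
  induction n with
  | zero => simp only [sumTo, _root_.Nat.add_eq, _root_.Nat.rec_zero, _root_.Nat.cast_zero, _root_.Finset.range_zero, _root_.Finset.sum_empty]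
  | succ n ih => rw [sumTo_succ, Nat.cast_add, ih, Finset.sum_range_succ]

theorem arP_sound {K : Type} [Field K] {p : ℕ} [CharP K p] (h0 : 0 < p) (h4 : p ≤ 4) :
    (arP p).Sound (fun x : ℕ => (x : K)) where
  ev0 := Nat.cast_zero
  ev1 := Nat.cast_one
  one_lt := (by decide : 1 < 4)
  red_lt S := (Nat.mod_lt S h0).trans_le h4
  sum n _ x y _ _ := by
    change ((_ % p : ℕ) : K) = _
    rw [← CharP.cast_eq_mod K p, cast_sumTo]
    exact Finset.sum_congr rfl fun i _ => Nat.cast_mul _ _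
  inj S T H := by
    have h1 := (CharP.natCast_eq_natCast K p).1 H
    change S % p % p = T % p % p at h1
    change S % p = T % p
    simpa using h1

/-- fields with `p ^ 2` elements, `ω ^ 2 = c₁ ω + c₀` -/
def arQ (p c₀ c₁ : ℕ) : Ar where
  w := 4
  m := 16
  hat x := Nat.add (Nat.mod x 4) (Nat.mul (Nat.div x 4) 65536)
  red S := Nat.add (Nat.mod (Nat.add (Nat.mod S 65536) (Nat.mul c₀ (Nat.div S 4294967296))) p)
    (Nat.mul 4 (Nat.mod (Nat.add (Nat.mod (Nat.div S 65536) 65536) (Nat.mul c₁ (Nat.div S 4294967296))) p))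
  cj x := Nat.add (Nat.mod (Nat.add (Nat.mod x 4) (Nat.mul c₁ (Nat.div x 4))) p)
    (Nat.mul 4 (Nat.mod (Nat.mul (Nat.pred p) (Nat.div x 4)) p))

/-- the element with the code `x` -/
def evQ {K : Type} [Field K] (ω : K) (x : ℕ) : K := ((x % 4 : ℕ) : K) + ((x / 4 : ℕ) : K) * ω

theorem evQ_add {K : Type} [Field K] (ω : K) {x : ℕ} (hx : x < 4) (y : ℕ) : evQ ω (x + 4 * y) = x + y * ω := by
  rw [evQ, show (x + 4 * y) % 4 = x by omega, show (x + 4 * y) / 4 = y by omega]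

theorem arQ_sum {K : Type} [Field K] (ω : K) (n : ℕ) (x y : ℕ → ℕ) (hx : ∀ i, x i < 16) (hy : ∀ i, y i < 16) :
    ∃ S₀ S₁ S₂ : ℕ, S₀ ≤ 9 * n ∧ S₁ ≤ 18 * n ∧
      (sumTo n fun i => (x i % 4 + x i / 4 * 65536) * (y i % 4 + y i / 4 * 65536)) =
        S₀ + 65536 * S₁ + 4294967296 * S₂ ∧
      ∑ i ∈ range n, evQ ω (x i) * evQ ω (y i) = S₀ + S₁ * ω + S₂ * ω ^ 2 := by
  induction n with
  | zero => exact ⟨0, 0, 0, le_rfl, le_rfl, rfl, by simp⟩
  | succ n ih =>
    obtain ⟨S₀, S₁, S₂, h0, h1, h2, h3⟩ := ih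
    have a1 : x n % 4 ≤ 3 := by omega
    have a2 : y n % 4 ≤ 3 := by omega
    have a3 : x n / 4 ≤ 3 := by have := hx n; omega
    have a4 : y n / 4 ≤ 3 := by have := hy n; omega
    have b1 := Nat.mul_le_mul a1 a2
    have b2 := Nat.mul_le_mul a1 a4
    have b3 := Nat.mul_le_mul a3 a2
    refine ⟨S₀ + x n % 4 * (y n % 4), S₁ + (x n % 4 * (y n / 4) + x n / 4 * (y n % 4)), S₂ + x n / 4 * (y n / 4),
      by omega, by omega, ?_, ?_⟩
    · rw [sumTo_succ, h2]
      ring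
    · rw [Finset.sum_range_succ, h3, evQ, evQ]
      push_cast
      ring

theorem arQ_sound {K : Type} [Field K] {p c₀ c₁ : ℕ} [CharP K p] (h0 : 0 < p) (h4 : p ≤ 4) {ω : K}
    (hω : ω ^ 2 = c₁ * ω + c₀)
    (hi' : ∀ x y x' y' : ℕ, (x : K) + y * ω = x' + y' * ω → (y : K) = y') : (arQ p c₀ c₁).Sound (evQ ω) where
  ev0 := by simp [evQ]
  ev1 := by simp [evQ]
  one_lt := (by decide : 1 < 16)
  red_lt S := by
    change _ % p + 4 * (_ % p) < 16
    have h1 := Nat.mod_lt (S % 65536 + c₀ * (S / 4294967296)) h0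
    have h2 := Nat.mod_lt (S / 65536 % 65536 + c₁ * (S / 4294967296)) h0
    exact lt_of_lt_of_le (Nat.add_lt_add_of_lt_of_le (h1.trans_le h4)
      (Nat.mul_le_mul_left 4 (Nat.le_of_lt_succ (h2.trans_le h4)))) (by norm_num)
  sum n hn x y hx hy := by
    obtain ⟨S₀, S₁, S₂, h1, h2, h3, h5⟩ := arQ_sum ω n x y hx hy
    obtain ⟨S, hS⟩ : ∃ S, S = S₀ + 65536 * S₁ + 4294967296 * S₂ := ⟨_, rfl⟩
    have e : (sumTo n fun i => Nat.mul ((arQ p c₀ c₁).hat (x i)) ((arQ p c₀ c₁).hat (y i))) = S := h3.trans hS.symm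
    rw [e, h5]
    change evQ ω ((S % 65536 + c₀ * (S / 4294967296)) % p + 4 * ((S / 65536 % 65536 + c₁ * (S / 4294967296)) % p)) = _
    rw [evQ_add ω ((Nat.mod_lt _ h0).trans_le h4), ← CharP.cast_eq_mod K p, ← CharP.cast_eq_mod K p,
      show S % 65536 = S₀ by (clear * - hn h1 hS; omega), show S / 4294967296 = S₂ by (clear * - hn h1 h2 hS e; omega), show S / 65536 % 65536 = S₁ by (clear * - hn h1 h2 hS; omega), hω]
    push_cast
    ring
  inj S T H := by
    change evQ ω (_ % p + 4 * (_ % p)) = evQ ω (_ % p + 4 * (_ % p)) at H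
    change _ % p + 4 * (_ % p) = _ % p + 4 * (_ % p)
    rw [evQ_add ω ((Nat.mod_lt _ h0).trans_le h4), evQ_add ω ((Nat.mod_lt _ h0).trans_le h4)] at H
    have h1 := hi' _ _ _ _ H
    rw [h1, add_left_inj] at H
    have h2 := (CharP.natCast_eq_natCast K p).1 H
    have h3 := (CharP.natCast_eq_natCast K p).1 h1
    rw [Nat.ModEq, Nat.mod_mod, Nat.mod_mod] at h2 h3
    rw [h2, h3]

theorem arQ_cj {K : Type} [Field K] {p c₀ c₁ : ℕ} [CharP K p] (h0 : 0 < p) (h4 : p ≤ 4) {ω : K} {τ : K →+* K}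
    (hτ : τ ω = c₁ - ω) (x : ℕ) : evQ ω ((arQ p c₀ c₁).cj x) = τ (evQ ω x) := by
  change evQ ω ((x % 4 + c₁ * (x / 4)) % p + 4 * ((p - 1) * (x / 4) % p)) = _
  rw [evQ_add ω ((Nat.mod_lt _ h0).trans_le h4), ← CharP.cast_eq_mod K p, ← CharP.cast_eq_mod K p, evQ, map_add,
    map_mul, map_natCast, map_natCast, hτ, Nat.cast_mul (p - 1), Nat.cast_sub h0, CharP.cast_eq_zero K p]
  push_cast
  ring

end Cfsg.Agent.SB.Idem
end

-- part: SB/Idem/Chk
section
/-!
# S5765, classical rows: certificates for four frames (helper96)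
-/

set_option autoImplicit false

namespace Cfsg.Agent.SB.Idem

open Finset Ar

/-- a digit in base four -/
def dig (m i : ℕ) : ℕ := Nat.mod (Nat.shiftRight m (Nat.mul 2 i)) 4

/-- an entry of a table -/
def tab (T a b c : ℕ) : ℕ := Nat.mod (Nat.shiftRight T (Nat.mul 4 (Nat.add a (Nat.add (Nat.mul 4 b) (Nat.mul 16 c))))) 16

/-- the permutations of `0, 1, 2, 3` fixing the numbers `≥ t` -/
def perms (t : ℕ) : List ℕ :=
  cond (Nat.beq t 2) [228, 225] (cond (Nat.beq t 3) [228, 225, 216, 210, 201, 198]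
    [228, 225, 216, 210, 201, 198, 180, 177, 156, 147, 141, 135, 120, 114, 108, 99, 78, 75, 57, 54, 45, 39, 30, 27])

theorem perms_aux : ∀ t ∈ [2, 3, 4], ∀ a b c d : Fin 4, a ≠ b → a ≠ c → a ≠ d → b ≠ c → b ≠ d → c ≠ d →
    (t ≤ 2 → c = 2) → (t ≤ 3 → d = 3) → a.1 + 4 * b.1 + 16 * c.1 + 64 * d.1 ∈ perms t := by
  decide +kernel

theorem dig_aux : ∀ a b c d : Fin 4, ∀ i : Fin 4, dig (a.1 + 4 * b.1 + 16 * c.1 + 64 * d.1) i = (![a, b, c, d] i).1 := by
  decide +kernel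

theorem exists_perm {t : ℕ} (h2 : 2 ≤ t) (h4 : t ≤ 4) (σ : ℕ → ℕ) (h : ∀ b < t, σ b < t)
    (hi : ∀ b < t, ∀ c < t, σ b = σ c → b = c) : ∃ s ∈ perms t, s < 256 ∧ ∀ b < t, dig s b = σ b := by
  let ρ : Fin 4 → Fin 4 := fun i => if hi : i.1 < t then ⟨σ i, (h i hi).trans_le h4⟩ else i
  have hρ : ∀ i j, i ≠ j → ρ i ≠ ρ j := by
    intro i j hij e
    have e' := congrArg Fin.val e
    simp only [ρ] at e'
    split_ifs at e' with h1 h2 h2
    · exact hij (Fin.ext (hi _ h1 _ h2 e'))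
    · have := h i h1
      simp only at e'
      omega
    · have := h j h2
      simp only at e'
      omega
    · exact hij (Fin.ext e')
  refine ⟨_, perms_aux t (by simp; omega) (ρ 0) (ρ 1) (ρ 2) (ρ 3) (hρ _ _ (by decide)) (hρ _ _ (by decide))
    (hρ _ _ (by decide)) (hρ _ _ (by decide)) (hρ _ _ (by decide)) (hρ _ _ (by decide))
    (fun h1 => dif_neg (by simp; omega)) (fun h1 => dif_neg (by simp; omega)), by omega, fun b hb => ?_⟩
  have h1 := dig_aux (ρ 0) (ρ 1) (ρ 2) (ρ 3) ⟨b, hb.trans_le h4⟩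
  have h3 : ∀ i : Fin 4, ![ρ 0, ρ 1, ρ 2, ρ 3] i = ρ i := fun i => by fin_cases i <;> rfl
  rw [h3] at h1
  rw [h1]
  simp only [ρ, hb, dif_pos]

/-- four permutations in one number -/
def code (s₀ s₁ s₂ s₃ : ℕ) : ℕ := Nat.add s₀ (Nat.add (Nat.mul 256 s₁) (Nat.add (Nat.mul 65536 s₂) (Nat.mul 16777216 s₃)))

theorem dig_code {s : ℕ → ℕ} (h : ∀ k < 4, s k < 256) {k b : ℕ} (hk : k < 4) (hb : b < 4) :
    dig (code (s 0) (s 1) (s 2) (s 3)) (4 * k + b) = dig (s k) b := by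
  have h0 := h 0 (by norm_num)
  have h1 := h 1 (by norm_num)
  have h2 := h 2 (by norm_num)
  have h3 := h 3 (by norm_num)
  change (s 0 + (256 * s 1 + (65536 * s 2 + 16777216 * s 3))) >>> (2 * (4 * k + b)) % 4 = s k >>> (2 * b) % 4
  simp only [Nat.shiftRight_eq_div_pow]
  interval_cases k <;> interval_cases b <;> norm_num only [_root_.Nat.div_one] <;> omega

/-- invariance of a table -/
def okT (t T T' s₀ s₁ s₂ : ℕ) : Bool :=
  allTo t fun a => allTo t fun b => allTo t fun c => Nat.beq (tab T (dig s₀ a) (dig s₁ b) (dig s₂ c)) (tab T' a b c)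

/-- the search through all permutations -/
def search (t T₂ T₂' T₃ T₃' : ℕ) (fin : ℕ → Bool) : Bool :=
  (perms t).all fun s₀ => (perms t).all fun s₁ => (perms t).all fun s₂ => !okT t T₂ T₂' s₀ s₁ s₂ ||
    (perms t).all fun s₃ => !okT t T₃ T₃' s₀ s₁ s₃ || fin (code s₀ s₁ s₂ s₃)

theorem search_sound {t T₂ T₂' T₃ T₃' : ℕ} {fin : ℕ → Bool} (H : search t T₂ T₂' T₃ T₃' fin = true)
    {s : ℕ → ℕ} (hs : ∀ k < 4, s k ∈ perms t)
    (h2 : ∀ a < t, ∀ b < t, ∀ c < t, tab T₂ (dig (s 0) a) (dig (s 1) b) (dig (s 2) c) = tab T₂' a b c)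
    (h3 : ∀ a < t, ∀ b < t, ∀ c < t, tab T₃ (dig (s 0) a) (dig (s 1) b) (dig (s 3) c) = tab T₃' a b c) :
    fin (code (s 0) (s 1) (s 2) (s 3)) = true := by
  have a2 : okT t T₂ T₂' (s 0) (s 1) (s 2) = true :=
    allTo_iff.2 fun a ha => allTo_iff.2 fun b hb => allTo_iff.2 fun c hc => Nat.beq_eq ▸ h2 a ha b hb c hc
  have a3 : okT t T₃ T₃' (s 0) (s 1) (s 3) = true :=
    allTo_iff.2 fun a ha => allTo_iff.2 fun b hb => allTo_iff.2 fun c hc => Nat.beq_eq ▸ h3 a ha b hb c hc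
  have h4 := List.all_eq_true.1 (List.all_eq_true.1 (List.all_eq_true.1 H _ (hs 0 (by norm_num))) _
    (hs 1 (by norm_num))) _ (hs 2 (by norm_num))
  rw [a2] at h4
  have h5 := List.all_eq_true.1 h4 _ (hs 3 (by norm_num))
  rwa [a3] at h5

/-- a product of letters, with the partial products `Ns` -/
def chainOK (a : Ar) (n t : ℕ) (g : ℕ → ℕ → ℕ) (w : List (ℕ × ℕ)) : ℕ → List ℕ → Bool :=
  List.rec (fun _ _ => true) (fun l _ ih cur Ns => Nat.blt l.1 4 && Nat.blt l.2 t &&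
    a.mulOK n cur (g l.1 l.2) (Ns.headD 0) && ih (Ns.headD 0) Ns.tail) w

/-- the product -/
def chainEnd (w : List (ℕ × ℕ)) : ℕ → List ℕ → ℕ :=
  List.rec (fun cur _ => cur) (fun _ _ ih _ Ns => ih (Ns.headD 0) Ns.tail) w

theorem chain_sound {a : Ar} {K : Type} [Field K] {ev : ℕ → K} (h : a.Sound ev) {n t : ℕ} (hn : n ≤ 1000)
    {g : ℕ → ℕ → ℕ} (w : List (ℕ × ℕ)) (cur : ℕ) (Ns : List ℕ) (H : chainOK a n t g w cur Ns = true) :
    (∀ l ∈ w, l.1 < 4 ∧ l.2 < t) ∧
      a.M ev n (chainEnd w cur Ns) = a.M ev n cur * (w.map fun l => a.M ev n (g l.1 l.2)).prod := by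
  induction w generalizing cur Ns with
  | nil => exact ⟨by simp, by simp [chainEnd]⟩
  | cons l w ih =>
    change (Nat.blt l.1 4 && Nat.blt l.2 t && a.mulOK n cur (g l.1 l.2) (Ns.headD 0) &&
      chainOK a n t g w (Ns.headD 0) Ns.tail) = true at H
    simp only [Bool.and_eq_true, Nat.blt_eq] at H
    obtain ⟨⟨⟨h1, h2⟩, h3⟩, h4⟩ := H
    obtain ⟨h5, h6⟩ := ih _ _ h4
    refine ⟨fun l' hl' => ?_, ?_⟩
    · rcases List.mem_cons.1 hl' with rfl | h7
      exacts [⟨h1, h2⟩, h5 l' h7]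
    · change a.M ev n (chainEnd w (Ns.headD 0) Ns.tail) = _
      rw [h6, List.map_cons, List.prod_cons, ← Matrix.mul_assoc, h.mul_eq hn h3]

/-- a certificate -/
structure Cert where
  /-- the dimension -/
  n : ℕ
  /-- the number of blocks -/
  t : ℕ
  /-- the blocks of the coordinates -/
  bl : ℕ
  /-- the identity matrix -/
  one : ℕ
  /-- three isometries -/
  X : List ℕ
  /-- products -/
  XY : List ℕ
  /-- products -/
  YX : List ℕ
  /-- commutators -/
  Z : List ℕ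
  /-- the idempotents of the four frames -/
  f : List (List ℕ)
  /-- traces -/
  T₂ : ℕ
  /-- traces -/
  T₂' : ℕ
  /-- traces -/
  T₃ : ℕ
  /-- traces -/
  T₃' : ℕ
  /-- words excluding further permutations -/
  ex : List (ℕ × List (ℕ × ℕ) × List ℕ × List ℕ)
  /-- a word of rank one -/
  w : List (ℕ × ℕ)
  /-- its partial products -/
  ws : List ℕ
  /-- its row -/
  φ : ℕ
  /-- its column -/
  j₀ : ℕ
  /-- a basis obtained by spinning -/
  P : ℕ
  /-- the inverse matrix -/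
  Q : ℕ
  /-- the way the basis is obtained -/
  tree : List (ℕ × ℕ × ℕ)

namespace Cert

variable (a : Ar) (C : Cert)

/-- the isometries -/
def x (k : ℕ) : ℕ := C.X.getD k 0

/-- the idempotents -/
def ff (k b : ℕ) : ℕ := (C.f.getD k []).getD b 0

/-- the blocks -/
def inB (b i : ℕ) : Bool := Nat.beq (dig C.bl i) b

/-- sizes, the identity matrix, the first frame -/
def ok₀ : Bool := Nat.ble C.n 1000 && Nat.ble 2 C.t && Nat.ble C.t 4 &&
  a.entOK C.n C.one (fun i j => cond (Nat.beq i j) 1 0) &&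
  allTo C.t fun b => a.entOK C.n (C.ff 0 b) fun i j => cond (Nat.beq i j && C.inB b i) 1 0

/-- the commutators -/
def ok₁ : Bool := allTo 3 fun k => a.mulOK C.n (C.x k) (C.x ((k + 1) % 3)) (C.XY.getD k 0) &&
  a.mulOK C.n (C.x ((k + 1) % 3)) (C.x k) (C.YX.getD k 0) &&
  a.mulOK C.n (C.Z.getD k 0) (C.YX.getD k 0) (C.XY.getD k 0)

/-- the other frames -/
def ok₂ : Bool := allTo 3 fun k => allTo C.t fun b => allTo C.n fun i => allTo C.n fun j =>
  Nat.beq (a.dot C.n (C.ff (k + 1) b) (C.Z.getD k 0) i j) (cond (C.inB b j) (a.ent C.n (C.Z.getD k 0) i j) 0)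

/-- a table of traces -/
def tabOK (T : ℕ) (g g' : ℕ → ℕ → ℕ) : Bool := allTo C.t fun b₀ => allTo C.t fun b => allTo C.t fun c =>
  Nat.beq (tab T b₀ b c) (a.trm C.n (C.inB b₀) (g b c) (g' b c))

/-- the permutations -/
def ok₃ (sw : Bool) : Bool :=
  C.tabOK a C.T₂ (fun b _ => C.ff 1 b) (fun _ c => C.ff 2 c) && C.tabOK a C.T₃ (fun b _ => C.ff 1 b) (fun _ c => C.ff 3 c) &&
  search C.t C.T₂ C.T₂ C.T₃ C.T₃ (fun s => Nat.beq s 3840206052 || C.ex.any fun e => Nat.beq s e.1) &&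
  (C.ex.all fun e => chainOK a C.n C.t C.ff e.2.1 C.one e.2.2.1 &&
    chainOK a C.n C.t (fun k b => C.ff k (dig e.1 (4 * k + b))) e.2.1 C.one e.2.2.2 &&
    !Nat.beq (a.tr C.n (chainEnd e.2.1 C.one e.2.2.1)) (a.tr C.n (chainEnd e.2.1 C.one e.2.2.2))) &&
  (!sw || (C.tabOK a C.T₂' (fun _ c => C.ff 2 c) (fun b _ => C.ff 1 b) &&
    C.tabOK a C.T₃' (fun _ c => C.ff 3 c) (fun b _ => C.ff 1 b) && search C.t C.T₂ C.T₂' C.T₃ C.T₃' fun _ => false))

/-- the commutant -/
def ok₄ : Bool := chainOK a C.n C.t C.ff C.w C.one C.ws && Nat.blt C.j₀ C.n && Nat.beq (a.ent C.n C.φ 0 C.j₀) 1 &&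
  a.entOK C.n (chainEnd C.w C.one C.ws) (fun i j => a.sp 1 (fun _ => a.ent C.n C.P i 0) fun _ => a.ent C.n C.φ 0 j) &&
  a.mulOK C.n C.P C.Q C.one &&
  allTo C.n fun j => Nat.beq j 0 || (Nat.blt (C.tree.getD j (0, 0, 0)).1 j && Nat.blt (C.tree.getD j (0, 0, 0)).2.1 4 &&
    Nat.blt (C.tree.getD j (0, 0, 0)).2.2 C.t && allTo C.n fun i => Nat.beq (a.dot C.n
      (C.ff (C.tree.getD j (0, 0, 0)).2.1 (C.tree.getD j (0, 0, 0)).2.2) C.P i (C.tree.getD j (0, 0, 0)).1)
      (a.ent C.n C.P i j))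

/-- the projection to a block -/
def E (K : Type) [Field K] (b : ℕ) : Matrix (Fin C.n) (Fin C.n) K :=
  Matrix.diagonal fun i => if C.inB b i then 1 else 0

variable {a C} {K : Type} [Field K] {ev : ℕ → K}

theorem of_ok₀ (h : a.Sound ev) (H : C.ok₀ a = true) : C.n ≤ 1000 ∧ 2 ≤ C.t ∧ C.t ≤ 4 ∧ a.M ev C.n C.one = 1 ∧
    ∀ b < C.t, a.M ev C.n (C.ff 0 b) = C.E K b := by
  simp only [ok₀, Bool.and_eq_true, Nat.ble_eq] at H
  obtain ⟨⟨⟨⟨h1, h2⟩, h3⟩, h4⟩, h5⟩ := H
  refine ⟨h1, h2, h3, ?_, fun b hb => ?_⟩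
  · ext i j
    rw [Sound.ent_eq h4, Matrix.one_apply]
    by_cases hij : i = j
    · simp [hij, h.ev1]
    · have e : Nat.beq i j = false := Bool.eq_false_iff.2 fun e => hij (Fin.ext (Nat.eq_of_beq_eq_true e))
      simp [hij, e, h.ev0]
  · ext i j
    rw [Sound.ent_eq (allTo_iff.1 h5 b hb), E, Matrix.diagonal_apply]
    by_cases hij : i = j
    · subst hij
      cases C.inB b i <;> simp [h.ev0, h.ev1]
    · have e : Nat.beq i j = false := Bool.eq_false_iff.2 fun e => hij (Fin.ext (Nat.eq_of_beq_eq_true e))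
      simp [hij, e, h.ev0]

theorem of_ok₂ (h : a.Sound ev) (hn : C.n ≤ 1000) (H : C.ok₂ a = true) {k b : ℕ} (hk : k < 3) (hb : b < C.t) :
    a.M ev C.n (C.ff (k + 1) b) * a.M ev C.n (C.Z.getD k 0) = a.M ev C.n (C.Z.getD k 0) * C.E K b := by
  ext i j
  have h1 := Nat.eq_of_beq_eq_true (allTo_iff.1 (allTo_iff.1 (allTo_iff.1 (allTo_iff.1 H k hk) b hb) i i.2) j j.2)
  rw [← h.ev_dot hn, h1, E, Matrix.mul_diagonal]
  cases C.inB b j
  · simp [h.ev0]
  · simp [M_apply]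

theorem of_tabOK (h : a.Sound ev) (hn : C.n ≤ 1000) {T T' : ℕ} {g₁ g₂ g₁' g₂' : ℕ → ℕ → ℕ}
    (H : C.tabOK a T g₁ g₂ = true) (H' : C.tabOK a T' g₁' g₂' = true) {b₀ b c b₀' b' c' : ℕ}
    (h0 : b₀ < C.t) (h1 : b < C.t) (h2 : c < C.t) (h0' : b₀' < C.t) (h1' : b' < C.t) (h2' : c' < C.t)
    (e : (C.E K b₀ * a.M ev C.n (g₁ b c) * a.M ev C.n (g₂ b c)).trace =
      (C.E K b₀' * a.M ev C.n (g₁' b' c') * a.M ev C.n (g₂' b' c')).trace) : tab T b₀ b c = tab T' b₀' b' c' := by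
  rw [Nat.eq_of_beq_eq_true (allTo_iff.1 (allTo_iff.1 (allTo_iff.1 H b₀ h0) b h1) c h2),
    Nat.eq_of_beq_eq_true (allTo_iff.1 (allTo_iff.1 (allTo_iff.1 H' b₀' h0') b' h1') c' h2')]
  refine h.sp_inj (?_ : ev (a.trm _ _ _ _) = ev (a.trm _ _ _ _))
  rw [h.ev_trm hn, h.ev_trm hn]
  exact e

/-- a matrix commuting with the idempotents is a scalar matrix -/
theorem of_ok₄ (h : a.Sound ev) (hn : C.n ≤ 1000) (h1 : a.M ev C.n C.one = 1) (H : C.ok₄ a = true)
    (U : Matrix (Fin C.n) (Fin C.n) K)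
    (hU : ∀ k < 4, ∀ b < C.t, U * a.M ev C.n (C.ff k b) = a.M ev C.n (C.ff k b) * U) (Y : Matrix (Fin C.n) (Fin C.n) K) :
    U * Y = Y * U := by
  simp only [ok₄, Bool.and_eq_true, Nat.blt_eq, Nat.beq_eq] at H
  obtain ⟨⟨⟨⟨⟨a1, a2⟩, a3⟩, a4⟩, a5⟩, a6⟩ := H
  obtain ⟨b1, b2⟩ := chain_sound h hn _ _ _ a1
  rw [h1, Matrix.one_mul] at b2
  set r := a.M ev C.n (chainEnd C.w C.one C.ws) with hr
  set! P := a.M ev C.n C.P with hP
  have hn0 : 0 < C.n := by omega
  have c1 : U * r = r * U := by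
    rw [b2]
    refine (Commute.list_prod_right _ _ fun Y hY => ?_).eq
    obtain ⟨l, hl, rfl⟩ := List.mem_map.1 hY
    exact hU _ (b1 l hl).1 _ (b1 l hl).2
  have c2 : ∀ i j, r i j = P i ⟨0, hn0⟩ * ev (a.ent C.n C.φ 0 j) := fun i j => by
    rw [hr, Sound.ent_eq a4, h.ev_sp (by norm_num) (fun _ => h.ent_lt _ _ _ _) fun _ => h.ent_lt _ _ _ _]
    simp [hP, M_apply]
  obtain ⟨c, hc⟩ : ∃ c, c = ∑ j : Fin C.n, ev (a.ent C.n C.φ 0 j) * U j ⟨C.j₀, a2⟩ := ⟨_, rfl⟩
  have c3 : ∀ j (hj : j < C.n) i, (U * P) i ⟨j, hj⟩ = c * P i ⟨j, hj⟩ := by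
    intro j
    induction j using Nat.strong_induction_on with
    | _ j ih =>
      intro hj i
      have d1 := allTo_iff.1 a6 j hj
      simp only [Bool.or_eq_true, Bool.and_eq_true, Nat.blt_eq, Nat.beq_eq] at d1
      rcases d1 with rfl | ⟨⟨⟨d1, d2⟩, d3⟩, d4⟩
      · have d2 := congrFun (congrFun c1 i) ⟨C.j₀, a2⟩
        simp only [Matrix.mul_apply, c2, a3, h.ev1, mul_one, mul_assoc, ← Finset.mul_sum] at d2
        rw [Matrix.mul_apply, d2, hc, mul_comm]
      · set! G := a.M ev C.n (C.ff (C.tree.getD j (0, 0, 0)).2.1 (C.tree.getD j (0, 0, 0)).2.2) with hG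
        have d5 : ∀ i, P i ⟨j, hj⟩ = (G * P) i ⟨_, d1.trans hj⟩ := fun i => by
          rw [hG, hP, ← h.ev_dot hn, Nat.eq_of_beq_eq_true (allTo_iff.1 d4 i i.2)]
          rfl
        have d6 : (U * P) i ⟨j, hj⟩ = (U * (G * P)) i ⟨_, d1.trans hj⟩ := by
          rw [Matrix.mul_apply, Matrix.mul_apply]
          exact Finset.sum_congr rfl fun m _ => by rw [d5]
        rw [d6, ← Matrix.mul_assoc, hU _ d2 _ d3, Matrix.mul_assoc, d5, Matrix.mul_apply, Matrix.mul_apply,
          Finset.mul_sum]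
        exact Finset.sum_congr rfl fun m _ => by rw [ih _ d1, mul_left_comm]
  have c4 : U * P = c • P := by
    ext i j
    exact c3 j j.2 i
  have c5 := h.mul_eq hn a5
  rw [h1, ← hP] at c5
  have c6 : U = c • (1 : Matrix (Fin C.n) (Fin C.n) K) := by
    rw [← Matrix.mul_one U, ← c5, ← Matrix.mul_assoc, c4, Matrix.smul_mul]
  rw [c6, Matrix.smul_mul, Matrix.mul_smul, Matrix.one_mul, Matrix.mul_one]

end Cert

end Cfsg.Agent.SB.Idem
end

-- part: SB/Idem/Eng
section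
/-!
# S5765, classical rows: four conjugates of the stabiliser of a frame, from a certificate (helper96)
-/

set_option autoImplicit false

namespace Cfsg.Agent.SB.Idem

open Cfsg.Agent.DS.Cl Ar
open scoped commutatorElement

variable {A : Type} [Ring A] [StarRing A] {K : Type} [Field K]

omit [StarRing A] in
theorem trace_cj {n : ℕ} (π : A →+* Matrix (Fin n) (Fin n) K) (u : Aˣ) (x : A) : (π (_root_.Cfsg.Agent.DS.Cl.cj A u x)).trace = (π x).trace := by
  rw [cj_apply, map_mul, Matrix.trace_mul_comm, ← map_mul, ← mul_assoc, Units.inv_mul, one_mul]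

omit [StarRing A] in
theorem cancel_unit {n : ℕ} (π : A →+* Matrix (Fin n) (Fin n) K) (u : Aˣ) {X Y : Matrix (Fin n) (Fin n) K}
    (h : X * π u = Y * π u) : X = Y := by
  have h1 := congrArg (· * π ((u⁻¹ : Aˣ) : A)) h
  simpa only [mul_assoc, ← map_mul, Units.mul_inv, map_one, mul_one] using h1

/-- **The engine.** -/
theorem four_of_cert [Finite A] (F : FR A) (hA : SS A) {a : Ar} {ev : ℕ → K} (h : a.Sound ev) (C : Cert) (sw : Bool)
    (H₀ : C.ok₀ a = true) (H₁ : C.ok₁ a = true) (H₂ : C.ok₂ a = true) (H₃ : C.ok₃ a sw = true) (H₄ : C.ok₄ a = true)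
    (π : A →+* Matrix (Fin C.n) (Fin C.n) K) (hπ : ∀ x, π x = 0 → π (star x) = 0 → x = 0)
    (htr : ∀ s ∈ SAut A, s ∈ Lin A ∨ (sw = true ∧ ∀ x, (π (s x)).trace = (π (star x)).trace))
    (hX : ∀ k < 3, ∃ u ∈ F.Iso, π u = a.M ev C.n (C.x k))
    (e : ℕ → A) (he : ∀ b < C.t, π (e b) = C.E K b) (hs : ∀ b < C.t, star (e b) = e b)
    (hi : ∀ b < C.t, ∀ c < C.t, e b = e c → b = c)
    {S : Subgroup (RingAut A)} (hS : S ≤ SAut A) (hD : ∀ s ∈ S, ∀ b < C.t, ∃ c < C.t, s (e b) = e c) : Four F.S S := by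
  obtain ⟨hn, t2, t4, h1, h0⟩ := Cert.of_ok₀ h H₀
  choose! u hu hu' using hX
  -- the conjugators
  have hz : ∀ k < 4, ∃ z ∈ (⁅F.Iso, F.Iso⁆ : Subgroup Aˣ), (k = 0 → z = 1) ∧
      ∀ b < C.t, π (_root_.Cfsg.Agent.DS.Cl.cj A z (e b)) = a.M ev C.n (C.ff k b) := by
    intro k hk
    rcases k with _ | k
    · exact ⟨1, one_mem _, fun _ => rfl, fun b hb => by rw [map_one, ra_one, he b hb, h0 b hb]⟩
    have hk3 : k < 3 := by omega
    have hk' : (k + 1) % 3 < 3 := Nat.mod_lt _ (by norm_num)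
    have a1 := allTo_iff.1 H₁ k hk3
    simp only [Bool.and_eq_true] at a1
    obtain ⟨⟨a1, a2⟩, a3⟩ := a1
    have b1 := h.mul_eq hn a1
    have b2 := h.mul_eq hn a2
    have b3 := h.mul_eq hn a3
    rw [← b1, ← b2, ← hu' k hk3, ← hu' _ hk', ← map_mul, ← map_mul, ← Units.val_mul, ← Units.val_mul] at b3
    have b4 : π (⁅u k, u ((k + 1) % 3)⁆ : Aˣ) = a.M ev C.n (C.Z.getD k 0) := by
      refine cancel_unit π (u ((k + 1) % 3) * u k) ?_
      rw [b3, ← map_mul, ← Units.val_mul, commutatorElement_def]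
      congr 2
      group
    refine ⟨⁅u k, u ((k + 1) % 3)⁆, Subgroup.commutator_mem_commutator (hu k hk3) (hu _ hk'), fun h => by omega,
      fun b hb => cancel_unit π ⁅u k, u ((k + 1) % 3)⁆ ?_⟩
    rw [← map_mul, cj_mul_eq, map_mul, b4, he b hb, Cert.of_ok₂ h hn H₂ hk3 hb]
  choose! z hz hz0 hz' using hz
  have hzS : ∀ k < 4, _root_.Cfsg.Agent.DS.Cl.cj A (z k) ∈ F.S := fun k hk => ⟨z k, hz k hk, rfl⟩
  obtain ⟨g, hg⟩ : ∃ g : ℕ → ℕ → A, ∀ k b, g k b = _root_.Cfsg.Agent.DS.Cl.cj A (z k) (e b) := ⟨_, fun _ _ => rfl⟩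
  have hgπ : ∀ k < 4, ∀ b < C.t, π (g k b) = a.M ev C.n (C.ff k b) := fun k hk b hb => by rw [hg, hz' k hk b hb]
  have hgs : ∀ k < 4, ∀ b < C.t, star (g k b) = g k b := fun k hk b hb => by
    rw [hg, ← F.Aut_le_SAut (F.S_le_Aut (hzS k hk)), hs b hb]
  have hg0 : ∀ b < C.t, π (g 0 b) = C.E K b := fun b hb => by rw [hgπ 0 (by norm_num) b hb, h0 b hb]
  refine ⟨_, hzS 1 (by norm_num), _, hzS 2 (by norm_num), _, hzS 3 (by norm_num), fun s s0 s1 s2 s3 => ?_⟩
  have hσ : ∀ k < 4, ∃ m ∈ perms C.t, m < 256 ∧ ∀ b < C.t, dig m b < C.t ∧ s (g k b) = g k (dig m b) := by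
    intro k hk
    have a1 : (cj A (z k))⁻¹ * s * cj A (z k) ∈ S := by
      interval_cases k
      · rwa [hz0 0 (by norm_num) rfl, map_one, inv_one, one_mul, mul_one]
      exacts [s1, s2, s3]
    choose! σ hσ hσ' using hD _ a1
    have a2 : ∀ b < C.t, s (g k b) = g k (σ b) := fun b hb => by
      rw [hg, hg, ← hσ' b hb, ra_mul, ra_mul, ra_apply_inv]
    obtain ⟨m, hm, hm', hm''⟩ := exists_perm t2 t4 σ hσ fun b hb c hc e' => by
      have a3 := a2 b hb
      rw [e', ← a2 c hc, hg, hg] at a3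
      exact hi b hb c hc ((cj A (z k)).injective (s.injective a3))
    exact ⟨m, hm, hm', fun b hb => by rw [hm'' b hb]; exact ⟨hσ b hb, a2 b hb⟩⟩
  choose! m hm hm' hm'' using hσ
  simp only [Cert.ok₃, Bool.and_eq_true, Bool.or_eq_true, Bool.not_eq_true'] at H₃
  obtain ⟨⟨⟨⟨c1, c2⟩, c3⟩, c4⟩, c5⟩ := H₃
  have l0 : (0 : ℕ) < 4 := by norm_num
  have l1 : (1 : ℕ) < 4 := by norm_num
  have l2 : (2 : ℕ) < 4 := by norm_num
  have l3 : (3 : ℕ) < 4 := by norm_num
  rcases htr s (hS s0) with hl | ⟨hsw, hl⟩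
  · obtain ⟨v, rfl⟩ := hA.sn hl
    have key : ∀ k < 4, ∀ b₀ < C.t, ∀ b < C.t, ∀ c < C.t,
        (C.E K (dig (m 0) b₀) * a.M ev C.n (C.ff 1 (dig (m 1) b)) * a.M ev C.n (C.ff k (dig (m k) c))).trace =
          (C.E K b₀ * a.M ev C.n (C.ff 1 b) * a.M ev C.n (C.ff k c)).trace := by
      intro k hk b₀ hb₀ b hb c hc
      rw [← hg0 _ (hm'' 0 l0 _ hb₀).1, ← hg0 _ hb₀, ← hgπ 1 l1 _ (hm'' 1 l1 _ hb).1, ← hgπ 1 l1 _ hb,
        ← hgπ k hk _ (hm'' k hk _ hc).1, ← hgπ k hk _ hc, ← (hm'' 0 l0 _ hb₀).2, ← (hm'' 1 l1 _ hb).2,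
        ← (hm'' k hk _ hc).2, ← map_mul, ← map_mul, ← map_mul, ← map_mul, ← map_mul, ← map_mul, trace_cj]
    have d1 := search_sound c3 hm
      (fun b₀ hb₀ b hb c hc => Cert.of_tabOK h hn c1 c1 (hm'' 0 l0 _ hb₀).1 (hm'' 1 l1 _ hb).1 (hm'' 2 l2 _ hc).1
        hb₀ hb hc (key 2 l2 _ hb₀ _ hb _ hc))
      (fun b₀ hb₀ b hb c hc => Cert.of_tabOK h hn c2 c2 (hm'' 0 l0 _ hb₀).1 (hm'' 1 l1 _ hb).1 (hm'' 3 l3 _ hc).1
        hb₀ hb hc (key 3 l3 _ hb₀ _ hb _ hc))
    simp only [Bool.or_eq_true, Nat.beq_eq, List.any_eq_true] at d1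
    have d2 : ∀ k < 4, ∀ b < C.t, dig (code (m 0) (m 1) (m 2) (m 3)) (4 * k + b) = dig (m k) b := fun k hk b hb =>
      dig_code hm' hk (hb.trans_le t4)
    rcases d1 with d1 | ⟨x, hx, d1⟩
    · rw [d1] at d2
      have d3 : ∀ k < 4, ∀ b < C.t, (v : A) * g k b = g k b * v := fun k hk b hb => by
        have d4 := (hm'' k hk b hb).2
        have d5 : ∀ k < 4, ∀ b < 4, dig 3840206052 (4 * k + b) = b := by decide
        rw [← d2 k hk b hb, d5 k hk b (hb.trans_le t4)] at d4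
        rw [← cj_mul_eq, d4]
      have d4 := Cert.of_ok₄ h hn h1 H₄ (π v) fun k hk b hb => by
        rw [← hgπ k hk b hb, ← map_mul, ← map_mul, d3 k hk b hb]
      have d5 := Cert.of_ok₄ h hn h1 H₄ (π (star (v : A))) fun k hk b hb => by
        rw [← hgπ k hk b hb, ← map_mul, ← map_mul, ← hgs k hk b hb, ← star_mul, ← star_mul, d3 k hk b hb]
      refine cj_eq_one_iff.2 (Subring.mem_center_iff.2 fun y => sub_eq_zero.1 (hπ _ ?_ ?_))
      · rw [map_sub, map_mul, map_mul, d4, sub_self]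
      · rw [star_sub, star_mul, star_mul, map_sub, map_mul, map_mul, d5, sub_self]
    · exfalso
      have d3 := List.all_eq_true.1 c4 x hx
      simp only [Bool.and_eq_true, Bool.not_eq_true'] at d3
      obtain ⟨⟨d3, d4⟩, d5⟩ := d3
      obtain ⟨d6, d7⟩ := chain_sound h hn _ _ _ d3
      obtain ⟨-, d8⟩ := chain_sound h hn _ _ _ d4
      rw [h1, Matrix.one_mul] at d7 d8
      have d9 : (x.2.1.map fun l => a.M ev C.n (C.ff l.1 l.2)).prod = π (x.2.1.map fun l => g l.1 l.2).prod := by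
        rw [map_list_prod, List.map_map]
        exact congrArg List.prod (List.map_congr_left fun l hl => (hgπ _ (d6 l hl).1 _ (d6 l hl).2).symm)
      have d10 : (x.2.1.map fun l => a.M ev C.n (C.ff l.1 (dig x.1 (4 * l.1 + l.2)))).prod =
          π (_root_.Cfsg.Agent.DS.Cl.cj A v (x.2.1.map fun l => g l.1 l.2).prod) := by
        rw [map_list_prod, map_list_prod, List.map_map, List.map_map]
        refine congrArg List.prod (List.map_congr_left fun l hl => ?_)
        obtain ⟨d11, d12⟩ := d6 l hl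
        rw [← d1, d2 _ d11 _ d12, ← hgπ _ d11 _ (hm'' _ d11 _ d12).1, ← (hm'' _ d11 _ d12).2]
        rfl
      have d11 : a.tr C.n (chainEnd x.2.1 C.one x.2.2.1) = a.tr C.n (chainEnd x.2.1 C.one x.2.2.2) := by
        refine h.sp_inj (?_ : ev (a.tr _ _) = ev (a.tr _ _))
        rw [h.ev_tr hn, h.ev_tr hn, d7, d8, d9, d10, trace_cj]
      rw [d11, Nat.beq_refl] at d5
      exact absurd d5 (by decide)
  · exfalso
    rcases c5 with c5 | ⟨⟨c5, c6⟩, c7⟩
    · rw [hsw] at c5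
      exact absurd c5 (by decide)
    have key : ∀ k < 4, ∀ b₀ < C.t, ∀ b < C.t, ∀ c < C.t,
        (C.E K (dig (m 0) b₀) * a.M ev C.n (C.ff 1 (dig (m 1) b)) * a.M ev C.n (C.ff k (dig (m k) c))).trace =
          (C.E K b₀ * a.M ev C.n (C.ff k c) * a.M ev C.n (C.ff 1 b)).trace := by
      intro k hk b₀ hb₀ b hb c hc
      rw [← hg0 _ (hm'' 0 l0 _ hb₀).1, ← hg0 _ hb₀, ← hgπ 1 l1 _ (hm'' 1 l1 _ hb).1, ← hgπ 1 l1 _ hb,
        ← hgπ k hk _ (hm'' k hk _ hc).1, ← hgπ k hk _ hc, ← (hm'' 0 l0 _ hb₀).2, ← (hm'' 1 l1 _ hb).2,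
        ← (hm'' k hk _ hc).2, ← map_mul, ← map_mul, ← map_mul, ← map_mul, hl, star_mul, star_mul, hgs 0 l0 _ hb₀,
        hgs 1 l1 _ hb, hgs k hk _ hc, ← mul_assoc, map_mul, Matrix.trace_mul_comm, map_mul, Matrix.mul_assoc]
    exact absurd (search_sound c7 hm
      (fun b₀ hb₀ b hb c hc => Cert.of_tabOK h hn c1 c5 (hm'' 0 l0 _ hb₀).1 (hm'' 1 l1 _ hb).1 (hm'' 2 l2 _ hc).1
        hb₀ hb hc (key 2 l2 _ hb₀ _ hb _ hc))
      (fun b₀ hb₀ b hb c hc => Cert.of_tabOK h hn c2 c6 (hm'' 0 l0 _ hb₀).1 (hm'' 1 l1 _ hb).1 (hm'' 3 l3 _ hc).1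
        hb₀ hb hc (key 3 l3 _ hb₀ _ hb _ hc))) (by decide)

end Cfsg.Agent.SB.Idem
end

-- part: SB/Idem/Bas
section
/-!
# S5765, classical rows: adapted bases, enumerations of frames, small fields (helper96)
-/

set_option autoImplicit false

namespace Cfsg.Agent.SB.Idem

open Cfsg.Agent.DS.Cl Module

/-- the coordinate `i` is the coordinate number `dig ps i` of the block `dig C.bl i`, of dimension `d` -/
def Cert.shOK (C : Cert) (ps : ℕ) (d : ℕ → ℕ) : Bool :=
  (allTo C.n fun i => Nat.blt (dig C.bl i) C.t && Nat.blt (dig ps i) (d (dig C.bl i))) &&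
  (allTo C.n fun i => allTo C.n fun j =>
    !(Nat.beq (dig C.bl i) (dig C.bl j) && Nat.beq (dig ps i) (dig ps j)) || Nat.beq i j) &&
  allTo C.t fun b => allTo (d b) fun r => !allTo C.n fun i => !(Nat.beq (dig C.bl i) b && Nat.beq (dig ps i) r)

theorem Cert.of_shOK {C : Cert} {ps : ℕ} {d : ℕ → ℕ} (H : C.shOK ps d = true) :
    (∀ i < C.n, dig C.bl i < C.t ∧ dig ps i < d (dig C.bl i)) ∧
    (∀ i < C.n, ∀ j < C.n, dig C.bl i = dig C.bl j → dig ps i = dig ps j → i = j) ∧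
    ∀ b < C.t, ∀ r < d b, ∃ i < C.n, dig C.bl i = b ∧ dig ps i = r := by
  simp only [Cert.shOK, Bool.and_eq_true] at H
  obtain ⟨⟨h1, h2⟩, h3⟩ := H
  refine ⟨fun i hi => ?_, fun i hi j hj e1 e2 => ?_, fun b hb r hr => ?_⟩
  · simpa using allTo_iff.1 h1 i hi
  · simpa [e1, e2] using allTo_iff.1 (allTo_iff.1 h2 i hi) j hj
  · have h4 := allTo_iff.1 (allTo_iff.1 h3 b hb) r hr
    by_contra hcon
    push Not at hcon
    rw [allTo_iff.2 fun i hi => by
      rw [Bool.not_eq_true', Bool.eq_false_iff]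
      simpa using hcon i hi] at h4
    exact absurd h4 (by decide)

section basis

variable {K V : Type} [Field K] [AddCommGroup V] [Module K V]

/-- `v 0, …, v (d - 1)` is a basis of the image of the idempotent `E` -/
structure BB (E : End K V) (d : ℕ) (v : ℕ → V) : Prop where
  mem : ∀ r < d, E (v r) = v r
  li : LinearIndependent K fun r : Fin d => v r
  rk : finrank K (LinearMap.range E) = d

theorem BB.span [FiniteDimensional K V] {E : End K V} {d : ℕ} {v : ℕ → V} (h : BB E d v) :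
    Submodule.span K (Set.range fun r : Fin d => v r) = LinearMap.range E := by
  refine Submodule.eq_of_le_of_finrank_eq (Submodule.span_le.2 ?_) ?_
  · rintro _ ⟨r, rfl⟩
    exact ⟨_, h.mem r r.2⟩
  · rw [finrank_span_eq_card h.li, Fintype.card_fin, h.rk]

theorem exists_BB [FiniteDimensional K V] {E : End K V} (hE : E * E = E) {d : ℕ}
    (hd : finrank K (LinearMap.range E) = d) : ∃ v, BB E d v := by
  let c := Module.finBasisOfFinrankEq K (LinearMap.range E) hd
  refine ⟨fun r => if h : r < d then c ⟨r, h⟩ else 0, fun r hr => ?_, ?_, hd⟩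
  · obtain ⟨x, hx⟩ := (c ⟨r, hr⟩).2
    rw [dif_pos hr, ← hx, ← End.mul_apply, hE]
  · simp only [Fin.is_lt, dif_pos]
    exact c.linearIndependent.map' (LinearMap.range E).subtype (Submodule.ker_subtype _)

theorem exists_basis [FiniteDimensional K V] {C : Cert} {ps : ℕ} {d : ℕ → ℕ} (H : C.shOK ps d = true)
    (E : ℕ → End K V) (ho : ∀ b < C.t, ∀ c < C.t, b ≠ c → E b * E c = 0) (hs : ∑ b ∈ Finset.range C.t, E b = 1)
    (v : ℕ → ℕ → V) (hv : ∀ b < C.t, BB (E b) (d b) (v b)) :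
    ∃ c : Basis (Fin C.n) K V, (∀ i, c i = v (dig C.bl i) (dig ps i)) ∧
      ∀ b < C.t, LinearMap.toMatrix c c (E b) = C.E K b := by
  obtain ⟨h1, h2, h3⟩ := Cert.of_shOK H
  obtain ⟨c, hc⟩ : ∃ c : Fin C.n → V, ∀ i, c i = v (dig C.bl i) (dig ps i) := ⟨_, fun _ => rfl⟩
  have h4 : ∀ b < C.t, ∀ i, E b (c i) = if dig C.bl i = b then c i else 0 := by
    intro b hb i
    have h5 := (hv _ (h1 i i.2).1).mem _ (h1 i i.2).2
    rw [← hc] at h5
    split_ifs with h6
    · rw [← h6, h5]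
    · rw [← h5, ← End.mul_apply, ho b hb _ (h1 i i.2).1 (Ne.symm h6), LinearMap.zero_apply]
  have hli : LinearIndependent K c := by
    rw [Fintype.linearIndependent_iff]
    intro g hg i₀
    obtain ⟨b, hb⟩ : ∃ b, b = dig C.bl i₀ := ⟨_, rfl⟩
    have hbt : b < C.t := hb ▸ (h1 i₀ i₀.2).1
    have h5 := Fintype.linearIndependent_iff.1 (hv b hbt).li
      (fun r => ∑ i : Fin C.n, if dig C.bl i = b ∧ dig ps i = r then g i else 0) (by
        have h6 := congrArg (E b) hg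
        rw [map_sum, map_zero] at h6
        rw [← h6]
        simp only [Finset.sum_smul]
        rw [Finset.sum_comm]
        refine Finset.sum_congr rfl fun i _ => ?_
        rw [map_smul, h4 b hbt]
        split_ifs with h7
        · rw [Finset.sum_eq_single (⟨dig ps i, h7 ▸ (h1 i i.2).2⟩ : Fin (d b))]
          · rw [if_pos ⟨h7, rfl⟩, hc]
            exact congrArg (fun b => g i • v b (dig ps i)) h7.symm
          · intro r _ hr
            rw [if_neg fun h8 => hr (Fin.ext h8.2.symm), zero_smul]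
          · simp only [_root_.Finset.mem_univ, _root_.not_true_eq_false, _root_.and_true, _root_.ite_smul, _root_.zero_smul, _root_.ite_eq_right_iff, _root_.smul_eq_zero, _root_.IsEmpty.forall_iff]
        · simp only [h7, _root_.false_and, ↓ _root_.reduceIte, _root_.zero_smul, _root_.Finset.sum_const_zero, _root_.smul_zero]) ⟨dig ps i₀, hb ▸ (h1 i₀ i₀.2).2⟩
    rwa [Finset.sum_eq_single i₀, if_pos ⟨hb.symm, rfl⟩] at h5
    · intro i _ hi
      exact if_neg fun h6 => hi (Fin.ext (h2 i i.2 i₀ i₀.2 (h6.1.trans hb) h6.2))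
    · simp only [_root_.Finset.mem_univ, _root_.not_true_eq_false, _root_.and_true, _root_.ite_eq_right_iff, _root_.IsEmpty.forall_iff]
  have hsp : ⊤ ≤ Submodule.span K (Set.range c) := by
    intro x _
    have h5 : x = ∑ b ∈ Finset.range C.t, E b x := by rw [← LinearMap.sum_apply, hs, End.one_apply]
    rw [h5]
    refine Submodule.sum_mem _ fun b hb => ?_
    have hb' := Finset.mem_range.1 hb
    have h6 : E b x ∈ LinearMap.range (E b) := ⟨x, rfl⟩
    rw [← (hv b hb').span] at h6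
    refine Submodule.span_mono ?_ h6
    rintro _ ⟨r, rfl⟩
    obtain ⟨i, hi, e1, e2⟩ := h3 b hb' r r.2
    exact ⟨⟨i, hi⟩, by rw [hc, e1, e2]⟩
  obtain ⟨c', hc'⟩ : ∃ c' : Basis (Fin C.n) K V, ∀ i, c' i = c i := ⟨Basis.mk hli hsp, Basis.mk_apply hli hsp⟩
  refine ⟨c', fun i => by rw [hc', hc], fun b hb => ?_⟩
  ext i j
  have h5 := h4 b hb j
  rw [← hc' j] at h5
  rw [LinearMap.toMatrix_apply, h5, Cert.E, Matrix.diagonal_apply, Cert.inB]
  by_cases hij : i = j
  · subst hij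
    by_cases h6 : dig C.bl i = b <;> simp [h6]
  · by_cases h6 : dig C.bl j = b <;> simp only [h6, hij, ↓ _root_.reduceIte, _root_.Module.Basis.repr_self, _root_.ne_eq, _root_.not_false_eq_true, _root_.Finsupp.single_eq_of_ne, _root_.map_zero, _root_.Finsupp.coe_zero, _root_.Pi.zero_apply]

theorem quad_ext {n : ℕ} (c : Basis (Fin n) K V) {Q Q' : QuadraticForm K V} (h1 : ∀ i, Q (c i) = Q' (c i))
    (h2 : ∀ i j, i ≠ j → QuadraticMap.polar Q (c i) (c j) = QuadraticMap.polar Q' (c i) (c j)) : Q = Q' := by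
  rw [← Q.toQuadraticMap_toBilin c, ← Q'.toQuadraticMap_toBilin c]
  (with_reducible congr 1)
  refine LinearMap.ext_basis c c fun i j => ?_
  rw [QuadraticMap.toBilin_apply, QuadraticMap.toBilin_apply, h1]
  split_ifs with h3 h4
  · rfl
  · exact h2 i j h3
  · rfl

end basis

section frames

variable {A : Type}

/-- an enumeration of `D` -/
structure En (D : Finset A) (t : ℕ) (e : ℕ → A) : Prop where
  mem : ∀ b < t, e b ∈ D
  surj : ∀ x ∈ D, ∃ b < t, x = e b
  inj : ∀ b < t, ∀ c < t, e b = e c → b = c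

theorem en_of_card [Zero A] {D : Finset A} {t : ℕ} (h : D.card = t) : ∃ e, En D t e := by
  subst h
  refine ⟨fun b => if h : b < D.card then D.equivFin.symm ⟨b, h⟩ else 0, fun b hb => ?_, fun x hx => ?_,
    fun b hb c hc e => ?_⟩
  · rw [dif_pos hb]
    exact (D.equivFin.symm ⟨b, hb⟩).2
  · exact ⟨D.equivFin ⟨x, hx⟩, (D.equivFin ⟨x, hx⟩).2, by simp⟩
  · simp only [dif_pos hb, dif_pos hc] at e
    exact congrArg Fin.val (D.equivFin.symm.injective (Subtype.ext e))

theorem en_of_two {r : A → ℕ} {D : Finset A} {a b : ℕ} (h : Cl.Two r D a b) :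
    ∃ e, En D 2 e ∧ ∀ c < 2, r (e c) = cond (Nat.beq c 0) a b := by
  classical
  obtain ⟨h1, e, he, e', he', hne, h2, h3⟩ := h
  have h4 : D = {e, e'} := (Finset.eq_of_subset_of_card_le (by
    intro x hx
    rcases Finset.mem_insert.1 hx with rfl | h5
    · exact he
    · rwa [Finset.mem_singleton.1 h5]) (by rw [h1, Finset.card_pair hne])).symm
  refine ⟨fun c => cond (Nat.beq c 0) e e', ⟨fun c hc => ?_, fun x hx => ?_, fun c hc c' hc' h5 => ?_⟩, fun c hc => ?_⟩
  · interval_cases c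
    exacts [he, he']
  · rw [h4, Finset.mem_insert, Finset.mem_singleton] at hx
    rcases hx with rfl | rfl
    exacts [⟨0, by norm_num, rfl⟩, ⟨1, by norm_num, rfl⟩]
  · interval_cases c <;> interval_cases c'
    exacts [rfl, absurd h5 hne, absurd h5.symm hne, rfl]
  · interval_cases c
    exacts [h2, h3]

variable [Ring A] [StarRing A] {D : Finset A} {t : ℕ} {e : ℕ → A}

theorem En.sum (h : En D t e) (hD : Fr D) : ∑ b ∈ Finset.range t, e b = 1 := by
  rw [← hD.sum]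
  exact Finset.sum_bij (fun b _ => e b) (fun b hb => h.mem b (Finset.mem_range.1 hb))
    (fun b hb c hc => h.inj b (Finset.mem_range.1 hb) c (Finset.mem_range.1 hc))
    (fun x hx => by
      obtain ⟨b, hb, rfl⟩ := h.surj x hx
      exact ⟨b, Finset.mem_range.2 hb, rfl⟩) fun _ _ => rfl

theorem En.orth (h : En D t e) (hD : Fr D) {b c : ℕ} (hb : b < t) (hc : c < t) (hbc : b ≠ c) : e b * e c = 0 :=
  hD.orth _ (h.mem b hb) _ (h.mem c hc) fun h1 => hbc (h.inj b hb c hc h1)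

omit [StarRing A] in
theorem En.inv (h : En D t e) {S : Subgroup (RingAut A)} (hS : _root_.Cfsg.Agent.DS.Cl.Inv S D) : ∀ s ∈ S, ∀ b < t, ∃ c < t, s (e b) = e c :=
  fun s hs b hb => h.surj _ (hS s hs _ (h.mem b hb))

theorem htr_of [Finite A] (hA : SS A) {K : Type} [Field K] {n : ℕ} (π : A →+* Matrix (Fin n) (Fin n) K)
    (κ : RingAut A) (w : A) (h1 : ∀ s : RingAut A, s w = w → s ∈ Lin A) (h2 : ∀ s ∈ SAut A, s w = w ∨ s w = star w)
    (h3 : κ (star w) = w) (h4 : ∀ x, (π (κ x)).trace = (π (star x)).trace) :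
    ∀ s ∈ SAut A, s ∈ Lin A ∨ (true = true ∧ ∀ x, (π (s x)).trace = (π (star x)).trace) := by
  intro s hs
  rcases h2 s hs with h | h
  · exact Or.inl (h1 s h)
  · refine Or.inr ⟨rfl, fun x => ?_⟩
    obtain ⟨v, hv⟩ := hA.sn (h1 (κ * s) (by rw [ra_mul, h, h3]))
    rw [← trace_cj π v (star x), ← hv, ra_mul, h4, ← hs, star_star]

end frames

section fields

variable {K : Type} [Field K] [Finite K]

theorem prime_field {p : ℕ} (hp : p.Prime) (hK : Nat.card K = p) : CharP K p ∧ ∀ c : K, ∃ k : ℕ, c = k := by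
  have := Fintype.ofFinite K
  have := Fact.mk hp
  rw [Nat.card_eq_fintype_card] at hK
  have := charP_of_card_eq_prime hK
  refine ⟨this, fun c => ?_⟩
  obtain ⟨z, rfl⟩ := (ZMod.ringEquiv K hK).surjective c
  exact ⟨z.val, by rw [← map_natCast (ZMod.ringEquiv K hK), ZMod.natCast_zmod_val]⟩

theorem card_le_three (hK : Nat.card K ≤ 3) : Nat.card K = 2 ∨ Nat.card K = 3 := by
  have : 1 < Nat.card K := Finite.one_lt_card
  omega

theorem quad_field_aux {p c₀ c₁ : ℕ} [Fact p.Prime] [CharP K p] (h4 : p ≤ 4) (hK : Nat.card K = p ^ 2) {ω : K}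
    (hω : ω ^ 2 = c₁ * ω + c₀) (hirr : ∀ z : ZMod p, z ^ 2 ≠ c₁ * z + c₀) :
    (arQ p c₀ c₁).Sound (evQ ω) ∧ ∀ c : K, ∃ x y : ℕ, c = x + y * ω := by
  have hp : p.Prime := Fact.out
  let φ := ZMod.castHom (dvd_refl p) K
  have h1 : ∀ x y x' y' : ZMod p, φ x + φ y * ω = φ x' + φ y' * ω → y = y' := by
    intro x y x' y' h
    by_contra hne
    have h2 : φ (y - y') ≠ 0 := fun h2 => hne (sub_eq_zero.1 (φ.injective (h2.trans (map_zero φ).symm)))
    have h3 : ω = φ ((x' - x) / (y - y')) := by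
      rw [map_div₀, eq_div_iff h2, map_sub, map_sub]
      linear_combination h
    refine hirr ((x' - x) / (y - y')) (φ.injective ?_)
    rw [map_pow, map_add, map_mul, map_natCast, map_natCast, ← h3, hω]
  refine ⟨arQ_sound hp.pos h4 hω fun x y x' y' h => ?_, fun c => ?_⟩
  · have h2 := congrArg φ (h1 x y x' y' (by simpa only [map_natCast] using h))
    simpa only [map_natCast] using h2
  · have h2 : Function.Injective fun z : ZMod p × ZMod p => φ z.1 + φ z.2 * ω := by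
      rintro ⟨x, y⟩ ⟨x', y'⟩ h
      obtain rfl := h1 x y x' y' h
      exact Prod.ext (φ.injective (add_right_cancel h)) rfl
    obtain ⟨⟨x, y⟩, rfl⟩ := (h2.bijective_of_nat_card_le (by rw [hK, Nat.card_prod, Nat.card_zmod, sq])).2 c
    exact ⟨x.val, y.val, by rw [← map_natCast φ, ← map_natCast φ, ZMod.natCast_zmod_val, ZMod.natCast_zmod_val]⟩

theorem field_four (hK : Nat.card K = 4) : CharP K 2 ∧ ∃ ω : K, ω ^ 2 = (1 : ℕ) * ω + (1 : ℕ) ∧
    (arQ 2 1 1).Sound (evQ ω) ∧ ∀ c : K, ∃ x y : ℕ, c = x + y * ω := by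
  classical
  have := Fintype.ofFinite K
  have hK' : Fintype.card K = 2 ^ 2 := by rw [← Nat.card_eq_fintype_card, hK]; rfl
  have := charP_of_card_eq_prime_pow hK'
  obtain ⟨ω, -, hω⟩ : ∃ ω ∈ (Finset.univ : Finset K), ω ∉ ({0, 1} : Finset K) :=
    Finset.exists_mem_notMem_of_card_lt_card (Finset.card_le_two.trans_lt (by rw [Finset.card_univ, hK']; norm_num))
  rw [Finset.mem_insert, Finset.mem_singleton, not_or] at hω
  have h1 := FiniteField.pow_card ω
  rw [hK'] at h1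
  have h2 : (2 : K) = 0 := CharP.cast_eq_zero K 2
  have h3 : ω ^ 2 = (1 : ℕ) * ω + (1 : ℕ) := by
    have h4 : ω * ((ω - 1) * (ω ^ 2 + ω + 1)) = 0 := by linear_combination h1
    have h5 := (mul_eq_zero.1 ((mul_eq_zero.1 h4).resolve_left hω.1)).resolve_left (sub_ne_zero.2 hω.2)
    push_cast
    linear_combination h5 - (ω + 1) * h2
  exact ⟨this, ω, h3, quad_field_aux (by norm_num) hK h3 (by decide)⟩

theorem field_nine (hK : Nat.card K = 9) : CharP K 3 ∧ ∃ ω : K, ω ^ 2 = (0 : ℕ) * ω + (2 : ℕ) ∧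
    (arQ 3 2 0).Sound (evQ ω) ∧ ∀ c : K, ∃ x y : ℕ, c = x + y * ω := by
  have := Fintype.ofFinite K
  have hK' : Fintype.card K = 3 ^ 2 := by rw [← Nat.card_eq_fintype_card, hK]; rfl
  have := charP_of_card_eq_prime_pow hK'
  obtain ⟨ω, hω⟩ := (FiniteField.isSquare_neg_one_iff (F := K)).2 (by rw [hK']; norm_num)
  have h2 : (3 : K) = 0 := CharP.cast_eq_zero K 3
  have h3 : ω ^ 2 = (0 : ℕ) * ω + (2 : ℕ) := by
    push_cast
    linear_combination -hω - h2
  exact ⟨this, ω, h3, quad_field_aux (by norm_num) hK h3 (by decide)⟩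

end fields

end Cfsg.Agent.SB.Idem
end

-- part: SB/Idem/Form
section
/-!
# S5765, classical rows: matrix models of the rings of forms (helper96)
-/

set_option autoImplicit false

namespace Cfsg.Agent.SB.Idem

open Cfsg.Agent.DS.Cl Cfsg.Agent.DS.Cl.Fwd Module Matrix Ar

/-- `Xᵀ * B * X.map τ = Y` -/
def isoOK (a : Ar) (n B X : ℕ) (L : List ℕ) : Bool :=
  a.entOK n (L.getD 0 0) (fun i j => a.ent n X j i) && a.entOK n (L.getD 1 0) (fun i j => a.cj (a.ent n X i j)) &&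
    a.mulOK n B (L.getD 1 0) (L.getD 2 0) && a.mulOK n (L.getD 0 0) (L.getD 2 0) (L.getD 3 0)

/-- `Y - B` is alternating -/
def altOK (a : Ar) (n B Y : ℕ) : Bool := allTo n fun i => Nat.beq (a.ent n Y i i) (a.ent n B i i) && allTo n fun j =>
  Nat.beq (a.sp 2 (fun r => cond (Nat.beq r 0) (a.ent n Y i j) (a.ent n Y j i)) fun _ => 1)
    (a.sp 2 (fun r => cond (Nat.beq r 0) (a.ent n B i j) (a.ent n B j i)) fun _ => 1)

/-- `B` is the block matrix with the blocks `g b` -/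
def Cert.gramOK (a : Ar) (C : Cert) (ps B : ℕ) (g : ℕ → ℕ → ℕ → ℕ) : Bool :=
  a.entOK C.n B fun i j => cond (Nat.beq (dig C.bl i) (dig C.bl j)) (g (dig C.bl i) (dig ps i) (dig ps j)) 0

section arith

variable {K : Type} [Field K] {a : Ar} {ev : ℕ → K}

theorem of_isoOK (h : a.Sound ev) {n B X : ℕ} {L : List ℕ} (hn : n ≤ 1000) {τ : K → K}
    (hτ : ∀ x, ev (a.cj x) = τ (ev x)) (H : isoOK a n B X L = true) :
    (a.M ev n X)ᵀ * a.M ev n B * (a.M ev n X).map τ = a.M ev n (L.getD 3 0) := by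
  simp only [isoOK, Bool.and_eq_true] at H
  obtain ⟨⟨⟨h1, h2⟩, h3⟩, h4⟩ := H
  have e1 : (a.M ev n X)ᵀ = a.M ev n (L.getD 0 0) := Matrix.ext fun i j => (Sound.ent_eq h1 i j).symm
  have e2 : (a.M ev n X).map τ = a.M ev n (L.getD 1 0) := Matrix.ext fun i j => by
    rw [Sound.ent_eq h2, hτ]
    rfl
  rw [e1, e2, Matrix.mul_assoc, h.mul_eq hn h3, h.mul_eq hn h4]

theorem of_altOK (h : a.Sound ev) {n B Y : ℕ} (H : altOK a n B Y = true) (i j : Fin n) :
    a.M ev n Y i i = a.M ev n B i i ∧ a.M ev n Y i j + a.M ev n Y j i = a.M ev n B i j + a.M ev n B j i := by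
  have h1 := allTo_iff.1 H i i.2
  rw [Bool.and_eq_true] at h1
  refine ⟨congrArg ev (Nat.eq_of_beq_eq_true h1.1), ?_⟩
  have h2 := congrArg ev (Nat.eq_of_beq_eq_true (allTo_iff.1 h1.2 j j.2))
  rw [h.ev_sp (by norm_num) (fun r => by cases Nat.beq r 0 <;> exact h.ent_lt _ _ _ _) fun _ => h.one_lt,
    h.ev_sp (by norm_num) (fun r => by cases Nat.beq r 0 <;> exact h.ent_lt _ _ _ _) fun _ => h.one_lt] at h2
  simp only [Fin.sum_univ_two, h.ev1, mul_one] at h2
  exact h2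

end arith

variable {K V : Type} [Field K] [AddCommGroup V] [Module K V] (h : HF K V) {n : ℕ} (c : Basis (Fin n) K V)

/-- the matrix of an element -/
noncomputable def piB : h.EB →+* Matrix (Fin n) (Fin n) K where
  toFun a := LinearMap.toMatrix c c (h.ap a)
  map_one' := LinearMap.toMatrix_one c
  map_mul' a b := LinearMap.toMatrix_mul c (h.ap a) (h.ap b)
  map_zero' := map_zero (LinearMap.toMatrix c c)
  map_add' a b := map_add (LinearMap.toMatrix c c) (h.ap a) (h.ap b)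

theorem piB_apply (a : h.EB) : piB h c a = LinearMap.toMatrix c c (h.ap a) := rfl

theorem piB_bij : Function.Bijective (piB h c) := (LinearMap.toMatrix c c).bijective

theorem piB_smul (x : K) : piB h c (h.eb (x • 1)) = Matrix.scalar (Fin n) x := by
  rw [piB_apply, h.ap_eb, map_smul, LinearMap.toMatrix_one, Matrix.scalar_apply, Matrix.smul_one_eq_diagonal]

theorem ap_basis (a : h.EB) (j : Fin n) : h.ap a (c j) = ∑ i, piB h c a i j • c i := by
  conv_lhs => rw [← c.sum_repr (h.ap a (c j))]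
  simp only [piB_apply, LinearMap.toMatrix_apply]

theorem b_sum_left (x : Fin n → K) (y : V) : h.b (∑ i, x i • c i) y = ∑ i, x i * h.b (c i) y := by
  change h.lin y _ = _
  rw [map_sum]
  exact Finset.sum_congr rfl fun i _ => h.smul_left _ _ _

theorem b_sum_right (x : Fin n → K) (y : V) : h.b y (∑ i, x i • c i) = ∑ i, h.τ (x i) * h.b y (c i) := by
  rw [h.swap, b_sum_left, map_sum, Finset.mul_sum]
  refine Finset.sum_congr rfl fun i _ => ?_
  rw [map_mul, h.swap (c i) y]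
  ring

/-- the Gram matrix -/
noncomputable def gram : Matrix (Fin n) (Fin n) K := Matrix.of fun i j => h.b (c i) (c j)

theorem b_ap_ap (a : h.EB) (j k : Fin n) :
    h.b (h.ap a (c j)) (h.ap a (c k)) = ((piB h c a)ᵀ * gram h c * (piB h c a).map h.τ) j k := by
  rw [ap_basis h c a j, ap_basis h c a k, b_sum_right, Matrix.mul_apply]
  refine Finset.sum_congr rfl fun l _ => ?_
  rw [b_sum_left, Matrix.mul_apply, mul_comm]
  rfl

include c in
theorem cen_scalar {x : h.EB} (hx : x ∈ Subring.center h.EB) : ∃ y : K, x = h.eb (y • 1) := by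
  obtain ⟨y, hy⟩ : piB h c x ∈ Set.range (Matrix.scalar (Fin n)) := by
    refine Matrix.mem_range_scalar_iff_commute_single'.2 fun i j => ?_
    obtain ⟨z, hz⟩ := (piB_bij h c).2 (Matrix.single i j 1)
    rw [← hz]
    exact Commute.map (Subring.mem_center_iff.1 hx z) (piB h c)
  exact ⟨y, (piB_bij h c).1 (by rw [piB_smul, hy])⟩

theorem eb_natCast (k : ℕ) : h.eb ((k : K) • 1) = (k : h.EB) := by
  rw [Nat.cast_smul_eq_nsmul]
  exact nsmul_one (A := h.EB) k

include c in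
theorem lin_of_prime (hK : ∀ y : K, ∃ k : ℕ, y = k) (s : RingAut h.EB) : s ∈ Lin h.EB := by
  intro x hx
  obtain ⟨y, rfl⟩ := cen_scalar h c hx
  obtain ⟨k, rfl⟩ := hK y
  rw [eb_natCast, map_natCast]

theorem li_of_mono {d : ℕ} {v : ℕ → V} (σ : ℕ → ℕ) (h1 : ∀ r < d, h.b (v r) (v (σ r)) ≠ 0)
    (h2 : ∀ r < d, ∀ s < d, s ≠ r → h.b (v s) (v (σ r)) = 0) : LinearIndependent K fun r : Fin d => v r := by
  rw [Fintype.linearIndependent_iff]
  intro g hg r
  have h3 := congrArg (h.lin (v (σ r))) hg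
  rw [map_sum, map_zero, Finset.sum_eq_single r] at h3
  · exact (mul_eq_zero.1 ((h.smul_left _ _ _).symm.trans h3)).resolve_right (h1 r r.2)
  · intro s _ hs
    exact (h.smul_left _ _ _).trans (by rw [h2 r r.2 s s.2 fun e => hs (Fin.ext e), mul_zero])
  · simp only [_root_.Finset.mem_univ, _root_.not_true_eq_false, _root_.map_smul, _root_.smul_eq_mul, _root_.mul_eq_zero, _root_.IsEmpty.forall_iff]

variable [Finite K] [Finite V]

theorem mul_star_of_b {a : h.EB} (H : ∀ x y, h.b (h.ap a x) (h.ap a y) = h.b x y) : a * star a = 1 :=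
  mul_eq_one_comm.1 (h.ap_ext fun y => h.ext_right fun x => by rw [h.ap_mul, h.b_star, H, h.ap_one])

theorem lift_max {F : FR h.EB} (hF : F.L = Lmax h.EB) {X : Matrix (Fin n) (Fin n) K}
    (hX : Xᵀ * gram h c * X.map h.τ = gram h c) : ∃ u ∈ F.Iso, piB h c u = X := by
  obtain ⟨a, rfl⟩ := (piB_bij h c).2 X
  have h1 : ∀ j y, h.b (h.ap a y) (h.ap a (c j)) = h.b y (c j) := fun j y =>
    LinearMap.congr_fun (c.ext (f₁ := (h.lin (h.ap a (c j))).comp (h.ap a)) (f₂ := h.lin (c j)) fun i =>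
      (b_ap_ap h c a i j).trans (by rw [hX]; rfl)) y
  have h2 : ∀ x y, h.b (h.ap a x) (h.ap a y) = h.b x y := fun x y =>
    LinearMap.congr_fun (c.ext (f₁ := (h.lin (h.ap a y)).comp (h.ap a)) (f₂ := h.lin y) fun i => by
      change h.b (h.ap a (c i)) (h.ap a y) = h.b (c i) y
      rw [h.swap, h1, ← h.swap]) x
  exact ⟨mkU a (mul_star_of_b h h2), mem_Iso_max hF (mul_star_of_b h h2), rfl⟩

theorem mem_Lmin_of (hτ : ∀ y, h.τ y = y) (hb : ∀ u v, h.b u v = h.b v u) {x : h.EB}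
    (H : ∀ v, h.b v (h.ap x v) = 0) : x ∈ Lmin h.EB := by
  have : Module.Finite K V := Module.Finite.of_finite
  let β₀ : V →ₗ[K] V →ₗ[K] K := LinearMap.mk₂ K h.b h.add_left h.smul_left h.add_right fun y u v => by
    rw [h.smul_right, hτ, smul_eq_mul]
  obtain ⟨β, hβ⟩ := exists_half (β₀.compl₂ (h.ap x)) H
  obtain ⟨a, ha⟩ := h.exists_op hτ β
  refine ⟨a, h.ap_ext fun v => h.ext_right fun u => ?_⟩
  rw [h.ap_sub, h.sub_right, h.b_star, ha, hb (h.ap a u), ha, hβ]
  rfl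

theorem lift_O {F : FR h.EB} {Q : QuadraticForm K V} (hO : Cl.IsO h F Q) {κ : K} {U X Y : Matrix (Fin n) (Fin n) K}
    (h1 : ∀ i, Q (c i) = κ * U i i) (h2 : ∀ i j, i ≠ j → h.b (c i) (c j) = κ * (U i j + U j i))
    (hX : Xᵀ * U * X = Y) (h3 : ∀ i j, Y i i = U i i ∧ Y i j + Y j i = U i j + U j i) :
    ∃ u ∈ F.Iso, piB h c u = X := by
  obtain ⟨hτ, hb, hL, hl⟩ := hO
  obtain ⟨a, rfl⟩ := (piB_bij h c).2 X
  let β : LinearMap.BilinForm K V := Matrix.toBilin c (κ • U)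
  have hβ : ∀ i j, β (c i) (c j) = κ * U i j := fun i j => by
    rw [← LinearMap.BilinForm.toMatrix_apply c, LinearMap.BilinForm.toMatrix_toBilin]
    rfl
  have hβ' : ∀ i j, β (h.ap a (c i)) (h.ap a (c j)) = κ * Y i j := fun i j => by
    have h4 := LinearMap.BilinForm.toMatrix_comp c c β (h.ap a) (h.ap a)
    rw [LinearMap.BilinForm.toMatrix_toBilin, ← piB_apply, Matrix.mul_smul, Matrix.smul_mul, hX] at h4
    have h5 := congrFun (congrFun h4 i) j
    rwa [LinearMap.BilinForm.toMatrix_apply] at h5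
  have hQ : Q = LinearMap.BilinMap.toQuadraticMap β := quad_ext c
    (fun i => by rw [LinearMap.BilinMap.toQuadraticMap_apply, hβ, h1]) fun i j hij => by
      rw [LinearMap.BilinMap.polar_toQuadraticMap, hβ, hβ, ← hb, h2 i j hij, mul_add]
  have hQ' : Q.comp (h.ap a) = Q := quad_ext c
    (fun i => by rw [QuadraticMap.comp_apply, h1, hQ, LinearMap.BilinMap.toQuadraticMap_apply, hβ', (h3 i i).1])
    fun i j hij => by
      have h4 : QuadraticMap.polar (Q.comp (h.ap a)) (c i) (c j) =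
          QuadraticMap.polar Q (h.ap a (c i)) (h.ap a (c j)) := by
        simp only [QuadraticMap.polar, QuadraticMap.comp_apply, map_add]
      rw [h4, ← hb (c i), h2 i j hij, hQ, LinearMap.BilinMap.polar_toQuadraticMap, hβ', hβ', ← mul_add, (h3 i j).2]
  have h4 : ∀ v, Q (h.ap a v) = Q v := fun v => by rw [← QuadraticMap.comp_apply, hQ']
  have h5 := mul_star_of_b h (a := a) fun x y => by
    rw [hb, hb]
    simp only [QuadraticMap.polar, ← map_add, h4]
  refine ⟨mkU a h5, ⟨h5, ?_⟩, rfl⟩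
  rw [hL]
  refine mem_Lmin_of h hτ (fun u v => by rw [hb, hb, QuadraticMap.polar_comm]) fun v => ?_
  rw [mkU_val, h.ap_sub, h.sub_right, h.ap_mul, h.ap_mul, ← h.star_b, hl, hl, ← h4, ← h.ap_mul, h5, h.ap_one, sub_self]

/-- different blocks are orthogonal -/
theorem b_cross {e e' : h.EB} (hs : star e = e) (ho : e * e' = 0) {x y : V} (hx : h.ap e x = x) (hy : h.ap e' y = y) :
    h.b x y = 0 := by
  rw [← hx, ← hy, ← h.b_star, hs, ← h.ap_mul, ho]
  exact h.zero_right x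

/-- the engine for forms -/
theorem four_form {F : FR h.EB} (hA : SS h.EB) {a : Ar} {ev : ℕ → K} (ha : a.Sound ev) (C : Cert) (sw : Bool)
    (H₀ : C.ok₀ a = true) (H₁ : C.ok₁ a = true) (H₂ : C.ok₂ a = true) (H₃ : C.ok₃ a sw = true) (H₄ : C.ok₄ a = true)
    {ps B : ℕ} {d : ℕ → ℕ} {g : ℕ → ℕ → ℕ → ℕ} (H₅ : C.shOK ps d = true) (H₆ : C.gramOK a ps B g = true)
    {D : Finset h.EB} (hD : Fr D) {e : ℕ → h.EB} (he : En D C.t e) {v : ℕ → ℕ → V}
    (hv : ∀ b < C.t, BB (h.ap (e b)) (d b) (v b))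
    (H : ∀ c : Basis (Fin C.n) K V, (∀ i j,
      (h.b (c i) (c j) = 0 ∧ a.M ev C.n B i j = 0 ∧ a.M ev C.n B j i = 0 ∧ i ≠ j) ∨
      ∃ b < C.t, ∃ r < d b, ∃ s < d b, c i = v b r ∧ c j = v b s ∧ (i = j ↔ r = s) ∧
        a.M ev C.n B i j = ev (g b r s) ∧ a.M ev C.n B j i = ev (g b s r)) →
      (∀ s ∈ SAut h.EB, s ∈ Lin h.EB ∨ (sw = true ∧ ∀ x, (piB h c (s x)).trace = (piB h c (star x)).trace)) ∧
      ∀ k < 3, ∃ u ∈ F.Iso, piB h c u = a.M ev C.n (C.x k))
    {S : Subgroup (RingAut h.EB)} (hS : S ≤ SAut h.EB) (hinv : _root_.Cfsg.Agent.DS.Cl.Inv S D) : Four F.S S := by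
  have : Module.Finite K V := Module.Finite.of_finite
  obtain ⟨c, hc, hc'⟩ := exists_basis H₅ (fun b => h.ap (e b)) (fun b hb b' hb' hne => he.orth hD hb hb' hne)
    (he.sum hD) v hv
  obtain ⟨h1, h2, -⟩ := Cert.of_shOK H₅
  obtain ⟨h3, h4⟩ := H c (fun i j => by
    by_cases hij : dig C.bl i = dig C.bl j
    · refine Or.inr ⟨_, (h1 i i.2).1, _, (h1 i i.2).2, dig ps j, hij ▸ (h1 j j.2).2, hc i, hij ▸ hc j,
        ⟨fun e => by rw [e], fun e => Fin.ext (h2 i i.2 j j.2 hij e)⟩, ?_, ?_⟩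
      · rw [Sound.ent_eq H₆, hij, Nat.beq_refl, cond_true]
      · rw [Sound.ent_eq H₆, hij, Nat.beq_refl, cond_true]
    · refine Or.inl ⟨b_cross h (hD.symm _ (he.mem _ (h1 i i.2).1)) (he.orth hD (h1 i i.2).1 (h1 j j.2).1 hij) ?_ ?_,
        ?_, ?_, fun e => hij (by rw [e])⟩
      · rw [hc]
        exact (hv _ (h1 i i.2).1).mem _ (h1 i i.2).2
      · rw [hc]
        exact (hv _ (h1 j j.2).1).mem _ (h1 j j.2).2
      · rw [Sound.ent_eq H₆, Bool.eq_false_iff.2 fun e => hij (Nat.eq_of_beq_eq_true e), cond_false, ha.ev0]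
      · rw [Sound.ent_eq H₆, Bool.eq_false_iff.2 fun e => hij (Nat.eq_of_beq_eq_true e).symm, cond_false, ha.ev0])
  exact four_of_cert F hA ha C sw H₀ H₁ H₂ H₃ H₄ (piB h c) (fun x hx _ => (piB_bij h c).1 (hx.trans (map_zero _).symm))
    h3 h4 e hc' (fun b hb => hD.symm _ (he.mem b hb)) he.inj hS (he.inv hinv)

end Cfsg.Agent.SB.Idem
end

private theorem dce_79c8bd2855ae : _root_.True := by
  try have : _root_.True := by simp only [_root_.Cfsg.Agent.SB.Idem.isoOK.eq_1]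
  try have : _root_.True := by simp only [_root_.Cfsg.Agent.SB.Idem.Cert.ok₄.eq_1]
  try have : _root_.True := by simp only [_root_.Cfsg.Agent.SB.Idem.Cert.shOK.eq_1]
  try have : _root_.True := by simp only [_root_.Cfsg.Agent.SB.Idem.Ar.trm.eq_1]
  try have : _root_.True := by simp only [_root_.Cfsg.Agent.SB.Idem.Cert.ok₃.eq_1]
  try have : _root_.True := by simp only [_root_.Cfsg.Agent.SB.Idem.allTo.eq_1]
  try have : _root_.True := by simp only [_root_.Cfsg.Agent.SB.Idem.evQ.eq_1]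
  try have : _root_.True := by simp only [_root_.Cfsg.Agent.SB.Idem.Cert.inB.eq_1]
  try have : _root_.True := by simp only [_root_.Cfsg.Agent.SB.Idem.sumTo.eq_1]
  try have : _root_.True := by simp only [_root_.Cfsg.Agent.SB.Idem.Ar.tr.eq_1]
  try have : _root_.True := by simp only [_root_.Cfsg.Agent.SB.Idem.Cert.ok₀.eq_1]
  try have : _root_.True := by simp only [_root_.Cfsg.Agent.SB.Idem.Cert.E.eq_1]
  try have : _root_.True := by simp only [_root_.Cfsg.Agent.SB.Idem.chainEnd.eq_1]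
  try have : _root_.True := by simp only [_root_.Cfsg.Agent.SB.Idem.Ar.dot.eq_1]
  exact _root_.True.intro
end

-- part: SB/Tor/U3d
section
prune_inst 0x155025445c2202000000850020200020700000020000040004800a040308a40a04c0004000802014122201010004004002100080400000000a000400000401000080000400400008820008000000000000000000000000000000000000000000000000000
set_option linter.all false
open scoped Cfsg.Agent.FastGrp

-- part: SB/Tor/Hes
section
/-!
# S5765, the Hessian group: matrices (helper90)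

`Hes M` : the shape of the matrix of a semilinear map normalising `3^{1+2}`.
-/

set_option autoImplicit false

namespace Cfsg.Agent.SB.Tor

open Matrix

variable {K : Type} [Field K]

/-- all entries have the same non-zero cube -/
def HesA (M : Matrix (Fin 3) (Fin 3) K) : Prop := ∃ κ : K, κ ≠ 0 ∧ ∀ m n, M m n ^ 3 = κ

/-- monomial, the non-zero entries have the same cube -/
def HesB (M : Matrix (Fin 3) (Fin 3) K) : Prop :=
  ∃ (κ : K) (π : Fin 3 → Fin 3), κ ≠ 0 ∧ Function.Injective π ∧ (∀ n, M (π n) n ^ 3 = κ) ∧ ∀ m n, m ≠ π n → M m n = 0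

theorem hes_of {M : Matrix (Fin 3) (Fin 3) K} (h0 : ∀ n, ∃ m, M m n ≠ 0) {k i : Fin 3}
    (h1 : ∀ m n, M (m + k) (n + 1) ^ 3 = M m n ^ 3) (h2 : ∀ m n, M (m + i) n ^ 3 = M m n ^ 3)
    (h3 : i = 0 → ∀ m n n', M m n ≠ 0 → M m n' ≠ 0 → n = n') : HesA M ∨ HesB M := by
  by_cases hi : i = 0
  · right
    choose π hπ using h0
    have hinj : Function.Injective π := fun n n' e => h3 hi _ n n' (hπ n) (e ▸ hπ n')
    have h4 : ∀ m n, M m n ≠ 0 → m = π n := fun m n hm => by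
      obtain ⟨n', rfl⟩ := (Finite.surjective_of_injective hinj) m
      rw [h3 hi _ n n' hm (hπ n')]
    have h5 : ∀ n, M (π (n + 1)) (n + 1) ^ 3 = M (π n) n ^ 3 := fun n => by
      rw [← h1 (π n) n, ← h4 (π n + k) (n + 1) fun e => pow_ne_zero 3 (hπ n) (by rw [← h1, e]; ring)]
    refine ⟨M (π 0) 0 ^ 3, π, pow_ne_zero 3 (hπ 0), hinj, fun n => ?_, fun m n hm => ?_⟩
    · fin_cases n
      exacts [rfl, h5 0, (h5 1).trans (h5 0)]
    · by_contra e
      exact hm (h4 m n e)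
  · left
    have h4 : ∀ m n, M m n ^ 3 = M 0 n ^ 3 := fun m n => by
      rcases (by decide : ∀ i m : Fin 3, i ≠ 0 → m = 0 ∨ m = 0 + i ∨ m = 0 + i + i) i m hi with e | e | e <;> rw [e]
      · exact h2 0 n
      · exact (h2 _ n).trans (h2 0 n)
    have h5 : ∀ n, M 0 (n + 1) ^ 3 = M 0 n ^ 3 := fun n => by rw [← h1 0 n, h4 (0 + k)]
    obtain ⟨m, hm⟩ := h0 0
    refine ⟨M 0 0 ^ 3, by rw [← h4 m]; exact pow_ne_zero 3 hm, fun m n => ?_⟩
    rw [h4]
    fin_cases n
    exacts [rfl, h5 0, (h5 1).trans (h5 0)]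

theorem HesA.ne {M : Matrix (Fin 3) (Fin 3) K} (h : HesA M) (m n : Fin 3) : M m n ≠ 0 := by
  obtain ⟨κ, h0, h⟩ := h
  intro e
  exact h0 (by rw [← h m n, e]; ring)

/-- the conditions on the block `[[a, b], [-b', a']]` -/
structure Blk (a b a' b' : K) : Prop where
  det : a * a' + b * b' = 1
  a0 : a ≠ 0
  b0 : b ≠ 0
  a0' : a' ≠ 0
  b0' : b' ≠ 0
  gen : ∀ σ : K →+* K, σ (a ^ 3) = a ^ 3 → ∀ c, σ c = c
  two : (2 : K) = 0 → b = b' ∧ a ^ 3 ≠ a' ^ 3

theorem Blk.key {a b a' b' : K} (B : Blk a b a' b') (σ : K →+* K) {κ μ ν p q r s : K} (h0 : κ ≠ 0) (hμ : μ ^ 3 = κ)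
    (hν : ν ^ 3 = κ) (hd : (q = 0 ∧ r = 0 ∧ p ^ 3 = κ ∧ s ^ 3 = κ) ∨ (p = 0 ∧ s = 0 ∧ q ^ 3 = κ ∧ r ^ 3 = κ))
    (e1 : a * p + b * r = μ * σ a) (e2 : a * q + b * s = μ * σ b) (e3 : -b' * p + a' * r = ν * -σ b')
    (e4 : -b' * q + a' * s = ν * σ a') : (∀ c, σ c = c) ∧ μ = ν := by
  rcases hd with ⟨rfl, rfl, hp, hs⟩ | ⟨rfl, rfl, hq, hr⟩
  · have h1 := B.gen σ (mul_left_cancel₀ h0 (by
      have h2 : a * p = μ * σ a := by linear_combination e1
      rw [map_pow, ← hμ, ← mul_pow, ← h2, mul_pow, hp, hμ, mul_comm]))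
    rw [h1] at e2 e4
    exact ⟨h1, (mul_left_cancel₀ B.b0 (by linear_combination -e2 : b * μ = b * s)).trans
      (mul_left_cancel₀ B.a0' (by linear_combination e4))⟩
  · exfalso
    have h1 := congrArg σ B.det
    rw [map_add, map_mul, map_mul, map_one] at h1
    have h2 : μ * ν = -(q * r) := by
      linear_combination (-(μ * ν)) * h1 - q * r * B.det - (ν * σ a') * e1 - (b * r) * e4 - (ν * σ b') * e2 +
        (a * q) * e3
    have h3 : (2 : K) = 0 := by
      have h4 : μ ^ 3 * ν ^ 3 = -(q ^ 3 * r ^ 3) := by rw [← mul_pow, h2]; ring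
      rw [hμ, hν, hq, hr] at h4
      exact mul_left_cancel₀ (mul_ne_zero h0 h0) (by linear_combination h4)
    obtain ⟨rfl, h5⟩ := B.two h3
    refine h5 (σ.injective (mul_left_cancel₀ h0 ?_))
    have h6 : b * r = μ * σ a := by linear_combination e1
    have h7 : b * q = ν * σ a' := by linear_combination e4 + b * q * h3
    rw [map_pow, map_pow]
    calc κ * σ a ^ 3 = (b * r) ^ 3 := by rw [h6, mul_pow, hμ]
      _ = (b * q) ^ 3 := by rw [mul_pow, mul_pow, hq, hr]
      _ = κ * σ a' ^ 3 := by rw [h7, mul_pow, hν]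

theorem hes_four {a b a' b' η η' : K} (B : Blk a b a' b') (hη : η ^ 3 ≠ 1) (σ : K →+* K)
    {M M₁ M₂ M₃ : Matrix (Fin 3) (Fin 3) K} (h : HesA M ∨ HesB M) (h₁ : HesA M₁ ∨ HesB M₁) (h₂ : HesA M₂ ∨ HesB M₂)
    (h₃ : HesA M₃ ∨ HesB M₃) (e₁ : !![η, 0, 0; 0, η', 0; 0, 0, 1] * M₁ = M * (!![η, 0, 0; 0, η', 0; 0, 0, 1]).map σ)
    (e₂ : !![a, b, 0; -b', a', 0; 0, 0, 1] * M₂ = M * (!![a, b, 0; -b', a', 0; 0, 0, 1]).map σ)
    (e₃ : !![1, 0, 0; 0, a, b; 0, -b', a'] * M₃ = M * (!![1, 0, 0; 0, a, b; 0, -b', a']).map σ) :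
    (∀ c, σ c = c) ∧ ∃ μ : K, M = μ • (1 : Matrix (Fin 3) (Fin 3) K) := by
  have x₁ := fun i j => congrFun (congrFun e₁ i) j
  have x₂ := fun i j => congrFun (congrFun e₂ i) j
  have x₃ := fun i j => congrFun (congrFun e₃ i) j
  simp only [Matrix.mul_apply, Fin.sum_univ_three, Matrix.map_apply] at x₁ x₂ x₃
  rcases h with h | ⟨κ, π, h0, hπ, hκ, hz⟩
  · exfalso
    have y1 : η * M₁ 0 2 = M 0 2 := by simpa only [_root_.Fin.isValue, _root_.Matrix.of_apply, _root_.Matrix.cons_val', _root_.Matrix.cons_val_zero, _root_.Matrix.cons_val_fin_one, _root_.Matrix.cons_val_one, _root_.MulZeroClass.zero_mul, _root_.add_zero, _root_.Matrix.cons_val, _root_.map_zero, _root_.MulZeroClass.mul_zero, _root_.map_one, _root_.mul_one, _root_.zero_add] using x₁ 0 2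
    have y2 : M₁ 2 2 = M 2 2 := by simpa only [_root_.Fin.isValue, _root_.Matrix.of_apply, _root_.Matrix.cons_val', _root_.Matrix.cons_val_zero, _root_.Matrix.cons_val_fin_one, _root_.Matrix.cons_val, _root_.Matrix.cons_val_one, _root_.MulZeroClass.zero_mul, _root_.add_zero, _root_.one_mul, _root_.zero_add, _root_.map_zero, _root_.MulZeroClass.mul_zero, _root_.map_one, _root_.mul_one] using x₁ 2 2
    rcases h₁ with ⟨κ₁, -, h₁⟩ | ⟨κ₁, π, -, -, -, h₁⟩
    · obtain ⟨κ, h0, h⟩ := h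
      apply hη
      apply mul_right_cancel₀ h0
      rw [one_mul]
      conv_lhs => rw [← h 2 2, ← y2, h₁, ← h₁ 0 2, ← mul_pow, y1, h]
    · by_cases e : 2 = π 2
      · exact h.ne 0 2 (by rw [← y1, h₁ 0 2 (by rw [← e]; decide), mul_zero])
      · exact h.ne 2 2 (by rw [← y2, h₁ 2 2 e])
  have hne : ∀ n, M (π n) n ≠ 0 := fun n e => h0 (by rw [← hκ n, e]; ring)
  have p2 : π 2 = 2 := by
    by_contra e
    have y1 : M₂ 2 2 = 0 := by rw [← hz 2 2 (Ne.symm e)]; simpa only [_root_.Fin.isValue, _root_.Matrix.of_apply, _root_.Matrix.cons_val', _root_.Matrix.cons_val_zero, _root_.Matrix.cons_val_fin_one, _root_.Matrix.cons_val, _root_.Matrix.cons_val_one, _root_.MulZeroClass.zero_mul, _root_.add_zero, _root_.one_mul, _root_.zero_add, _root_.map_zero, _root_.MulZeroClass.mul_zero, _root_.map_one, _root_.mul_one] using x₂ 2 2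
    obtain ⟨κ', π', h0', -, hκ', hz'⟩ := h₂.resolve_left fun h => h.ne 2 2 y1
    have y2 : a * M₂ 0 2 + b * M₂ 1 2 = M 0 2 := by simpa only [_root_.Fin.isValue, _root_.Matrix.of_apply, _root_.Matrix.cons_val', _root_.Matrix.cons_val_zero, _root_.Matrix.cons_val_fin_one, _root_.Matrix.cons_val_one, _root_.Matrix.cons_val, _root_.MulZeroClass.zero_mul, _root_.add_zero, _root_.map_zero, _root_.MulZeroClass.mul_zero, _root_.map_one, _root_.mul_one, _root_.zero_add] using x₂ 0 2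
    have y3 : -(b' * M₂ 0 2) + a' * M₂ 1 2 = M 1 2 := by simpa using x₂ 1 2
    have y4 : M₂ (π' 2) 2 ≠ 0 := fun e => h0' (by rw [← hκ' 2, e]; ring)
    have y5 : M 0 2 = 0 ∨ M 1 2 = 0 := by
      by_cases e : 0 = π 2
      · exact Or.inr (hz 1 2 (by rw [← e]; decide))
      · exact Or.inl (hz 0 2 e)
    rcases (by decide : ∀ j : Fin 3, j = 0 ∨ j = 1 ∨ j = 2) (π' 2) with e' | e' | e' <;> rw [e'] at y4
    · rw [hz' 1 2 (by rw [e']; decide)] at y2 y3
      rcases y5 with y5 | y5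
      · exact mul_ne_zero B.a0 y4 (by linear_combination y2 + y5)
      · exact mul_ne_zero B.b0' y4 (by linear_combination -y3 - y5)
    · rw [hz' 0 2 (by rw [e']; decide)] at y2 y3
      rcases y5 with y5 | y5
      · exact mul_ne_zero B.b0 y4 (by linear_combination y2 + y5)
      · exact mul_ne_zero B.a0' y4 (by linear_combination y3 + y5)
    · exact y4 y1
  have p0 : π 0 = 0 := by
    by_contra e
    have y1 : M₃ 0 0 = 0 := by rw [← hz 0 0 (Ne.symm e)]; simpa only [_root_.Fin.isValue, _root_.Matrix.of_apply, _root_.Matrix.cons_val', _root_.Matrix.cons_val_zero, _root_.Matrix.cons_val_fin_one, _root_.one_mul, _root_.Matrix.cons_val_one, _root_.MulZeroClass.zero_mul, _root_.add_zero, _root_.Matrix.cons_val, _root_.map_one, _root_.mul_one, _root_.map_zero, _root_.MulZeroClass.mul_zero] using x₃ 0 0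
    obtain ⟨κ', π', h0', -, hκ', hz'⟩ := h₃.resolve_left fun h => h.ne 0 0 y1
    have y2 : a * M₃ 1 0 + b * M₃ 2 0 = M 1 0 := by simpa only [_root_.Fin.isValue, _root_.Matrix.of_apply, _root_.Matrix.cons_val', _root_.Matrix.cons_val_zero, _root_.Matrix.cons_val_fin_one, _root_.Matrix.cons_val_one, _root_.MulZeroClass.zero_mul, _root_.zero_add, _root_.Matrix.cons_val, _root_.map_one, _root_.mul_one, _root_.map_zero, _root_.MulZeroClass.mul_zero, _root_.add_zero] using x₃ 1 0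
    have y3 : -(b' * M₃ 1 0) + a' * M₃ 2 0 = 0 := by
      rw [← hz 2 0 fun e => absurd (hπ (e.symm.trans p2.symm)) (by decide)]
      simpa only [_root_.Fin.isValue, _root_.Matrix.of_apply, _root_.Matrix.cons_val', _root_.Matrix.cons_val_zero, _root_.Matrix.cons_val_fin_one, _root_.Matrix.cons_val, _root_.Matrix.cons_val_one, _root_.MulZeroClass.zero_mul, _root_.neg_mul, _root_.zero_add, _root_.map_one, _root_.mul_one, _root_.map_zero, _root_.MulZeroClass.mul_zero, _root_.add_zero] using x₃ 2 0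
    have y4 : M₃ (π' 0) 0 ≠ 0 := fun e => h0' (by rw [← hκ' 0, e]; ring)
    rcases (by decide : ∀ j : Fin 3, j = 0 ∨ j = 1 ∨ j = 2) (π' 0) with e' | e' | e' <;> rw [e'] at y4
    · exact y4 y1
    · rw [hz' 2 0 (by rw [e']; decide)] at y3
      exact mul_ne_zero B.b0' y4 (by linear_combination -y3)
    · rw [hz' 1 0 (by rw [e']; decide)] at y3
      exact mul_ne_zero B.a0' y4 (by linear_combination y3)
  have pi : ∀ i, π i = i :=
    (by decide +kernel : ∀ π : Fin 3 → Fin 3, Function.Injective π → π 0 = 0 → π 2 = 2 → ∀ i, π i = i) π hπ p0 p2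
  simp only [pi] at hκ hz hne
  have z01 := hz 0 1 (by decide)
  have z02 := hz 0 2 (by decide)
  have z10 := hz 1 0 (by decide)
  have z12 := hz 1 2 (by decide)
  have z20 := hz 2 0 (by decide)
  have z21 := hz 2 1 (by decide)
  have k1 : (∀ c, σ c = c) ∧ M 0 0 = M 1 1 := by
    have y1 : M₂ 2 0 = 0 := by simpa only [z20, z21, _root_.Fin.isValue, _root_.Matrix.of_apply, _root_.Matrix.cons_val', _root_.Matrix.cons_val_zero, _root_.Matrix.cons_val_fin_one, _root_.Matrix.cons_val, _root_.Matrix.cons_val_one, _root_.MulZeroClass.zero_mul, _root_.add_zero, _root_.one_mul, _root_.zero_add, _root_.map_neg, _root_.mul_neg, _root_.neg_zero, _root_.map_zero, _root_.MulZeroClass.mul_zero] using x₂ 2 0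
    have y2 : M₂ 2 2 = M 2 2 := by simpa using x₂ 2 2
    obtain ⟨κ', π', h0', hπ', hκ', hz'⟩ := h₂.resolve_left fun h => h.ne 2 0 y1
    have q2 : π' 2 = 2 := by
      by_contra e
      exact hne 2 (by rw [← y2, hz' 2 2 (Ne.symm e)])
    obtain rfl : κ = κ' := by rw [← hκ' 2, q2, y2, hκ]
    refine B.key σ h0 (hκ 0) (hκ 1) (p := M₂ 0 0) (q := M₂ 0 1) (r := M₂ 1 0) (s := M₂ 1 1) ?_
      (by simpa only [z01, _root_.Fin.isValue, _root_.Matrix.of_apply, _root_.Matrix.cons_val', _root_.Matrix.cons_val_zero, _root_.Matrix.cons_val_fin_one, _root_.Matrix.cons_val_one, _root_.Matrix.cons_val, _root_.MulZeroClass.zero_mul, _root_.add_zero, _root_.map_neg, _root_.mul_neg, _root_.neg_zero, _root_.map_zero, _root_.MulZeroClass.mul_zero] using x₂ 0 0) (by simpa only [z01, _root_.Fin.isValue, _root_.Matrix.of_apply, _root_.Matrix.cons_val', _root_.Matrix.cons_val_zero, _root_.Matrix.cons_val_fin_one, _root_.Matrix.cons_val_one, _root_.Matrix.cons_val,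 _root_.MulZeroClass.zero_mul, _root_.add_zero, _root_.map_zero, _root_.MulZeroClass.mul_zero] using x₂ 0 1) (by simpa only [z10, _root_.Fin.isValue, _root_.neg_mul, _root_.mul_neg, _root_.Matrix.of_apply, _root_.Matrix.cons_val', _root_.Matrix.cons_val_zero, _root_.Matrix.cons_val_fin_one, _root_.Matrix.cons_val_one, _root_.Matrix.cons_val, _root_.MulZeroClass.zero_mul, _root_.add_zero, _root_.map_neg, _root_.zero_add, _root_.map_zero, _root_.MulZeroClass.mul_zero] using x₂ 1 0)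
      (by simpa only [z10, _root_.Fin.isValue, _root_.neg_mul, _root_.Matrix.of_apply, _root_.Matrix.cons_val', _root_.Matrix.cons_val_zero, _root_.Matrix.cons_val_fin_one, _root_.Matrix.cons_val_one, _root_.Matrix.cons_val, _root_.MulZeroClass.zero_mul, _root_.add_zero, _root_.zero_add, _root_.map_zero, _root_.MulZeroClass.mul_zero] using x₂ 1 1)
    rcases (by decide +kernel : ∀ π : Fin 3 → Fin 3, Function.Injective π → π 2 = 2 →
      (π 0 = 0 ∧ π 1 = 1) ∨ (π 0 = 1 ∧ π 1 = 0)) π' hπ' q2 with ⟨a0, a1⟩ | ⟨a0, a1⟩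
    · exact Or.inl ⟨hz' 0 1 (by rw [a1]; decide), hz' 1 0 (by rw [a0]; decide), by rw [← hκ' 0, a0], by rw [← hκ' 1, a1]⟩
    · exact Or.inr ⟨hz' 0 0 (by rw [a0]; decide), hz' 1 1 (by rw [a1]; decide), by rw [← hκ' 1, a1], by rw [← hκ' 0, a0]⟩
  have k2 : (∀ c, σ c = c) ∧ M 1 1 = M 2 2 := by
    have y1 : M₃ 0 1 = 0 := by simpa only [z01, z02, _root_.Fin.isValue, _root_.Matrix.of_apply, _root_.Matrix.cons_val', _root_.Matrix.cons_val_zero, _root_.Matrix.cons_val_fin_one, _root_.one_mul, _root_.Matrix.cons_val_one, _root_.MulZeroClass.zero_mul, _root_.add_zero, _root_.Matrix.cons_val, _root_.map_zero, _root_.MulZeroClass.mul_zero, _root_.map_neg, _root_.mul_neg, _root_.neg_zero] using x₃ 0 1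
    have y2 : M₃ 0 0 = M 0 0 := by simpa using x₃ 0 0
    obtain ⟨κ', π', h0', hπ', hκ', hz'⟩ := h₃.resolve_left fun h => h.ne 0 1 y1
    have q0 : π' 0 = 0 := by
      by_contra e
      exact hne 0 (by rw [← y2, hz' 0 0 (Ne.symm e)])
    obtain rfl : κ = κ' := by rw [← hκ' 0, q0, y2, hκ]
    refine B.key σ h0 (hκ 1) (hκ 2) (p := M₃ 1 1) (q := M₃ 1 2) (r := M₃ 2 1) (s := M₃ 2 2) ?_
      (by simpa only [z12, _root_.Fin.isValue, _root_.Matrix.of_apply, _root_.Matrix.cons_val', _root_.Matrix.cons_val_zero, _root_.Matrix.cons_val_fin_one, _root_.Matrix.cons_val_one, _root_.MulZeroClass.zero_mul, _root_.zero_add, _root_.Matrix.cons_val, _root_.map_zero, _root_.MulZeroClass.mul_zero, _root_.map_neg, _root_.mul_neg, _root_.neg_zero, _root_.add_zero] using x₃ 1 1) (by simpa only [z12, _root_.Fin.isValue, _root_.Matrix.of_apply, _root_.Matrix.cons_val', _root_.Matrix.cons_val_zero, _root_.Matrix.cons_val_fin_one, _root_.Matrix.cons_val_one,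 _root_.MulZeroClass.zero_mul, _root_.zero_add, _root_.Matrix.cons_val, _root_.map_zero, _root_.MulZeroClass.mul_zero, _root_.add_zero] using x₃ 1 2) (by simpa only [z21, _root_.Fin.isValue, _root_.neg_mul, _root_.mul_neg, _root_.Matrix.of_apply, _root_.Matrix.cons_val', _root_.Matrix.cons_val_zero, _root_.Matrix.cons_val_fin_one, _root_.Matrix.cons_val, _root_.Matrix.cons_val_one, _root_.MulZeroClass.zero_mul, _root_.zero_add, _root_.map_zero, _root_.MulZeroClass.mul_zero, _root_.add_zero, _root_.map_neg] using x₃ 2 1)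
      (by simpa only [z21, _root_.Fin.isValue, _root_.neg_mul, _root_.Matrix.of_apply, _root_.Matrix.cons_val', _root_.Matrix.cons_val_zero, _root_.Matrix.cons_val_fin_one, _root_.Matrix.cons_val, _root_.Matrix.cons_val_one, _root_.MulZeroClass.zero_mul, _root_.zero_add, _root_.map_zero, _root_.MulZeroClass.mul_zero, _root_.add_zero] using x₃ 2 2)
    rcases (by decide +kernel : ∀ π : Fin 3 → Fin 3, Function.Injective π → π 0 = 0 →
      (π 1 = 1 ∧ π 2 = 2) ∨ (π 1 = 2 ∧ π 2 = 1)) π' hπ' q0 with ⟨a0, a1⟩ | ⟨a0, a1⟩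
    · exact Or.inl ⟨hz' 1 2 (by rw [a1]; decide), hz' 2 1 (by rw [a0]; decide), by rw [← hκ' 1, a0], by rw [← hκ' 2, a1]⟩
    · exact Or.inr ⟨hz' 1 1 (by rw [a0]; decide), hz' 2 2 (by rw [a1]; decide), by rw [← hκ' 2, a1], by rw [← hκ' 1, a0]⟩
  refine ⟨k1.1, M 0 0, ?_⟩
  ext i j
  (revert i j; simp only [z01, z02, z10, z12, z20, z21, ← k2.2, ← k1.2, _root_.Fin.forall_fin_succ, Fin.isValue, _root_.Matrix.smul_apply, _root_.smul_eq_mul, _root_.Fin.succ_zero_eq_one, _root_.Fin.succ_one_eq_two, _root_.IsEmpty.forall_iff, _root_.and_true, _root_.Matrix.one_apply_eq, _root_.mul_one, Nat.reduceAdd, _root_.ne_eq, _root_.zero_ne_one, _root_.not_false_eq_true, _root_.Matrix.one_apply_ne, _root_.MulZeroClass.mul_zero, Fin.reduceEq, _root_.and_self, _root_.Fin.succ_ne_zero])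

/-- the cube of a generator generates the field -/
theorem fix_cube [Finite K] (hK : Nat.card K ≠ 4) {γ : K} (hγ : ∀ x, x ≠ 0 → ∃ k : ℕ, x = γ ^ k) (σ : K →+* K)
    (h : σ (γ ^ 3) = γ ^ 3) (c : K) : σ c = c := by
  let K₀ : Subfield K := σ.eqLocusField (RingHom.id K)
  have h1 : Nat.card K ≤ 3 * (Nat.card K₀ - 1) + 1 := by
    have h2 : Nat.card Kˣ ≤ Nat.card (Fin 3 × K₀ˣ) := by
      by_cases h0 : γ = 0
      · have h3 : Subsingleton Kˣ := ⟨fun x y => by
          have h4 : ∀ x : Kˣ, x = 1 := fun x => by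
            obtain ⟨k, hk⟩ := hγ x x.ne_zero
            rcases k with _ | k
            · exact Units.ext (by simpa using hk)
            · simp [h0] at hk
          rw [h4 x, h4 y]⟩
        exact Nat.card_le_card_of_surjective (fun _ => 1) fun x => ⟨(0, 1), Subsingleton.elim _ _⟩
      refine Nat.card_le_card_of_surjective
        (fun p => Units.mk0 γ h0 ^ (p.1 : ℕ) * Units.map K₀.subtype.toMonoidHom p.2) fun x => ?_
      obtain ⟨k, hk⟩ := hγ x x.ne_zero
      have h3 : (γ ^ 3) ^ (k / 3) ∈ K₀ := pow_mem (show γ ^ 3 ∈ K₀ from h) _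
      refine ⟨(⟨k % 3, Nat.mod_lt _ (by norm_num)⟩, Units.mk0 ⟨_, h3⟩ fun e =>
        pow_ne_zero _ (pow_ne_zero 3 h0) (congrArg Subtype.val e)), Units.ext ?_⟩
      show γ ^ (k % 3) * (γ ^ 3) ^ (k / 3) = x
      rw [← pow_mul, ← pow_add, Nat.mod_add_div, hk]
    rw [Nat.card_prod, Nat.card_units, Nat.card_units, Nat.card_eq_fintype_card (α := Fin 3), Fintype.card_fin] at h2
    omega
  have h2 : Nat.card K = Nat.card K₀ ^ Module.finrank K₀ K := Module.natCard_eq_pow_finrank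
  have h3 : 2 ≤ Nat.card K₀ := Finite.one_lt_card
  have h4 : 0 < Module.finrank K₀ K := Module.finrank_pos
  have h5 : Module.finrank K₀ K = 1 := by
    by_contra e
    have h6 : Nat.card K₀ ^ 2 ≤ Nat.card K := by rw [h2]; exact Nat.pow_le_pow_right (by omega) (by omega)
    obtain ⟨m, hm⟩ : ∃ m, Nat.card K₀ = m + 2 := ⟨Nat.card K₀ - 2, by omega⟩
    rw [hm] at h1 h6
    have h7 : m + 2 - 1 = m + 1 := rfl
    rw [h7] at h1
    have h8 : m = 0 := by nlinarith only [h6, h1]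
    subst h8
    omega
  rw [h5, pow_one] at h2
  have h6 : K₀.toAddSubgroup = ⊤ := AddSubgroup.eq_top_of_card_eq _ h2.symm
  have h7 : c ∈ K₀.toAddSubgroup := by rw [h6]; exact AddSubgroup.mem_top c
  exact h7

end Cfsg.Agent.SB.Tor
end

-- part: SB/Tor/U3d
section
/-!
# S5765, classical groups: the row `3² : SL₂(3)` in `U₃(q)` (helper90)
-/

set_option autoImplicit false
set_option linter.unusedSectionVars false

namespace Cfsg.Agent.SB.Tor

open Cfsg Cfsg.Agent.DS.Cl Cfsg.Agent.DS.Cl.Fwd Module Matrix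
open Cfsg.Agent.H198.FC (R)
open Cfsg.Agent.SB.Idem (piB piB_apply gram lift_max b_sum_left b_sum_right ap_basis)
open Cfsg.Agent.LieClassical.HermSiegel (mat mkSU mat_one mat_mul herm_act)
open scoped commutatorElement

variable {K V : Type} [Field K] [Finite K] [AddCommGroup V] [Module K V] [Finite V] {h : HF K V}

theorem det_comm (F : FR h.EB) {u : h.EBˣ} (hu : u ∈ (⁅F.Iso, F.Iso⁆ : Subgroup _)) : LinearMap.det (h.ap u) = 1 := by
  have h1 : (⁅F.Iso, F.Iso⁆ : Subgroup _) ≤ (detU h).ker := Subgroup.commutator_le.2 fun a _ b _ => by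
    rw [MonoidHom.mem_ker, map_commutatorElement, commutatorElement_eq_one_iff_mul_comm, mul_comm]
  exact congrArg Units.val (h1 hu)

/-- the special unitary group lies in the commutator group -/
theorem su_le_comm (hU : Cl.IsU h) (F : FR h.EB) {n : ℕ} (hn : 3 ≤ n) (hK : n = 3 → Nat.card K ≠ 4)
    (c : Basis (Fin n) K V) (hc : ∀ i j, h.b (c i) (c j) = if i = j then 1 else 0) {u : h.EBˣ} (hu : u ∈ F.Iso)
    (hd : LinearMap.det (h.ap u) = 1) : u ∈ (⁅F.Iso, F.Iso⁆ : Subgroup _) := by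
  have _ := Fintype.ofFinite K
  let τ : K ≃+* K := ⟨⟨h.τ, h.τ, h.τ_τ, h.τ_τ⟩, map_mul h.τ, map_add h.τ⟩
  obtain ⟨q, -, hq, hτ⟩ := H324.FC.exists_q τ h.τ_τ hU.2
  replace hτ : ∀ x, h.τ x = x ^ q := hτ
  have h1 : ∀ v w, h.b v w = hermForm n K q (c.repr v) (c.repr w) := fun v w => by
    conv_lhs => rw [← c.sum_repr v, ← c.sum_repr w, b_sum_left]
    refine Finset.sum_congr rfl fun i _ => ?_
    rw [b_sum_right]
    simp only [hc, hτ, _root_.mul_ite, _root_.mul_one, _root_.MulZeroClass.mul_zero, _root_.Finset.sum_ite_eq, _root_.Finset.mem_univ, ↓ _root_.reduceIte]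
  let ψ : Matrix (Fin n) (Fin n) K →* h.EB := (Matrix.toLinAlgEquiv c).toMonoidHom
  have h2 : ∀ M v, ⇑(c.repr (h.ap (ψ M) v)) = M *ᵥ c.repr v := fun M v => by
    rw [← LinearMap.toMatrix_mulVec_repr c c]
    exact congrArg (· *ᵥ _) (LinearMap.toMatrix_toLin c c M)
  let φ₀ : SU n K q →* Matrix (Fin n) (Fin n) K := ⟨⟨mat, mat_one⟩, mat_mul⟩
  let φ : SU n K q →* h.EBˣ := (ψ.comp φ₀).toHomUnits
  have hle : φ.range ≤ F.Iso := by
    rintro _ ⟨A, rfl⟩
    refine mem_Iso_max (L_eq_of_U hU F) ((h.unit_iff _).2 fun x y => ?_)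
    rw [h1, h1]
    exact (congrArg₂ _ (h2 _ x) (h2 _ y)).trans (herm_act A _ _)
  refine Subgroup.commutator_mono hle hle ?_
  rw [comm_range, LieClassical.HermPerfect.commutator_SU_eq_top (by rwa [← Nat.card_eq_fintype_card]) hn
    (fun e => hK e.1 (by rw [hq, e.2]; rfl)), ← MonoidHom.range_eq_map]
  refine ⟨mkSU (LinearMap.toMatrix c c (h.ap u)) (by rw [LinearMap.det_toMatrix, hd]) fun x y => ?_,
    Units.ext (Matrix.toLin_toMatrix c c _)⟩
  obtain ⟨x, rfl⟩ := c.equivFun.surjective x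
  obtain ⟨y, rfl⟩ := c.equivFun.surjective y
  rw [c.equivFun_apply, c.equivFun_apply, LinearMap.toMatrix_mulVec_repr, LinearMap.toMatrix_mulVec_repr, ← h1, ← h1]
  exact (h.unit_iff u).1 hu.1 x y

variable (h) in
/-- automorphisms as permutations -/
def tp : RingAut h.EB →* Equiv.Perm (R K V) := RingAut.toPerm h.EB

theorem tp_injective : Function.Injective (tp h) := fun _ _ e => RingEquiv.ext fun a => Equiv.congr_fun e a

theorem dat_tp {F : FR h.EB} {S Y : Subgroup (RingAut h.EB)} {r a : ℕ} (hr : r.Prime) (ha : 1 ≤ a)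
    (hV : finrank K V = r ^ a) (H : Cl.ExtD F S Y r) (hc : Nat.card Y = r ^ (2 * a)) :
    H716.FC.Dat (Y.map (tp h)) r a := by
  obtain ⟨h1, h2, h3, -, h5⟩ := H
  have : Module.Finite K V := Module.Finite.of_finite
  have : Nontrivial V := Module.nontrivial_of_finrank_pos (R := K) (by rw [hV]; exact pow_pos hr.pos a)
  refine ⟨hr, ha, hV, ?_, ?_, ?_, ?_, ?_⟩
  · rintro _ ⟨γ, hγ, rfl⟩
    obtain ⟨u, -, rfl⟩ := (h1 hγ).2
    exact ⟨u, rfl⟩
  · rw [Subgroup.card_map_of_injective tp_injective, hc]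
  · rintro _ ⟨γ, hγ, rfl⟩
    rw [← map_pow, h3 _ hγ, map_one]
  · rintro _ ⟨γ, hγ, rfl⟩ _ ⟨δ, hδ, rfl⟩
    rw [← map_mul, ← map_mul, h2 _ hγ _ hδ]
  · set W := Submodule.span K {X : R K V | ∃ x : (R K V)ˣ, (x : R K V) = X ∧ H198.FC.cj K _ x ∈ Y.map (tp h)} with hW
    have w1 : (1 : R K V) ∈ W := Submodule.subset_span ⟨1, rfl, by rw [map_one]; exact one_mem _⟩
    have wm : ∀ X ∈ W, ∀ X' ∈ W, X * X' ∈ W := by
      intro X hX X' hX'
      have h6 := Submodule.mul_mem_mul hX hX'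
      rw [hW, Submodule.span_mul_span] at h6
      refine Submodule.span_mono ?_ h6
      rintro _ ⟨_, ⟨x, rfl, hx⟩, _, ⟨y, rfl, hy⟩, rfl⟩
      exact ⟨x * y, rfl, by rw [map_mul]; exact mul_mem hx hy⟩
    let B : Subring h.EB :=
      { carrier := {a | h.ap a ∈ W}
        mul_mem' := fun {a b} ha hb => wm _ ha _ hb
        one_mem' := w1
        add_mem' := fun {a b} ha hb => W.add_mem ha hb
        zero_mem' := W.zero_mem
        neg_mem' := fun {a} ha => W.neg_mem ha }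
    have hB : ⊤ ≤ B := by
      rw [← h5, Subring.closure_le]
      rintro a (ha | ⟨u, hu, huY, rfl⟩)
      · obtain ⟨k, hk⟩ := exists_sc h ha
        show h.ap a ∈ W
        rw [show h.ap a = k • 1 from LinearMap.ext hk]
        exact Submodule.smul_mem W k w1
      · exact Submodule.subset_span (R := K) (M := R K V) ⟨u, rfl, cj _ u, huY, rfl⟩
    rw [eq_top_iff]
    intro X _
    exact hB (Subring.mem_top (h.eb X))

/-- the normal form of `Y` -/
structure HB (Y : Subgroup (RingAut h.EB)) (c : Basis (Fin 3) K V) (P Z : h.EBˣ) (χ : Fin 3 → K) : Prop where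
  on : ∀ i j, h.b (c i) (c j) = if i = j then 1 else 0
  PY : cj _ P ∈ Y
  ZY : cj _ Z ∈ Y
  P3 : P ^ 3 = 1
  Z3 : Z ^ 3 = 1
  hP : ∀ i, h.ap P (c i) = c (i + 1)
  hZ : ∀ i, h.ap Z (c i) = χ i • c i
  inj : Function.Injective χ
  cube : ∀ i, χ i ^ 3 = 1
  lift : ∀ u : h.EBˣ, cj _ u ∈ Y → u ^ 3 = 1 → ∃ (i : Fin 3) (l : Fin 3 → K), (∀ m, l m ^ 3 = 1) ∧
    ∀ m, h.ap u (c m) = l m • c (m + i)

theorem exists_HB (hU : Cl.IsU h) (hV : finrank K V = 3) {F : FR h.EB} {S Y : Subgroup (RingAut h.EB)}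
    (H : Cl.ExtD F S Y 3) (hc : Nat.card Y = 9) : ∃ c P Z χ, HB Y c P Z χ := by
  have : Module.Finite K V := Module.Finite.of_finite
  have hD := dat_tp Nat.prime_three le_rfl hV H hc
  have hnt := hD.nontriv
  have hmem : ∀ u : h.EBˣ, H198.FC.cj K V u ∈ Y.map (tp h) ↔ cj _ u ∈ Y := fun u =>
    Subgroup.mem_map_iff_mem (x := cj _ u) tp_injective
  have hA : ∀ u : (R K V)ˣ, H198.FC.cj K V u ∈ Y.map (tp h) →
      ∃ x ∈ (⁅F.Iso, F.Iso⁆ : Subgroup h.EBˣ), H198.FC.cj K V x = H198.FC.cj K V u := by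
    rintro u ⟨γ, hγ, e⟩
    obtain ⟨x, hx, rfl⟩ := (H.1 hγ).2
    exact ⟨x, hx, e⟩
  obtain ⟨ω, P, Z, hPA, hZA, hPI, hZI, hH⟩ : ∃ (ω : K) (P Z : (R K V)ˣ), H198.FC.cj K V P ∈ Y.map (tp h) ∧
      H198.FC.cj K V Z ∈ Y.map (tp h) ∧ (show h.EBˣ from P) ∈ F.Iso ∧ (show h.EBˣ from Z) ∈ F.Iso ∧
      H710.FC.Heis 3 ω P Z := by
    obtain ⟨u, hu, hns⟩ := hD.exists_nonsc
    obtain ⟨v, hv, ε, hε, hε1⟩ := hD.exists_eps hns fun v hv => hD.comm hv hu
    obtain ⟨P, hP, hPu⟩ := hA u hu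
    obtain ⟨Z, hZ, hZv⟩ := hA v hv
    have hdP := det_comm F hP
    have hdZ := det_comm F hZ
    replace hP := F.comm_le_Iso hP
    replace hZ := F.comm_le_Iso hZ
    revert P Z
    intro (P : (R K V)ˣ) hPu (Z : (R K V)ˣ) hZv hdP hdZ hP hZ
    have hP' : P ∈ H716.FC.Lf (Y.map (tp h)) := by rw [H716.FC.mem_Lf, hPu]; exact hu
    have hZ' : Z ∈ H716.FC.Lf (Y.map (tp h)) := by rw [H716.FC.mem_Lf, hZv]; exact hv
    obtain ⟨c, hc⟩ := H716.FC.cj_eq_of hPu
    obtain ⟨d, hd⟩ := H716.FC.cj_eq_of hZv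
    have h1 : (Z : R K V) * P = ε • ((P : R K V) * Z) := by
      rw [hc, hd, smul_mul_smul_comm, smul_mul_smul_comm, hε, smul_comm, mul_comm d c]
    have h2 : ∀ x y : (R K V)ˣ, (∃ s : K, (x : R K V) = s • (1 : R K V)) → (x : R K V) * y = y * x := by
      rintro x y ⟨s, hs⟩
      rw [hs, smul_mul_assoc, mul_smul_comm, one_mul, mul_one]
    have h3 : (Z : R K V) * P ≠ P * Z := fun h0 => hε1 (H716.FC.smul_inj_unit (x := P * Z) (by
      rw [Units.val_mul, ← h1, h0, one_smul]))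
    refine ⟨ε, P, Z, hP', hZ', hP, hZ, Nat.prime_three, by norm_num, ?_, hD.hn,
      cube_eq_one hD hP' (fun h0 => h3 (h2 P Z h0).symm) hdP, cube_eq_one hD hZ' (fun h0 => h3 (h2 Z P h0)) hdZ, h1⟩
    have : Fact (Nat.Prime 3) := ⟨Nat.prime_three⟩
    rw [← orderOf_eq_prime (hD.eps_pow hv hε) hε1]
    exact IsPrimitiveRoot.orderOf ε
  obtain ⟨b, hbZ, hbP⟩ := hH.exists_basis
  let χ : Fin 3 → K := H710.FC.Heis.ch 3 ω
  have hinj : Function.Injective χ := hH.ch_inj
  have hcube : ∀ i, χ i ^ 3 = 1 := fun i => by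
    show (ω ^ _) ^ 3 = 1
    rw [← pow_mul, mul_comm, pow_mul, hH.hω, one_pow]
  revert b
  intro (b : Basis (Fin 3) K V) (hbZ : ∀ i, (Z : R K V) (b i) = χ i • b i) (hbP : ∀ i, (P : R K V) (b i) = b (i + 1))
  have g1 : ∀ i j, h.b (b (i + 1)) (b (j + 1)) = h.b (b i) (b j) := fun i j => by
    rw [← hbP, ← hbP]
    exact (h.unit_iff _).1 hPI.1 _ _
  have g2 : ∀ i j, χ i * h.τ (χ j) * h.b (b i) (b j) = h.b (b i) (b j) := fun i j => by
    rw [mul_assoc, ← h.smul_right, ← h.smul_left, ← hbZ, ← hbZ]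
    exact (h.unit_iff _).1 hZI.1 _ _
  have g3 : ∀ i j, h.b (b i) (b j) ≠ 0 → ∀ k, χ (i + k) * h.τ (χ (j + k)) = 1 := fun i j h0 k => by
    have h1 : h.b (b (i + k)) (b (j + k)) = h.b (b i) (b j) := by
      fin_cases k
      · simp
      · exact g1 i j
      · have e : ∀ i : Fin 3, i + 2 = i + 1 + 1 := by decide
        show h.b (b (i + 2)) (b (j + 2)) = _
        rw [e i, e j, g1, g1]
    exact mul_right_cancel₀ h0 (by rw [one_mul, ← h1, g2])
  have hω0 : χ 0 = 1 := hH.ch_zero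
  have g4 : ∀ i j, i ≠ j → h.b (b i) (b j) = 0 := fun i j hij => by
    by_contra h0
    have h1 := g3 i j h0 (-j)
    rw [add_neg_cancel, hω0, map_one, mul_one, ← hω0] at h1
    exact hij (add_neg_eq_zero.1 (hinj h1))
  have g5 : ∀ i, h.b (b i) (b i) = h.b (b 0) (b 0) := fun i => by
    fin_cases i
    exacts [rfl, g1 0 0, (g1 1 1).trans (g1 0 0)]
  have g6 : h.b (b 0) (b 0) ≠ 0 := fun h0 => b.ne_zero 0 (h.nondeg _ fun u => by
    rw [← b.sum_repr u, b_sum_left, Fin.sum_univ_three, h0, g4 1 0 (by decide), g4 2 0 (by decide)]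
    simp only [_root_.Fin.isValue, _root_.MulZeroClass.mul_zero, _root_.add_zero])
  have hτ : h.τ ≠ RingHom.id K := fun e => by
    obtain ⟨c, hc⟩ := hU.2
    exact hc (by rw [e]; rfl)
  obtain ⟨s, hs⟩ := ClassicalGeometry.InvolutiveNorm.exists_mul_sigma_eq hτ h.τ_τ (a := (h.b (b 0) (b 0))⁻¹)
    (by rw [map_inv₀, tau_self hU.1])
  have hs0 : s ≠ 0 := left_ne_zero_of_mul (hs.trans_ne (inv_ne_zero g6))
  let c : Basis (Fin 3) K V := b.unitsSMul fun _ => Units.mk0 s hs0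
  have hcb : ∀ i, c i = s • b i := fun i => b.unitsSMul_apply i
  have hcP : ∀ i, (P : R K V) (c i) = c (i + 1) := fun i => by rw [hcb, hcb, map_smul, hbP]
  have hcZ : ∀ i, (Z : R K V) (c i) = χ i • c i := fun i => by rw [hcb, map_smul, hbZ, smul_comm]
  refine ⟨c, P, Z, χ, fun i j => ?_, (hmem _).1 hPA, (hmem _).1 hZA, hH.Pr, hH.Zr, hcP, hcZ, hinj, hcube, ?_⟩
  · rw [hcb, hcb, h.smul_left, h.smul_right, ← mul_assoc, hs]
    split_ifs with hij
    · rw [hij, g5 j, inv_mul_cancel₀ g6]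
    · rw [g4 i j hij, mul_zero]
  · intro u hu hu3
    replace hu := (hmem u).2 hu
    replace hu3 : (h.ap u : R K V) ^ 3 = 1 := congrArg Units.val hu3
    obtain ⟨c₁, h1⟩ := H710.FC.exists_comm (hD.hcomm _ hu _ hZA)
    obtain ⟨c₂, h2⟩ := H710.FC.exists_comm (hD.hcomm _ hu _ hPA)
    obtain ⟨i, j, hij⟩ := hH.lift h1 h2
    obtain ⟨t, ht⟩ := H716.FC.cj_eq_of hij
    replace ht : (h.ap u : R K V) = t • ((P ^ i * Z ^ j : (R K V)ˣ) : R K V) := ht
    have h3 : (P ^ i * Z ^ j) ^ 3 = 1 := by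
      rw [H710.FC.mul_pow_r Nat.prime_three (by norm_num) hD.hpow hD.hcomm
        (by rw [map_pow]; exact pow_mem hPA i) (by rw [map_pow]; exact pow_mem hZA j), ← pow_mul, ← pow_mul,
        mul_comm i, mul_comm j, pow_mul, pow_mul, hH.Pr, hH.Zr, one_pow, one_pow, one_mul]
    have h4 : t ^ 3 = 1 := H716.FC.smul_inj_unit (V := V) (x := 1) (by
      rw [ht, smul_pow, ← Units.val_pow_eq_pow_val, h3] at hu3
      rw [hu3, one_smul, Units.val_one])
    have h5 : ∀ i : ℕ, ∃ k : Fin 3, ∀ m, ((P : R K V) ^ i) (c m) = c (m + k) := fun i => by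
      induction i with
      | zero => exact ⟨0, fun m => by simp⟩
      | succ i ih =>
        obtain ⟨k, hk⟩ := ih
        exact ⟨k + 1, fun m => by rw [pow_succ', Module.End.mul_apply, hk, hcP, add_assoc]⟩
    have h6 : ∀ (j : ℕ) m, ((Z : R K V) ^ j) (c m) = χ m ^ j • c m := fun j m => by
      induction j with
      | zero => simp
      | succ j ih => rw [pow_succ', Module.End.mul_apply, ih, map_smul, hcZ, smul_smul, pow_succ]
    obtain ⟨k, hk⟩ := h5 i
    refine ⟨k, fun m => t * χ m ^ j, fun m => ?_, fun m => ?_⟩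
    · rw [mul_pow, h4, ← pow_mul, mul_comm j, pow_mul, hcube, one_pow, one_mul]
    · rw [ht, Units.val_mul, Units.val_pow_eq_pow_val, Units.val_pow_eq_pow_val, LinearMap.smul_apply,
        Module.End.mul_apply, h6, map_smul, hk, smul_smul]

theorem HB.hes {Y : Subgroup (RingAut h.EB)} {c : Basis (Fin 3) K V} {P Z : h.EBˣ} {χ : Fin 3 → K}
    (H : HB Y c P Z χ) {f : RingAut h.EB} (hf : ∀ y ∈ Y, f * y * f⁻¹ ∈ Y) (σ : K →+* K) (g : V → V)
    (g0 : ∀ v, v ≠ 0 → g v ≠ 0) (gs : ∀ (a : K) v, g (a • v) = σ a • g v)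
    (gc : ∀ a v, h.ap (f a) (g v) = g (h.ap a v)) :
    HesA (Matrix.of fun m n => c.repr (g (c n)) m) ∨ HesB (Matrix.of fun m n => c.repr (g (c n)) m) := by
  have key : ∀ w : h.EBˣ, cj _ w ∈ Y → w ^ 3 = 1 → ∃ (i : Fin 3) (l : Fin 3 → K), (∀ m, l m ^ 3 = 1) ∧
      ∀ m v, c.repr (g (h.ap w v)) (m + i) = l m * c.repr (g v) m := by
    intro w hw hw3
    obtain ⟨i, l, hl, hi⟩ := H.lift (um f w) (by rw [← conj_cj]; exact hf _ hw) (by rw [← map_pow, hw3, map_one])
    refine ⟨i, l, hl, fun m v => ?_⟩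
    rw [← gc]
    refine LinearMap.congr_fun (c.ext (f₁ := (c.coord (m + i)).comp (h.ap (um f w))) (f₂ := l m • c.coord m)
      fun n => ?_) (g v)
    simp only [LinearMap.comp_apply, hi, map_smul, Basis.coord_apply, Basis.repr_self, LinearMap.smul_apply,
      Finsupp.single_apply, add_left_inj, smul_eq_mul]
    split_ifs with e
    · rw [e]
    · rw [mul_zero, mul_zero]
  obtain ⟨k, l, hl, hk⟩ := key P H.PY H.P3
  obtain ⟨i, l', hl', hi⟩ := key Z H.ZY H.Z3
  have h1 : ∀ m n, σ (χ n) * c.repr (g (c n)) (m + i) = l' m * c.repr (g (c n)) m := fun m n => by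
    rw [← hi, H.hZ, gs, map_smul]
    rfl
  refine hes_of (k := k) (i := i) (fun n => ?_) (fun m n => ?_) (fun m n => ?_) fun h0 m n n' a a' => ?_
  · by_contra e
    push Not at e
    exact g0 _ (c.ne_zero n) (c.repr.injective (by rw [map_zero]; exact Finsupp.ext e))
  · rw [Matrix.of_apply, Matrix.of_apply, ← H.hP, hk, mul_pow, hl, one_mul]
  · have h2 := congrArg (· ^ 3) (h1 m n)
    simpa only [Matrix.of_apply, mul_pow, ← map_pow, H.cube, hl', map_one, one_mul] using h2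
  · have h2 := h1 m n
    have h3 := h1 m n'
    rw [h0, add_zero] at h2 h3
    exact H.inj (σ.injective ((mul_right_cancel₀ a h2).trans (mul_right_cancel₀ a' h3).symm))

theorem exists_blk (hU : Cl.IsU h) (hK : Nat.card K ≠ 4) : ∃ a b η : K, Blk a b (h.τ a) (h.τ b) ∧ η * h.τ η = 1 ∧
    η ^ 3 ≠ 1 := by
  have hτ : h.τ ≠ RingHom.id K := fun e => by
    obtain ⟨c, hc⟩ := hU.2
    exact hc (by rw [e]; rfl)
  let τ : K ≃+* K := ⟨⟨h.τ, h.τ, h.τ_τ, h.τ_τ⟩, map_mul h.τ, map_add h.τ⟩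
  obtain ⟨ξ, h1, h2, -, h3⟩ := H324.FC.exists_xi τ h.τ_τ hU.2
  replace h1 : ξ * h.τ ξ = 1 := h1
  have h4 : h.τ ξ ≠ ξ := fun e => hτ (h3 _ e)
  obtain ⟨a, ha0, hgen, -⟩ := H324.FC.exists_gen K
  have h5 : 1 - a * h.τ a ≠ 0 := fun e => by
    obtain ⟨k, hk⟩ := hgen (ξ + 1) fun e => h4 (by rw [eq_neg_of_add_eq_zero_left e, map_neg, map_one])
    have h6 : (ξ + 1) * h.τ (ξ + 1) = 1 := by rw [hk, map_pow, ← mul_pow, ← sub_eq_zero.1 e, one_pow]
    rw [map_add, map_one] at h6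
    exact h2 hK (by linear_combination (ξ - 1) * ξ * h6 - (ξ - 1) * (ξ + 1) * h1)
  have h6 : h.τ (1 - a * h.τ a) = 1 - a * h.τ a := by rw [map_sub, map_one, map_mul, h.τ_τ, mul_comm]
  obtain ⟨b, hb, hb'⟩ : ∃ b, b * h.τ b = 1 - a * h.τ a ∧ ((2 : K) = 0 → b = h.τ b) := by
    by_cases e : (2 : K) = 0
    · have h7 : Function.Injective fun x : K => x * x := fun x y hxy => by
        have h8 : (x - y) ^ 2 = 0 := by linear_combination (hxy : x * x = y * y) + (y * y - x * y) * e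
        exact sub_eq_zero.1 (pow_eq_zero_iff two_ne_zero |>.1 h8)
      obtain ⟨b, hb⟩ := Finite.surjective_of_injective h7 (1 - a * h.τ a)
      have h8 : b = h.τ b := h7 (by
        show b * b = h.τ b * h.τ b
        rw [← map_mul, show b * b = _ from hb, h6])
      exact ⟨b, by rw [← h8]; exact hb, fun _ => h8⟩
    · obtain ⟨b, hb⟩ := ClassicalGeometry.InvolutiveNorm.exists_mul_sigma_eq hτ h.τ_τ h6
      exact ⟨b, hb, fun e' => absurd e' e⟩
  refine ⟨a, b, ξ, ⟨by rw [hb]; ring, ha0, left_ne_zero_of_mul (hb.trans_ne h5), by simpa using ha0,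
    right_ne_zero_of_mul (hb.trans_ne h5), fix_cube hK hgen, fun e => ⟨hb' e, fun e' => ?_⟩⟩, h1, h2 hK⟩
  exact hτ (RingHom.ext (fix_cube hK hgen h.τ (by rw [map_pow, e'])))

theorem four_U3d (hU : Cl.IsU h) (hV : finrank K V = 3) (hK : Nat.card K ≠ 4) {F : FR h.EB}
    {S Y : Subgroup (RingAut h.EB)} (hS : S ≤ SAut h.EB) (H : Cl.ExtD F S Y 3) (hc : Nat.card Y = 9) : Four F.S S := by
  obtain ⟨c, P, Z, χ, B⟩ := exists_HB hU hV H hc
  have : Nontrivial V := ⟨_, _, c.ne_zero 0⟩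
  obtain ⟨a, b, η, hB, hη, hη3⟩ := exists_blk hU hK
  have hg : _root_.Cfsg.Agent.SB.Idem.gram h c = 1 := by
    ext i j
    rw [Matrix.one_apply]
    exact B.on i j
  have lift : ∀ X : Matrix (Fin 3) (Fin 3) K, Xᵀ * X.map h.τ = 1 → X.det = 1 →
      ∃ u : h.EBˣ, cj _ u ∈ F.S ∧ piB h c u = X := fun X h1 h2 => by
    obtain ⟨u, hu, rfl⟩ := lift_max h c (L_eq_of_U hU F) (X := X) (by rw [hg, mul_one, h1])
    exact ⟨u, ⟨u, su_le_comm hU F le_rfl (fun _ => hK) c B.on hu (by rwa [piB_apply, LinearMap.det_toMatrix] at h2),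
      rfl⟩, rfl⟩
  have hd := hB.det
  obtain ⟨x, hx, ex⟩ := lift !![η, 0, 0; 0, h.τ η, 0; 0, 0, 1] (by
    ext i j
    (revert i j; simp only [Matrix.mul_apply, Fin.sum_univ_three, h.τ_τ, hη, mul_comm (h.τ η), _root_.Fin.forall_fin_succ, _root_.Matrix.transpose_apply, _root_.Matrix.of_apply, _root_.Matrix.cons_val', _root_.Matrix.cons_val_fin_one, _root_.Matrix.map_apply, Fin.isValue, _root_.Matrix.cons_val_zero, _root_.Matrix.cons_val_one, _root_.Matrix.cons_val, _root_.map_zero, _root_.MulZeroClass.mul_zero, _root_.add_zero, _root_.Matrix.cons_val_succ, _root_.zero_add, _root_.map_one, _root_.mul_one, _root_.IsEmpty.forall_iff, _root_.and_true, _root_.Matrix.one_apply_eq, _root_.MulZeroClass.zero_mul, Nat.reduceAdd, _root_.Fin.succ_zero_eq_one, _root_.ne_eq, _root_.zero_ne_one, _root_.not_false_eq_true, _root_.Matrix.one_apply_ne, _root_.Fin.succ_one_eq_two, Fin.reduceEq, _root_.and_self, _root_.Fin.succ_ne_zero, _root_.mul_eq_zero,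 _root_.map_eq_zero, _root_.true_or, _root_.true_and]))
    (by simp [Matrix.det_fin_three, hη])
  obtain ⟨y, hy, ey⟩ := lift !![a, b, 0; -h.τ b, h.τ a, 0; 0, 0, 1] (by
    ext i j
    (revert i j; simp only [Matrix.mul_apply, Fin.sum_univ_three, h.τ_τ, _root_.Fin.forall_fin_succ, _root_.Matrix.transpose_apply, _root_.Matrix.of_apply, _root_.Matrix.cons_val', _root_.Matrix.cons_val_fin_one, _root_.Matrix.map_apply, Fin.isValue, _root_.Matrix.cons_val_zero, _root_.Matrix.cons_val_one, _root_.Matrix.cons_val, _root_.map_neg, _root_.mul_neg, _root_.map_zero, _root_.MulZeroClass.mul_zero, _root_.add_zero, _root_.Matrix.cons_val_succ, _root_.map_one, _root_.mul_one, _root_.zero_add, _root_.IsEmpty.forall_iff, _root_.and_true, _root_.neg_mul, _root_.neg_neg, _root_.Matrix.one_apply_eq, Nat.reduceAdd, _root_.Fin.succ_zero_eq_one, _root_.ne_eq, _root_.zero_ne_one, _root_.not_false_eq_true, _root_.Matrix.one_apply_ne, _root_.Fin.succ_one_eq_two,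 Fin.reduceEq, _root_.Fin.succ_ne_zero, _root_.MulZeroClass.zero_mul, _root_.neg_zero, _root_.true_and, _root_.and_self]) <;> (repeat' with_reducible apply And.intro) <;>
      first | linear_combination hd | ring)
    (by simp only [Matrix.det_fin_three, _root_.Fin.isValue, _root_.Matrix.of_apply, _root_.Matrix.cons_val', _root_.Matrix.cons_val_zero, _root_.Matrix.cons_val_fin_one, _root_.Matrix.cons_val_one, _root_.Matrix.cons_val, _root_.mul_one, _root_.MulZeroClass.mul_zero, _root_.sub_zero, _root_.mul_neg, _root_.sub_neg_eq_add, _root_.add_zero, _root_.MulZeroClass.zero_mul, _root_.neg_zero]; linear_combination hd)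
  obtain ⟨z, hz, ez⟩ := lift !![1, 0, 0; 0, a, b; 0, -h.τ b, h.τ a] (by
    ext i j
    (revert i j; simp only [Matrix.mul_apply, Fin.sum_univ_three, h.τ_τ, _root_.Fin.forall_fin_succ, _root_.Matrix.transpose_apply, _root_.Matrix.of_apply, _root_.Matrix.cons_val', _root_.Matrix.cons_val_fin_one, _root_.Matrix.map_apply, Fin.isValue, _root_.Matrix.cons_val_zero, _root_.Matrix.cons_val_one, _root_.Matrix.cons_val, _root_.map_one, _root_.mul_one, _root_.map_zero, _root_.MulZeroClass.mul_zero, _root_.add_zero, _root_.Matrix.cons_val_succ, _root_.zero_add, _root_.map_neg, _root_.mul_neg, _root_.IsEmpty.forall_iff, _root_.and_true, _root_.Matrix.one_apply_eq, _root_.MulZeroClass.zero_mul, _root_.neg_zero, Nat.reduceAdd, _root_.Fin.succ_zero_eq_one, _root_.ne_eq, _root_.zero_ne_one, _root_.not_false_eq_true, _root_.Matrix.one_apply_ne, _root_.Fin.succ_one_eq_two, Fin.reduceEq, _root_.and_self, _root_.Fin.succ_ne_zero, _root_.neg_mul,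 _root_.neg_neg, _root_.true_and]) <;> (repeat' with_reducible apply And.intro) <;>
      first | linear_combination hd | ring)
    (by simp only [Matrix.det_fin_three, _root_.Fin.isValue, _root_.Matrix.of_apply, _root_.Matrix.cons_val', _root_.Matrix.cons_val_zero, _root_.Matrix.cons_val_fin_one, _root_.Matrix.cons_val_one, _root_.one_mul, _root_.Matrix.cons_val, _root_.mul_neg, _root_.sub_neg_eq_add, _root_.MulZeroClass.mul_zero, _root_.MulZeroClass.zero_mul, _root_.sub_zero, _root_.add_zero, _root_.neg_zero]; linear_combination hd)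
  refine ⟨_, hx, _, hy, _, hz, fun f hf fx fy fz => ?_⟩
  obtain ⟨L⟩ := exists_SL h (hS hf)
  have key : ∀ u : h.EBˣ, (cj _ u)⁻¹ * f * cj _ u ∈ S → ∃ M' : Matrix (Fin 3) (Fin 3) K, (HesA M' ∨ HesB M') ∧
      piB h c u * M' = (Matrix.of fun m n => c.repr (L.g (c n)) m) * (piB h c u).map (L.σ : K →+* K) := by
    intro u hu
    refine ⟨_, B.hes (H.2.2.2.1 _ hu) (L.σ : K →+* K) (fun v => h.ap (u⁻¹ : h.EBˣ) (L.g (h.ap u v)))
      (fun v hv e => hv ?_) (fun a v => ?_) (fun a v => ?_), ?_⟩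
    · have h1 := congrArg (h.ap u) e
      rw [ap_ap_inv, map_zero, map_eq_zero_iff _ L.g.injective] at h1
      rw [← ap_inv_ap h u v, h1, map_zero]
    · rw [map_smul, L.smul, map_smul]
      rfl
    · rw [← map_inv, ra_mul, ra_mul, cj_apply, inv_inv, h.ap_mul, h.ap_mul, ap_ap_inv, L.conj, ← h.ap_mul (cj _ u a),
        cj_mul_eq, h.ap_mul]
    · ext m n
      have h1 := congrFun (LinearMap.toMatrix_mulVec_repr c c (h.ap u) (h.ap (u⁻¹ : h.EBˣ) (L.g (h.ap u (c n))))) m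
      refine h1.trans ?_
      rw [ap_ap_inv, ap_basis h c, map_sum, map_sum, Finsupp.finsetSum_apply, Matrix.mul_apply]
      refine Finset.sum_congr rfl fun l _ => ?_
      rw [L.smul, map_smul, Finsupp.smul_apply, smul_eq_mul, mul_comm]
      rfl
  obtain ⟨M₁, a₁, e₁⟩ := key x fx
  obtain ⟨M₂, a₂, e₂⟩ := key y fy
  obtain ⟨M₃, a₃, e₃⟩ := key z fz
  rw [ex] at e₁
  rw [ey] at e₂
  rw [ez] at e₃
  obtain ⟨hσ, μ, hμ⟩ := hes_four hB hη3 _ (B.hes (H.2.2.2.1 _ hf) (L.σ : K →+* K) L.g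
    (fun v hv => by simpa using hv) L.smul L.conj) a₁ a₂ a₃ e₁ e₂ e₃
  have h1 : ∀ n, L.g (c n) = μ • c n := fun n => c.repr.injective (Finsupp.ext fun m => by
    have h2 := congrFun (congrFun hμ m) n
    rw [Matrix.of_apply] at h2
    rw [h2]
    simp [Matrix.one_apply, Finsupp.single_apply, eq_comm])
  refine L.eq_one (c := μ) fun v => ?_
  rw [← c.sum_repr v, map_sum, Finset.smul_sum]
  exact Finset.sum_congr rfl fun n _ => by rw [L.smul, h1, show L.σ _ = _ from hσ _, smul_comm]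

theorem rowU3d {K V : Type} [Field K] [Finite K] [AddCommGroup V] [Module K V] [Finite V] (h : HF K V)
    (F : FR h.EB) (S Y : Subgroup (RingAut h.EB)) (hU : Cl.IsU h) (hV : finrank K V = 3) (hK : Nat.card K ≠ 4)
    (H : Cl.Ctx F S) (hE : Cl.ExtD F S Y 3) (hc : Nat.card Y = 9) : Good F.S S :=
  good_of_four H le_rfl (four_U3d hU hV hK (H.le.trans F.Aut_le_SAut) hE hc)

end Cfsg.Agent.SB.Tor
end
end

-- part: SB/C2/Fix
section
set_option linter.all false
open scoped Cfsg.Agent.FastGrp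

-- part: SB/C2/Solv
section
/-!
# The form rings with a solvable isometry group (helper56)

`solv` : the list, in terms of the degree `n`, the order `c` of the centre and the action of `star` on the centre;
`solv_sub` : the same for a star-closed subring; `nc2` : symmetric idempotents or non-commuting unitary elements.
-/

set_option autoImplicit false

namespace Cfsg.Agent.SB.C2

open Cfsg Cfsg.Agent.DS.Cl Cfsg.Agent.DS.Cl.P5 Cfsg.Agent.DS.Cl.NCTV Module

/-- the list of solvable cases -/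
def Cs (n c : ℕ) (nt o2 : Prop) : Prop :=
  n = 1 ∨ (n = 2 ∧ ((c ≤ 3 ∧ ¬ nt) ∨ ((c = 4 ∨ c = 9) ∧ nt) ∨ (¬ nt ∧ o2))) ∨
    (n = 3 ∧ ((c = 3 ∧ ¬ nt) ∨ (c = 4 ∧ nt))) ∨ (n = 4 ∧ c ≤ 3 ∧ ¬ nt)

theorem Cs.imp {n c : ℕ} {nt o2 nt' o2' : Prop} (h : Cs n c nt o2) (h1 : nt ↔ nt') (h2 : o2 → o2') :
    Cs n c nt' o2' := by
  unfold Cs at h ⊢
  rw [← h1]
  tauto

variable {A : Type} [Ring A] [StarRing A]

theorem card_end (K V : Type) [Field K] [Finite K] [AddCommGroup V] [Module K V] [Module.Finite K V] :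
    Nat.card (End K V) = Nat.card K ^ (finrank K V ^ 2) := by
  rw [Module.natCard_eq_pow_finrank (K := K), Module.finrank_linearMap, sq]

omit [StarRing A] in
theorem card_center {K V : Type} [Field K] [AddCommGroup V] [Module K V] [Nontrivial V] (e : A ≃+* End K V) :
    Nat.card (Subring.center A) = Nat.card K := by
  refine (Nat.card_congr (Equiv.ofBijective (fun c : K => (⟨_, cen_smul e c⟩ : Subring.center A)) ⟨?_, ?_⟩)).symm
  · intro c d h
    exact H277.FC.smul_one_inj (e.symm.injective (congrArg Subtype.val h))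
  · intro z
    obtain ⟨c, hc⟩ := exists_smul e z.2
    exact ⟨c, Subtype.ext hc.symm⟩

theorem end_comm {K V : Type} [Field K] [AddCommGroup V] [Module K V] {v : V} (h : ∀ z : V, ∃ t : K, z = t • v)
    (a b : End K V) : a * b = b * a := by
  ext z
  obtain ⟨t, rfl⟩ := h z
  obtain ⟨t1, h5⟩ := h (a v)
  obtain ⟨t2, h6⟩ := h (b v)
  simp only [Module.End.mul_apply, map_smul]
  rw [h6, map_smul, h5, map_smul, h6, smul_smul, smul_smul, smul_smul, smul_smul, mul_right_comm]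

section form

variable {K V : Type} [Field K] [AddCommGroup V] [Module K V] {σ : K →+* K} {b : V →ₛₗ[σ] V →ₗ[K] K}
  (hb : b.SeparatingLeft) {ε : K} (hε : ε ≠ 0) (hs : ∀ v w, σ (b v w) = ε * b w v) (e : A ≃+* End K V)
  (hadj : ∀ a v w, b (e a v) w = b v (e (star a) w))
include hb hε hs hadj

theorem exists_proj (hA : ∃ a b : A, a * b ≠ b * a) {v : V} (hv : b v v ≠ 0) :
    ∃ f : A, star f = f ∧ f * f = f ∧ f ∉ Subring.center A := by
  have hv0 : v ≠ 0 := by
    rintro rfl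
    exact hv (by simp)
  refine ⟨e.symm (rk b (b v v)⁻¹ v), ?_, ?_, fun h => ?_⟩
  · rw [star_rk hb hε hs e hadj, map_inv₀, hs, mul_inv, mul_right_comm, inv_mul_cancel₀ hε, one_mul]
  · have h1 := rk_mul b (b v v)⁻¹ (b v v)⁻¹ v 1
    rw [mul_one, End.one_apply, mul_assoc, inv_mul_cancel₀ hv, mul_one] at h1
    rw [← map_mul, h1]
  · obtain ⟨x, y, hxy⟩ := hA
    exact hxy (comm_of_rk hb e (inv_ne_zero hv) hv0 h x y)

theorem nc2_form [Nontrivial V] (hA : ∃ a b : A, a * b ≠ b * a) :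
    (∃ f : A, star f = f ∧ f * f = f ∧ f ∉ Subring.center A) ∨
      ∃ u v : A, u * star u = 1 ∧ v * star v = 1 ∧ u * v ≠ v * u := by
  by_cases h : ∃ v, b v v ≠ 0
  · obtain ⟨v, hv⟩ := h
    exact Or.inl (exists_proj hb hε hs e hadj hA hv)
  push Not at h
  obtain ⟨v, hv⟩ := exists_ne (0 : V)
  obtain ⟨w, hw⟩ : ∃ w, b v w ≠ 0 := by
    by_contra hc
    push Not at hc
    exact hv (hb v hc)
  have h1 : b w v = -b v w := by
    have h2 := NCTV.polar (b := b) (x := 1) h v w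
    rw [End.one_apply, End.one_apply] at h2
    linear_combination h2
  have h2 : σ (b v w)⁻¹ * ε = -(b v w)⁻¹ := by
    rw [map_inv₀, hs, h1]
    field_simp
  have h3 : ∀ x, (1 + e.symm (rk b (b v w)⁻¹ x)) * star (1 + e.symm (rk b (b v w)⁻¹ x)) = 1 := by
    intro x
    have h4 := rk_mul b (b v w)⁻¹ (b v w)⁻¹ x 1
    rw [mul_one, End.one_apply, h, mul_zero] at h4
    have h5 : rk b (-(b v w)⁻¹) x = -rk b (b v w)⁻¹ x := by rw [rk, rk, neg_smul]
    have h6 : rk b 0 x = 0 := by rw [rk, zero_smul]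
    rw [star_add, star_one, star_rk hb hε hs e hadj, h2, h5, map_neg, ← sub_eq_add_neg, mul_sub, mul_one, add_mul,
      one_mul, ← map_mul, h4, h6, map_zero, add_zero, add_sub_cancel_right]
  refine Or.inr ⟨_, _, h3 v, h3 w, fun h4 => ?_⟩
  have h5 := congrArg (fun z => e z w) h4
  simp only [map_mul, map_add, map_one, e.apply_symm_apply, End.mul_apply, LinearMap.add_apply, End.one_apply,
    rk_apply, h, mul_zero, zero_smul, add_zero, inv_mul_cancel₀ hw, one_smul, h1] at h5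
  rw [mul_neg, inv_mul_cancel₀ hw, neg_smul, one_smul, add_right_inj, left_eq_add, neg_eq_zero] at h5
  rw [h5, map_zero] at hw
  exact hw rfl

end form

section L

variable {K V : Type} [Field K] [AddCommGroup V] [Module K V] {π : A →+* End K V}
  (hπ : Function.Bijective fun a => (π a, π (star a)))
include hπ

theorem L_inj {a a' : A} (h1 : π a = π a') (h2 : π (star a) = π (star a')) : a = a' := hπ.1 (Prod.ext h1 h2)

theorem L_surj (x y : End K V) : ∃ a, π a = x ∧ π (star a) = y := by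
  obtain ⟨a, ha⟩ := hπ.2 (x, y)
  exact ⟨a, congrArg Prod.fst ha, congrArg Prod.snd ha⟩

theorem L_cen {a : A} {c d : K} (h1 : π a = c • 1) (h2 : π (star a) = d • 1) : a ∈ Subring.center A :=
  Subring.mem_center_iff.2 fun x => L_inj hπ (by simp [h1]) (by simp [h2])

theorem L_scal [Nontrivial V] {z : A} (hz : z ∈ Subring.center A) : ∃ c : K, π z = c • 1 := by
  refine exists_smul (RingEquiv.refl (End K V)) (Subring.mem_center_iff.2 fun x => ?_)
  obtain ⟨a, rfl, -⟩ := L_surj hπ x 0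
  rw [← map_mul, ← map_mul, cen_comm hz]

theorem L_card_center [Nontrivial V] : Nat.card (Subring.center A) = Nat.card K ^ 2 := by
  choose g h1 h2 using fun x : K × K => L_surj hπ (x.1 • 1) (x.2 • 1)
  rw [sq, ← Nat.card_prod]
  refine (Nat.card_congr (Equiv.ofBijective (fun x => (⟨g x, L_cen hπ (h1 x) (h2 x)⟩ : Subring.center A))
    ⟨fun x y h => ?_, fun z => ?_⟩)).symm
  · have h3 : g x = g y := congrArg Subtype.val h
    refine Prod.ext (H277.FC.smul_one_inj (V := V) ?_) (H277.FC.smul_one_inj (V := V) ?_)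
    · rw [← h1, ← h1, h3]
    · rw [← h2, ← h2, h3]
  · obtain ⟨c, hc⟩ := L_scal hπ z.2
    obtain ⟨d, hd⟩ := L_scal hπ (star_cen z.2)
    exact ⟨(c, d), Subtype.ext (L_inj hπ ((h1 _).trans hc.symm) ((h2 _).trans hd.symm))⟩

theorem L_card : Nat.card A = Nat.card (End K V) ^ 2 := by
  rw [sq, ← Nat.card_prod]
  exact Nat.card_congr (Equiv.ofBijective _ hπ)

theorem L_eps : ∃ ε : A, Eps ε ∧ π ε = 1 ∧ π (star ε) = 0 := by
  obtain ⟨ε, h1, h2⟩ := L_surj hπ 1 0
  refine ⟨ε, ⟨Subring.mem_center_iff.2 fun a => L_inj hπ ?_ ?_, L_inj hπ ?_ ?_, L_inj hπ ?_ ?_⟩, h1, h2⟩ <;>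
    simp [h1, h2]

end L

/-- symmetric idempotents or non-commuting unitary elements -/
theorem nc2 [Finite A] (h : SS A) (hA : ∃ a b : A, a * b ≠ b * a) :
    (∃ f : A, star f = f ∧ f * f = f ∧ f ∉ Subring.center A) ∨
      ∃ u v : A, u * star u = 1 ∧ v * star v = 1 ∧ u * v ≠ v * u := by
  rcases exists_model h with ⟨K, _, _, n, π, hn, hπ⟩ | ⟨K, _, _, n, e, σ, b, hn, -, -, hs, hb, hadj⟩ |
    ⟨K, _, _, n, e, b, hn, hs, hb, hadj⟩
  · have : Nonempty (Fin n) := ⟨⟨0, hn⟩⟩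
    obtain ⟨v, hv⟩ := exists_ne (0 : Fin n → K)
    obtain ⟨φ, hφ⟩ := Module.Projective.exists_dual_eq_one K hv
    obtain ⟨f, h1, h2⟩ := L_surj hπ (φ.smulRight v) (φ.smulRight v)
    have h3 : star f = f := L_inj hπ (h2.trans h1.symm) (by rw [star_star, h1, h2])
    have h4 : π (f * f) = π f := by
      rw [map_mul, h1]
      refine LinearMap.ext fun x => ?_
      rw [End.mul_apply, LinearMap.smulRight_apply, LinearMap.smulRight_apply, map_smul, hφ, smul_eq_mul, mul_one]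
    refine Or.inl ⟨f, h3, L_inj hπ h4 (by rw [star_mul, h3, h4]), fun h5 => ?_⟩
    obtain ⟨c, hc⟩ := L_scal hπ h5
    have h6 : ∀ z, φ z • v = c • z := fun z => LinearMap.congr_fun (h1.symm.trans hc) z
    have h7 : c = 1 := by
      have h8 := h6 v
      rw [hφ] at h8
      exact (smul_left_injective K hv h8).symm
    have h8 := end_comm (K := K) (v := v) fun z => ⟨φ z, by rw [h6, h7, one_smul]⟩
    obtain ⟨x, y, hxy⟩ := hA
    exact hxy (L_inj hπ (by rw [map_mul, map_mul, h8]) (by rw [star_mul, star_mul, map_mul, map_mul, h8]))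
  · have : Nonempty (Fin n) := ⟨⟨0, hn⟩⟩
    exact nc2_form hb one_ne_zero (fun v w => by rw [one_mul, hs.eq]) e hadj hA
  · have : Nonempty (Fin n) := ⟨⟨0, hn⟩⟩
    rcases hs with hs | hs
    · exact nc2_form (σ := RingHom.id K) hb one_ne_zero (fun v w => by rw [one_mul, hs]; rfl) e hadj hA
    · exact nc2_form (σ := RingHom.id K) hb (neg_ne_zero.2 one_ne_zero) (fun v w => by rw [hs w v]; simp) e hadj hA

variable [Finite A]

/-- the statement of the list for a form ring -/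
def SolvL (F : FR A) : Prop :=
  ∃ n, Nat.card A = Nat.card (Subring.center A) ^ (n ^ 2) ∧ Cs n (Nat.card (Subring.center A))
    (∃ z ∈ Subring.center A, star z ≠ z) (F.L ≠ Lmax A ∨ ∃ x, x + star x ∉ Subring.center A)

theorem solv_L (F : FR A) (hM : ModL A) (hs : Group.IsSolvable F.Iso) : SolvL F := by
  obtain ⟨K, _, _, n, π, hn, hπ⟩ := hM
  have : Nonempty (Fin n) := ⟨⟨0, hn⟩⟩
  obtain ⟨ε, hE, h1, h2⟩ := L_eps hπ
  have hL := F.L_eq hE.cen hE.add
  let f : F.Iso →* (End K (Fin n → K))ˣ := (Units.map (π : A →* End K (Fin n → K))).comp F.Iso.subtype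
  have hf : Function.Surjective f := by
    intro x
    obtain ⟨u, h3, h4⟩ := L_surj hπ (x : End K (Fin n → K)) (x⁻¹ : (End K (Fin n → K))ˣ)
    have h5 : u * star u = 1 := L_inj hπ (by simp [h3, h4]) (by simp [h3, h4])
    exact ⟨⟨mkU u h5, mem_Iso_of_max hL h5⟩, Units.ext h3⟩
  have h3 := solv_lin (solv_of_equiv (LinearMap.GeneralLinearGroup.generalLinearEquiv K (Fin n → K)).symm
    (Group.isSolvable_of_surjective hf))
  rw [Module.finrank_fin_fun] at h3
  have hnt : ∃ z ∈ Subring.center A, star z ≠ z := ⟨ε, hE.cen, fun h4 => by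
    rw [h4, h1] at h2
    exact one_ne_zero h2⟩
  refine ⟨n, ?_, ?_⟩
  · rw [L_card hπ, L_card_center hπ, card_end, Module.finrank_fin_fun, ← pow_mul, ← pow_mul, mul_comm]
  · rw [L_card_center hπ, Nat.card_eq_fintype_card]
    rcases h3 with h3 | ⟨h3, h4⟩
    · exact Or.inl (by omega)
    · refine Or.inr (Or.inl ⟨h3, Or.inr (Or.inl ⟨?_, hnt⟩)⟩)
      rcases Vec.card_cases K with h5 | h5 | h5
      · exact Or.inl (by rw [h5]; rfl)
      · exact Or.inr (by rw [h5]; rfl)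
      · omega

theorem solv_U (F : FR A) (hM : ModU A) (hs : Group.IsSolvable F.Iso) : SolvL F := by
  obtain ⟨K, _, _, n, e, σ, b, hn, hσ, hσ2, hb, hsp, hadj⟩ := hM
  have : Nonempty (Fin n) := ⟨⟨0, hn⟩⟩
  have hr : ∀ x, (∀ v, b v x = 0) → x = 0 := fun x hx => hsp x fun v => by rw [← hb.eq, hx, map_zero]
  have hst := star_smul_one hr hadj
  have hL : F.L = Lmax A := by
    obtain ⟨c, hc⟩ := ClassicalGeometry.InvolutiveNorm.exists_add_sigma_eq hσ hσ2 (map_one σ)
    refine F.L_eq (cen_smul e c) ?_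
    rw [hst, ← map_add, ← add_smul, hc, one_smul, map_one]
  obtain ⟨φ⟩ := equiv_of e (U := F.Iso) (X := Vec.Isom K fun v w => b v w) fun u =>
    ⟨fun hu => (unitary_iff hr hadj u).1 hu.1, fun hu => mem_Iso_of_max hL ((unitary_iff hr hadj u).2 hu)⟩
  have h3 := solv_herm hσ hσ2 b hb hsp (solv_of_equiv φ hs)
  rw [Module.finrank_fin_fun] at h3
  have hnt : ∃ z ∈ Subring.center A, star z ≠ z := by
    obtain ⟨y, hy⟩ := ClassicalGeometry.InvolutiveNorm.exists_sigma_ne hσ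
    exact ⟨_, cen_smul e y, fun h4 => hy (H277.FC.smul_one_inj (e.symm.injective ((hst y).symm.trans h4)))⟩
  refine ⟨n, ?_, ?_⟩
  · rw [Nat.card_congr e.toEquiv, card_center e, card_end, Module.finrank_fin_fun]
  · rw [card_center e, Nat.card_eq_fintype_card]
    rcases h3 with h3 | ⟨h3, h4⟩ | ⟨h3, h4⟩
    · exact Or.inl (by omega)
    · exact Or.inr (Or.inl ⟨h3, Or.inr (Or.inl ⟨h4, hnt⟩)⟩)
    · exact Or.inr (Or.inr (Or.inl ⟨h3, Or.inr ⟨h4, hnt⟩⟩))

omit [Finite A] in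
theorem iso_O {K V : Type} [Field K] [AddCommGroup V] [Module K V] [FiniteDimensional K V] [Finite A]
    {b : LinearMap.BilinForm K V} {e : A ≃+* End K V} (hs : b.SeparatingLeft) (hb : ∀ v w, b w v = b v w)
    (hadj : ∀ a v w, b (e a v) w = b v (e (star a) w)) (F : FR A) (hL : F.L = Lmin A) :
    ∃ Q : QuadraticForm K V, LieClassical.OrthCore.Nondeg Q ∧ Nonempty (LieClassical.OrthCore.O Q ≃* F.Iso) := by
  have hr : ∀ x, (∀ v, b v x = 0) → x = 0 := fun x hx => hs x fun v => by rw [hb, hx]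
  let Q : QuadraticForm K V := LinearMap.BilinMap.toQuadraticMap (b.compl₂ (e F.l))
  have hQ : ∀ v, Q v = b v (e F.l v) := fun _ => rfl
  have hpol : ∀ v w, QuadraticMap.polar Q v w = b v w := by
    intro v w
    rw [LinearMap.BilinMap.polar_toQuadraticMap, LinearMap.compl₂_apply, LinearMap.compl₂_apply, hb (e F.l v), hadj,
      ← map_add, ← LinearMap.add_apply, ← map_add, F.l_add, map_one, End.one_apply]
  have hmin : ∀ x, x ∈ Lmin A ↔ ∀ v, b v (e x v) = 0 := by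
    intro x
    constructor
    · rintro ⟨a, rfl⟩ v
      rw [map_sub, LinearMap.sub_apply, map_sub, ← hadj, hb, sub_self]
    · intro hx
      obtain ⟨β, hβ⟩ := Fwd.exists_half (b.compl₂ (e x)) hx
      have hnd : b.Nondegenerate := ⟨hs, hr⟩
      obtain ⟨a, ha⟩ := e.surjective ((b.toDual hnd).symm.toLinearMap.comp β.flip)
      have ha' : ∀ v w, b (e a w) v = β v w := fun v w => by
        rw [ha]
        exact LinearMap.BilinForm.apply_toDual_symm_apply (hB := hnd) (β.flip w) v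
      refine ⟨a, e.injective (LinearMap.ext fun w => ?_)⟩
      rw [← sub_eq_zero]
      refine hr _ fun v => ?_
      rw [map_sub, map_sub, LinearMap.sub_apply, map_sub, ← hadj, ha', hb (e a w), ha', hβ, LinearMap.compl₂_apply,
        sub_self]
  have hQu : ∀ (u : A) v, b v (e (u * F.l * star u - F.l) v) = Q (e (star u) v) - Q v := by
    intro u v
    rw [hQ, hQ, hadj, star_star, map_sub, LinearMap.sub_apply, map_sub, map_mul, map_mul]
    rfl
  refine ⟨Q, fun x hx => hs x fun y => by rw [← hpol, hx], equiv_of e fun u => ?_⟩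
  rw [LieClassical.OrthCore.mem_O]
  constructor
  · intro hu v
    have h1 := hu.2
    rw [hL, hmin] at h1
    have h2 := h1 (e u v)
    rw [hQu, ← End.mul_apply, ← map_mul, FR.Iso.sm hu, map_one, End.one_apply, sub_eq_zero] at h2
    exact h2.symm
  · intro hu
    have h1 : (u : A) * star (u : A) = 1 := (unitary_iff hr hadj u).2 fun v w =>
      (hpol _ _).symm.trans ((LieClassical.OrthCore.polar_map hu v w).trans (hpol v w))
    refine ⟨h1, ?_⟩
    rw [hL, hmin]
    intro v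
    rw [hQu, ← hu, toLE_apply, ← End.mul_apply, ← map_mul, h1, map_one, End.one_apply, sub_self]

theorem solv_B (F : FR A) (hM : ModB A) (hsv : Group.IsSolvable F.Iso) : SolvL F := by
  obtain ⟨K, _, _, n, e, b, hn, hb, hs, hadj⟩ := hM
  have : Nonempty (Fin n) := ⟨⟨0, hn⟩⟩
  have hr : ∀ x, (∀ v, b v x = 0) → x = 0 := fun x hx => hs x fun v => by
    rcases hb with hb | hb
    · rw [hb, hx]
    · rw [hb, hx, neg_zero]
  have hst := star_smul_one hr hadj
  have hnt : ¬ ∃ z ∈ Subring.center A, star z ≠ z := by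
    rintro ⟨z, hz, h1⟩
    obtain ⟨c, rfl⟩ := exists_smul e hz
    exact h1 (hst c)
  refine ⟨n, by rw [Nat.card_congr e.toEquiv, card_center e, card_end, Module.finrank_fin_fun], ?_⟩
  rw [card_center e, Nat.card_eq_fintype_card]
  have hS : F.L = Lmax A → b.IsAlt → ∀ o2, Cs n (Fintype.card K) (∃ z ∈ Subring.center A, star z ≠ z) o2 := by
    intro hL ha o2
    obtain ⟨φ⟩ := equiv_of e (U := F.Iso) (X := Vec.Isom K fun v w => b v w) fun u =>
      ⟨fun hu => (unitary_iff hr hadj u).1 hu.1, fun hu => mem_Iso_of_max hL ((unitary_iff hr hadj u).2 hu)⟩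
    have h1 := solv_alt b ha hs (solv_of_equiv φ hsv)
    rw [Module.finrank_fin_fun] at h1
    rcases h1 with h1 | ⟨h1, h2⟩
    · omega
    · exact Or.inr (Or.inl ⟨h1, Or.inl ⟨h2, hnt⟩⟩)
  have hO : F.L = Lmin A → (∀ v w, b w v = b v w) → ∀ o2 : Prop, (n = 2 → o2) →
      Cs n (Fintype.card K) (∃ z ∈ Subring.center A, star z ≠ z) o2 := by
    intro hL hb o2 ho
    obtain ⟨Q, hQ, ⟨φ⟩⟩ := iso_O hs hb hadj F hL
    have h1 := solv_O Q hQ (solv_of_equiv φ hsv)
    rw [Module.finrank_fin_fun] at h1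
    rcases h1 with h1 | ⟨h1, h2⟩ | ⟨h1, h2, -⟩
    · by_cases h2 : n = 2
      · exact Or.inr (Or.inl ⟨h2, Or.inr (Or.inr ⟨hnt, ho h2⟩)⟩)
      · exact Or.inl (by omega)
    · exact Or.inr (Or.inr (Or.inl ⟨h1, Or.inl ⟨h2, hnt⟩⟩))
    · exact Or.inr (Or.inr (Or.inr ⟨h1, h2, hnt⟩))
  by_cases h2 : (2 : K) = 0
  · have hb' : ∀ v w, b w v = b v w := by
      rcases hb with hb | hb
      · exact hb
      · intro v w
        linear_combination hb v w - b v w * h2
    by_cases hL : F.L = Lmax A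
    · refine hS hL (fun v => ?_) _
      have h3 : b v v = b v (e (F.l + star F.l) v) := by rw [F.l_add, map_one, End.one_apply]
      rw [map_add, LinearMap.add_apply, map_add, ← hadj, hb' (e F.l v)] at h3
      linear_combination h3 + b (e F.l v) v * h2
    · exact hO (F.par.resolve_right hL) hb' _ fun _ => Or.inl hL
  · have h3 : e.symm ((2 : K)⁻¹ • 1) + star (e.symm ((2 : K)⁻¹ • 1)) = 1 := by
      rw [hst, RingHom.id_apply, ← map_add, ← add_smul, ← two_mul, mul_inv_cancel₀ h2, one_smul, map_one]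
    have hL := F.L_eq (cen_smul e _) h3
    by_cases ha : b.IsAlt
    · exact hS hL ha _
    obtain ⟨v, hv⟩ : ∃ v, b v v ≠ 0 := not_forall.1 ha
    have hb' : ∀ v w, b w v = b v w := by
      refine hb.resolve_right fun hb => hv ?_
      have h4 : 2 * b v v = 0 := by linear_combination hb v v
      exact (mul_eq_zero.1 h4).resolve_left h2
    refine hO (hL.trans (Lmin_eq_Lmax (cen_smul e _) h3).symm) hb' _ fun h4 => Or.inr ?_
    subst h4
    obtain ⟨f, h5, -, h6⟩ := exists_proj (σ := RingHom.id K) hs one_ne_zero (fun v w => by rw [one_mul, hb']; rfl)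
      e hadj ⟨e.symm (Matrix.toLin' (Matrix.single 0 1 1)), e.symm (Matrix.toLin' (Matrix.single 1 0 1)), fun h7 => by
        rw [← map_mul e.symm, ← map_mul e.symm] at h7
        have h8 := congrFun (LinearMap.congr_fun (e.symm.injective h7) (Pi.single 0 1)) 0
        simp [Matrix.single, Matrix.mulVec, dotProduct] at h8⟩ hv
    refine ⟨f, fun h7 => h6 ?_⟩
    have h8 := Subring.mul_mem _ (cen_smul e (2 : K)⁻¹) h7
    rwa [h5, mul_add, ← add_mul, show e.symm ((2 : K)⁻¹ • 1) + e.symm ((2 : K)⁻¹ • 1) = 1 from by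
      rw [← h3, hst]; rfl, one_mul] at h8

/-- **The solvable isometry groups.** -/
theorem solv (h : SS A) (F : FR A) (hs : Group.IsSolvable F.Iso) : SolvL F := by
  rcases exists_model h with hM | hM | hM
  · exact solv_L F hM hs
  · exact solv_U F hM hs
  · exact solv_B F hM hs

/-- the list for a star-closed subring -/
theorem solv_sub (F : FR A) {B : Subring A} {hs : ∀ x ∈ B, star x ∈ B} (hB : SS (Blk.ofSubring B hs).T) {l : A}
    (hl : l ∈ B) (h1 : l + star l = 1) (h2 : l - F.l ∈ F.L) {U : Subgroup Aˣ} (hU : Group.IsSolvable U)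
    (hle : ∀ u ∈ F.Iso, (u : A) ∈ B → u ∈ U) :
    ∃ n, Nat.card B = Nat.card (cenOf B) ^ (n ^ 2) ∧ Cs n (Nat.card (cenOf B))
      (∃ z ∈ cenOf B, star z ≠ z) (F.L ≠ Lmax A ∨ ∃ x ∈ B, x + star x ∉ cenOf B) := by
  classical
  let R := (Blk.ofSubring B hs).T
  let v := (Blk.ofSubring B hs).val
  let F' : FR R := ⟨⟨l, hl⟩, if F.L = Lmax A then Lmax R else Lmin R, Subtype.ext h1, by split_ifs <;> simp⟩
  have hL : ∀ x ∈ F'.L, v x ∈ F.L := by
    intro x hx
    by_cases h3 : F.L = Lmax A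
    · rw [h3]
      exact congrArg v (F'.star_eq_neg hx)
    · have h4 : x ∈ Lmin R := by simpa only [F', if_neg h3] using hx
      obtain ⟨a, rfl⟩ := h4
      exact F.sub_star_mem (v a)
  let v' : R →* A := ⟨⟨v, rfl⟩, fun _ _ => rfl⟩
  have h3 : ∀ u : F'.Iso, Units.map v' u ∈ U := by
    intro u
    refine hle _ ⟨congrArg v u.2.1, ?_⟩ (u.1 : R).2
    have h4 : (Units.map v' u : A) * l * star (Units.map v' u : A) - l ∈ F.L := hL _ u.2.2
    have h5 := F.L.add_mem (F.L.sub_mem h4 (F.conj_mem h2 (Units.map v' u : A))) h2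
    convert h5 using 1
    noncomm_ring
  have h4 : Group.IsSolvable F'.Iso := Group.isSolvable_of_isSolvable_injective
    (f := ((Units.map v').comp F'.Iso.subtype).codRestrict U h3) fun a b e =>
      Subtype.ext (Units.ext (Subtype.ext (congrArg Units.val (congrArg Subtype.val e))))
  obtain ⟨n, h5, h6⟩ := solv hB F' h4
  have hc : ∀ x : R, x ∈ Subring.center R ↔ v x ∈ cenOf B := fun x =>
    (Blk.mem_center_iff _).trans ⟨fun h => ⟨x.2, h⟩, fun h => h.2⟩
  have h7 : Nat.card (Subring.center R) = Nat.card (cenOf B) :=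
    Nat.card_congr (Equiv.ofBijective (fun z => ⟨v z.1, (hc _).1 z.2⟩) ⟨fun a b e =>
      Subtype.ext (Subtype.ext (congrArg (fun z : cenOf B => (z : A)) e)), fun z => ⟨⟨⟨z.1, z.2.1⟩, (hc _).2 z.2⟩, rfl⟩⟩)
  rw [h7] at h5 h6
  refine ⟨n, h5, h6.imp ⟨?_, ?_⟩ ?_⟩
  · rintro ⟨z, hz, h8⟩
    exact ⟨v z, (hc _).1 hz, fun e => h8 (Subtype.ext e)⟩
  · rintro ⟨z, hz, h8⟩
    exact ⟨⟨z, hz.1⟩, (hc _).2 hz, fun e => h8 (congrArg v e)⟩
  · rintro (h8 | ⟨x, hx⟩)
    · exact Or.inl fun e => h8 (if_pos e)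
    · exact Or.inr ⟨v x, x.2, fun e => hx ((hc _).2 e)⟩

end Cfsg.Agent.SB.C2
end

-- part: SB/C2/Fix
section
/-!
# Fixed rings of groups of order prime to the characteristic (helper56)
-/

set_option autoImplicit false

namespace Cfsg.Agent.SB.C2

open Cfsg Cfsg.Agent.DS.Cl
open scoped commutatorElement

theorem solv_iff {G : Type*} [Group G] {M : Subgroup G} : Group.IsSolvable M ↔ ∃ k, dS M k = ⊥ := by
  rw [Group.isSolvable_def]
  refine exists_congr fun k => ?_
  rw [← DS.Cl.map_derivedSeries_eq, Subgroup.map_eq_bot_iff_of_injective _ M.subtype_injective]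

variable {A : Type} [Ring A] [StarRing A]

omit [StarRing A] in
theorem solv_of_comm {U : Subgroup Aˣ} {S : Subgroup (RingAut A)} (hS : Group.IsSolvable S)
    (h : (⁅U, U⁆ : Subgroup Aˣ).map (cj A) ≤ S) : Group.IsSolvable U := by
  obtain ⟨k, hk⟩ := solv_iff.1 hS
  refine solv_iff.2 ⟨1 + k + 1, ?_⟩
  have h1 : (dS U (1 + k)).map (cj A) = ⊥ := by
    rw [← dS_add, dS_map, eq_bot_iff, ← hk]
    exact dS_mono h k
  rw [← dS_add]
  refine dS_one_eq_bot fun x _ y hy => units_comm (cj_eq_one_iff.1 ?_) x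
  exact (Subgroup.map_eq_bot_iff _).1 h1 hy

omit [StarRing A] in
/-- the units commuting with a set -/
def CU (W : Set A) : Subgroup Aˣ where
  carrier := {u | ∀ w ∈ W, (u : A) * w = w * u}
  mul_mem' := fun {u v} hu hv w hw => by
    rw [Units.val_mul, mul_assoc, hv w hw, ← mul_assoc, hu w hw, mul_assoc]
  one_mem' := fun w _ => by simp
  inv_mem' := fun {u} hu w hw => by
    rw [Units.inv_mul_eq_iff_eq_mul, ← mul_assoc, hu w hw, Units.mul_inv_cancel_right]

omit [StarRing A] in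
/-- the fixed ring -/
def fixR (G : Subgroup (RingAut A)) : Subring A where
  carrier := {x | ∀ g ∈ G, g x = x}
  mul_mem' := fun ha hb g hg => by rw [map_mul, ha g hg, hb g hg]
  one_mem' := fun g _ => map_one g
  add_mem' := fun ha hb g hg => by rw [map_add, ha g hg, hb g hg]
  zero_mem' := fun g _ => map_zero g
  neg_mem' := fun ha g hg => by rw [map_neg, ha g hg]

theorem star_fixR {G : Subgroup (RingAut A)} (hG : G ≤ SAut A) : ∀ x ∈ fixR G, star x ∈ fixR G :=
  fun x hx g hg => by rw [hG hg, hx g hg]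

omit [StarRing A] in
theorem inv_fixR {G S : Subgroup (RingAut A)} (h : ∀ s ∈ S, ∀ g ∈ G, s * g * s⁻¹ ∈ G) : Inv S (fixR G) := by
  intro s hs x hx g hg
  have h1 := congrArg s (hx _ (h _ (inv_mem hs) g hg))
  rwa [inv_inv, ra_mul, ra_mul, ra_apply_inv] at h1

omit [StarRing A] in
theorem cen_le_fixR {G : Subgroup (RingAut A)} (hG : G ≤ Lin A) : Subring.center A ≤ fixR G :=
  fun x hx _ hg => hG hg x hx

section key

variable [Finite A] {F : FR A} {S : Subgroup (RingAut A)} (h : Cl.Ctx F S)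
include h

theorem key {W : Set A} (hW : Inv S W) (h0 : ¬ W ⊆ Subring.center A) {t : RingAut A} (ht : t ∈ F.S)
    (hf : ∀ x ∈ W, t x = x) : t ∈ S := by
  by_cases h1 : t = 1
  · rw [h1]; exact one_mem _
  exact h.mem_of_inv hW (fun h2 => h0 (h.cen_of_inv h2 ⟨t, ht, h1, hf⟩)) ht fun x hx => by rw [hf x hx]; exact hx

theorem key_comm {W : Set A} (hW : Inv S W) (h0 : ¬ W ⊆ Subring.center A) :
    (⁅F.Iso ⊓ CU W, F.Iso ⊓ CU W⁆ : Subgroup Aˣ).map (cj A) ≤ S ⊓ F.S := by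
  rintro _ ⟨u, hu, rfl⟩
  have h1 : cj A u ∈ F.S := ⟨u, Subgroup.commutator_mono inf_le_left inf_le_left hu, rfl⟩
  refine ⟨key h hW h0 h1 fun x hx => cj_eq_of_mul ?_, h1⟩
  exact (Subgroup.commutator_le_self _ hu).2 x hx

/-- **The centralizer of an invariant non-central set is solvable.** -/
theorem solv_CU {W : Set A} (hW : Inv S W) (h0 : ¬ W ⊆ Subring.center A) : Group.IsSolvable ↥(F.Iso ⊓ CU W) :=
  solv_of_comm h.solv ((key_comm h hW h0).trans inf_le_left)

end key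

/-! ### Averaging -/

theorem exists_natinv [Finite A] (h : SS A) {N : ℕ} (hN : (N : A) ≠ 0) : ∃ m : ℕ, m • N • (1 : A) = 1 := by
  obtain ⟨u, hu⟩ := h.isUnit_of_cen (natCast_mem _ N) (star_natCast N) hN
  refine ⟨N ^ (orderOf u - 1), ?_⟩
  rw [smul_smul, nsmul_one, ← pow_succ, Nat.sub_add_cancel (orderOf_pos u), Nat.cast_pow, ← hu, ← Units.val_pow_eq_pow_val,
    pow_orderOf_eq_one, Units.val_one]

omit [StarRing A] in
/-- the averaging operator -/
def avg (G : Subgroup (RingAut A)) [Fintype G] (m : ℕ) : A →+ A where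
  toFun a := m • ∑ g : G, (g : RingAut A) a
  map_zero' := by simp
  map_add' a b := by simp only [map_add, Finset.sum_add_distrib, smul_add]

section avg

variable {G : Subgroup (RingAut A)} [Fintype G] {m : ℕ}

omit [StarRing A] in
theorem avg_apply (a : A) : avg G m a = m • ∑ g : G, (g : RingAut A) a := rfl

omit [StarRing A] in
theorem avg_mem (a : A) : avg G m a ∈ fixR G := by
  intro g hg
  rw [avg_apply, map_nsmul, map_sum]
  congr 1
  exact Fintype.sum_equiv (Equiv.mulLeft (⟨g, hg⟩ : G)) _ _ fun _ => rfl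

omit [StarRing A] in
theorem avg_inv {g : RingAut A} (hg : g ∈ G) (a : A) : avg G m (g a) = avg G m a := by
  rw [avg_apply, avg_apply]
  congr 1
  exact Fintype.sum_equiv (Equiv.mulRight (⟨g, hg⟩ : G)) _ _ fun _ => rfl

omit [StarRing A] in
theorem avg_left {x : A} (hx : x ∈ fixR G) (a : A) : avg G m (x * a) = x * avg G m a := by
  rw [avg_apply, avg_apply, mul_smul_comm, Finset.mul_sum]
  congr 1
  exact Finset.sum_congr rfl fun g _ => by rw [map_mul, hx g g.2]

omit [StarRing A] in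
theorem avg_right {x : A} (hx : x ∈ fixR G) (a : A) : avg G m (a * x) = avg G m a * x := by
  rw [avg_apply, avg_apply, smul_mul_assoc, Finset.sum_mul]
  congr 1
  exact Finset.sum_congr rfl fun g _ => by rw [map_mul, hx g g.2]

theorem avg_star (hG : G ≤ SAut A) (a : A) : avg G m (star a) = star (avg G m a) := by
  rw [avg_apply, avg_apply, star_nsmul, star_sum]
  congr 1
  exact Finset.sum_congr rfl fun g _ => hG g.2 a

variable (hm : m • Nat.card G • (1 : A) = 1)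
include hm

omit [StarRing A] in
theorem avg_sub (H : AddSubgroup A) {a b : A} (h : ∀ g ∈ G, g a - b ∈ H) : avg G m a - b ∈ H := by
  have h1 : b = m • ∑ _g : G, b := by
    rw [Finset.sum_const, Finset.card_univ, ← Nat.card_eq_fintype_card, ← one_mul b, ← smul_mul_assoc, ← smul_mul_assoc,
      hm]
  rw [avg_apply, h1, ← smul_sub, ← Finset.sum_sub_distrib]
  exact H.nsmul_mem (H.sum_mem fun (g : G) _ => h g g.2) m

omit [StarRing A] in
theorem avg_fix {a : A} (ha : a ∈ fixR G) : avg G m a = a :=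
  sub_eq_zero.1 (avg_sub hm ⊥ fun g hg => by rw [ha g hg, sub_self]; exact zero_mem _)

end avg

variable [Finite A]

/-- **The fixed ring is star-simple** if it has no proper central symmetric idempotents. -/
theorem ss_fix (hA : SS A) {G : Subgroup (RingAut A)} (hG : G ≤ SAut A) (hc : (Nat.card G : A) ≠ 0)
    (hi : ∀ e ∈ cenOf (fixR G), star e = e → e * e = e → e = 0 ∨ e = 1) :
    SS (Blk.ofSubring (fixR G) (star_fixR hG)).T := by
  have := hA.nontrivial
  have := Fintype.ofFinite G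
  obtain ⟨m, hm⟩ := exists_natinv hA hc
  refine Blk.ss_of _ one_ne_zero fun I h1 h2 h3 => ?_
  obtain ⟨e, he, -, h4⟩ := hA.exists_idem (Ideal.span (I : Set A))
  have h5 : ∀ y ∈ Ideal.span (I : Set A), ∀ a, avg G m (a * y) ∈ I := by
    intro y hy
    induction hy using Submodule.span_induction with
    | mem y hy => exact fun a => by rw [avg_right (h1 y hy)]; exact h2 y hy _ (avg_mem a)
    | zero => exact fun a => by rw [mul_zero, map_zero]; exact I.zero_mem
    | add y z _ _ hy hz => exact fun a => by rw [mul_add, map_add]; exact I.add_mem (hy a) (hz a)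
    | smul c y _ hy => exact fun a => by rw [smul_eq_mul, ← mul_assoc]; exact hy _
  have hf : avg G m e ∈ I := by simpa using h5 e he 1
  have h6 : ∀ x ∈ I, x * avg G m e = x := by
    intro x hx
    have h7 : avg G m e - 1 ∈ (AddMonoidHom.mulLeft x).ker := avg_sub hm _ fun g hg => by
      show x * (g e - 1) = 0
      rw [mul_sub, mul_one, ← h1 x hx g hg, ← map_mul, h4 x (Ideal.subset_span hx), sub_self]
    have h8 : x * (avg G m e - 1) = 0 := h7
    rwa [mul_sub, mul_one, sub_eq_zero] at h8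
  generalize avg G m e = f at hf h6
  have h7 : star f = f := by
    have h8 := congrArg star (h6 _ (h3 f hf))
    rw [star_mul, star_star, h6 _ (h3 f hf)] at h8
    exact h8
  have h8 : ∀ b ∈ fixR G, f * b * f = f * b := fun b hb => h6 _ (by
    have h9 := h3 _ (h2 _ hf _ (star_fixR hG b hb))
    rwa [star_mul, star_star, h7] at h9)
  rcases hi f ⟨h1 f hf, fun b hb => by
      have h9 := congrArg star (h8 _ (star_fixR hG b hb))
      simp only [star_mul, star_star, h7] at h9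
      rw [← h9, ← mul_assoc, h8 b hb]⟩ h7 (h6 f hf) with h9 | h9
  · exact Or.inl (eq_bot_iff.2 fun x hx => by rw [← h6 x hx, h9, mul_zero]; exact zero_mem _)
  · exact Or.inr (show (1 : A) ∈ I from h9 ▸ hf)

theorem exists_l (hA : SS A) {F : FR A} {G : Subgroup (RingAut A)} (hG : G ≤ F.Aut) (hc : (Nat.card G : A) ≠ 0) :
    ∃ l ∈ fixR G, l + star l = 1 ∧ l - F.l ∈ F.L := by
  have := Fintype.ofFinite G
  obtain ⟨m, hm⟩ := exists_natinv hA hc
  refine ⟨avg G m F.l, avg_mem _, ?_, avg_sub hm _ fun g hg => (hG hg).2⟩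
  rw [← avg_star (hG.trans F.Aut_le_SAut), ← map_add, F.l_add, avg_fix hm (one_mem _)]

/-! ### Non-degenerate abelian groups -/

omit [Finite A] in
/-- an abelian subgroup of `PI` with non-degenerate commutator form, of order prime to the characteristic -/
structure ND (F : FR A) (Y : Subgroup (RingAut A)) : Prop where
  le : Y ≤ F.PI
  comm : ∀ x ∈ Y, ∀ y ∈ Y, x * y = y * x
  card : (Nat.card Y : A) ≠ 0
  nd : ∀ y ∈ Y, (∀ u ∈ F.Iso, cj A u ∈ Y → y u = u) → y = 1

omit [Finite A] in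
theorem act_lift {F : FR A} {g : RingAut A} (hg : g ∈ F.PI) {u : Aˣ} (hu : u ∈ F.Iso) (hc : g * cj A u = cj A u * g) :
    ∃ c ∈ Subring.center A, c * star c = 1 ∧ g u = c * u := by
  obtain ⟨v, hv, rfl⟩ := hg
  refine ⟨(⁅v, u⁆ : Aˣ), cj_eq_one_iff.1 ?_, FR.Iso.ms (mul_mem (mul_mem (mul_mem hv hu) (inv_mem hv)) (inv_mem hu)), ?_⟩
  · rw [map_commutatorElement, commutatorElement_eq_one_iff_mul_comm, hc]
  · rw [cj_apply, commutatorElement_def]
    simp

namespace ND

variable {F : FR A} {Y : Subgroup (RingAut A)} (hA : SS A) (h : ND F Y)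
include h

omit [Finite A] in
theorem le_Aut : Y ≤ F.Aut := h.le.trans F.PI_le_Aut

omit [Finite A] in
theorem le_SAut : Y ≤ SAut A := h.le_Aut.trans F.Aut_le_SAut

omit [Finite A] in
theorem cen_le : Subring.center A ≤ fixR Y := cen_le_fixR (h.le.trans F.PI_le_Lin)

include hA

omit [Finite A] in
theorem avg_lift [Fintype Y] (m : ℕ) {u : Aˣ} (hu : u ∈ F.Iso) (h1 : cj A u ∈ Y) (h2 : cj A u ≠ 1) :
    avg Y m u = 0 := by
  obtain ⟨v, hv, h3, h4⟩ : ∃ v ∈ F.Iso, cj A v ∈ Y ∧ cj A u v ≠ v := by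
    by_contra hcon
    push Not at hcon
    exact h2 (h.nd _ h1 hcon)
  obtain ⟨c, hc, h5, h6⟩ := act_lift (h.le h3) hu (h.comm _ h3 _ h1)
  have h7 : c ≠ 1 := by
    rintro rfl
    refine h4 (cj_eq_of_mul ?_)
    rw [← cj_mul_eq v u, h6, one_mul]
  have h8 := avg_inv (m := m) h3 u
  rw [h6, avg_left (h.cen_le hc), ← sub_eq_zero, ← sub_one_mul] at h8
  exact (Ext.isUnit_sub_one hA hc h5 h7).mul_right_eq_zero.1 h8

omit [Finite A] in
theorem decomp [Fintype Y] {m : ℕ} (hm : m • Nat.card Y • (1 : A) = 1) {s : Y → Aˣ} (hs : ∀ y, s y ∈ F.Iso)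
    (hs' : ∀ y, cj A (s y) = y) (a : A) : ∑ y, avg Y m (a * ((s y)⁻¹ : Aˣ)) * s y = a := by
  classical
  have h1 : ∀ g : Y, ∑ y, (g : RingAut A) ((s y)⁻¹ : Aˣ) * s y = if g = 1 then Nat.card Y • (1 : A) else 0 := by
    intro g
    split_ifs with h2
    · rw [h2, Nat.card_eq_fintype_card, ← Finset.card_univ, ← Finset.sum_const]
      exact Finset.sum_congr rfl fun y _ => Units.inv_mul _
    obtain ⟨v, hv, h3, h4⟩ : ∃ v ∈ F.Iso, cj A v ∈ Y ∧ g.1 v ≠ v := by
      by_contra hcon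
      push Not at hcon
      exact h2 (Subtype.ext (h.nd _ g.2 hcon))
    have h5 : ∀ u ∈ F.Iso, cj A u ∈ Y → ∃ c ∈ Subring.center A, c * star c = 1 ∧ g.1 (u⁻¹ : Aˣ) * u = c := by
      intro u hu hu'
      obtain ⟨c, hc, h5, h6⟩ := act_lift (h.le g.2) (inv_mem hu) (h.comm _ g.2 _ (by rw [map_inv]; exact inv_mem hu'))
      exact ⟨c, hc, h5, by rw [h6, Units.inv_mul_cancel_right]⟩
    obtain ⟨c, hc, h6, h7⟩ := h5 v hv h3
    have h8 : c ≠ 1 := by
      rintro rfl
      refine h4 ?_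
      rw [← mul_one (g.1 v), ← h7, ← mul_assoc, ← map_mul, Units.mul_inv, map_one, one_mul]
    have h9 : ∑ y, g.1 ((s y)⁻¹ : Aˣ) * s y = c * ∑ y, g.1 ((s y)⁻¹ : Aˣ) * s y := by
      rw [Finset.mul_sum]
      refine (Fintype.sum_equiv (Equiv.mulRight (⟨_, h3⟩ : Y)) _ _ fun y => ?_).symm
      obtain ⟨z, hz, e⟩ := cj_eq_iff.1 ((hs' (y * ⟨_, h3⟩ :)).trans
        (show ((y * ⟨_, h3⟩ : Y) : RingAut A) = cj A (s y * v) by rw [map_mul, hs']; rfl))
      obtain ⟨d, hd, -, h10⟩ := h5 (s y) (hs y) (by rw [hs']; exact y.2)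
      rw [Equiv.coe_mulRight, e, h10, mul_inv_rev, mul_inv_rev, Units.val_mul, Units.val_mul, Units.val_mul,
        Units.val_mul, map_mul, map_mul, F.PI_le_Lin (h.le g.2) _ (inv_cen hz), cen_comm hz, mul_assoc,
        ← mul_assoc _ (z : A), cen_comm hz, mul_assoc, Units.inv_mul_cancel_left, mul_assoc, ← mul_assoc _ (s y : A),
        h10, cen_comm hd, ← mul_assoc, cen_comm hd, mul_assoc, h7]
    rw [eq_comm, ← sub_eq_zero, ← sub_one_mul] at h9
    exact (Ext.isUnit_sub_one hA hc h6 h8).mul_right_eq_zero.1 h9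
  simp only [avg_apply, smul_mul_assoc, Finset.sum_mul, map_mul, mul_assoc]
  rw [← Finset.smul_sum, Finset.sum_comm]
  simp only [← Finset.mul_sum, h1, mul_ite, mul_zero, Finset.sum_ite_eq', Finset.mem_univ, if_true]
  rw [← mul_smul_comm, hm, mul_one]
  rfl

theorem ind {P : A → Prop} (h1 : ∀ x ∈ fixR Y, ∀ u ∈ F.Iso, cj A u ∈ Y → P (x * u))
    (h2 : ∀ a b, P a → P b → P (a + b)) (a : A) : P a := by
  have := Fintype.ofFinite Y
  obtain ⟨m, hm⟩ := exists_natinv hA h.card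
  choose s hs hs' using fun y : Y => h.le y.2
  rw [← h.decomp hA hm hs hs' a]
  refine Finset.sum_induction _ P h2 ?_ fun y _ => h1 _ (avg_mem _) _ (hs y) (by rw [hs']; exact y.2)
  simpa using h1 0 (zero_mem _) 1 (one_mem _) (by rw [map_one]; exact one_mem _)

theorem card_eq : Nat.card A = Nat.card (fixR Y) ^ Nat.card Y := by
  classical
  have := Fintype.ofFinite Y
  obtain ⟨m, hm⟩ := exists_natinv hA h.card
  choose s hs hs' using fun y : Y => h.le y.2
  rw [← Nat.card_fun]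
  refine (Nat.card_congr (Equiv.ofBijective (fun f : Y → fixR Y => ∑ y, (f y : A) * s y)
    ⟨fun f f' e => ?_, fun a => ⟨fun y => ⟨_, avg_mem _⟩, h.decomp hA hm hs hs' a⟩⟩)).symm
  have h1 : ∀ (f : Y → fixR Y) (y₀ : Y), avg Y m ((∑ y, (f y : A) * s y) * ((s y₀)⁻¹ : Aˣ)) = f y₀ := by
    intro f y₀
    rw [Finset.sum_mul, map_sum, Finset.sum_eq_single y₀]
    · rw [Units.mul_inv_cancel_right, avg_fix hm (f y₀).2]
    · intro y _ hy
      rw [mul_assoc, avg_left (f y).2, ← Units.val_mul, h.avg_lift hA m (mul_mem (hs y) (inv_mem (hs y₀))), mul_zero]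
      · rw [map_mul, map_inv, hs', hs']
        exact mul_mem y.2 (inv_mem y₀.2)
      · rw [map_mul, map_inv, hs', hs']
        exact fun e => hy (Subtype.ext (mul_inv_eq_one.1 e))
    · simp
  funext y
  exact Subtype.ext (by rw [← h1, ← h1]; exact congrArg (fun a => avg Y m (a * _)) e)

theorem cen_eq : cenOf (fixR Y) = Subring.center A := by
  refine le_antisymm (fun z hz => Subring.mem_center_iff.2 (h.ind hA (fun x hx u _ hu => ?_) fun a b ha hb => ?_))
    fun z hz => ⟨h.cen_le hz, fun y _ => cen_comm hz y⟩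
  · rw [mul_assoc, ← cj_mul_eq, hz.1 _ hu, ← mul_assoc, hz.2 x hx, mul_assoc]
  · rw [add_mul, mul_add, ha, hb]

theorem ss : SS (Blk.ofSubring (fixR Y) (star_fixR h.le_SAut)).T :=
  ss_fix hA h.le_SAut h.card fun _ he => hA.idem_symm (h.cen_eq hA ▸ he)

/-- the list for the fixed ring -/
theorem solv {n : ℕ} (hn : Nat.card A = Nat.card (Subring.center A) ^ (n ^ 2)) {U : Subgroup Aˣ}
    (hU : Group.IsSolvable U) (hle : ∀ u ∈ F.Iso, (u : A) ∈ fixR Y → u ∈ U) :
    ∃ k, n ^ 2 = k ^ 2 * Nat.card Y ∧ Nat.card (fixR Y) = Nat.card (Subring.center A) ^ (k ^ 2) ∧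
      Cs k (Nat.card (Subring.center A)) (∃ z ∈ Subring.center A, star z ≠ z)
      (F.L ≠ Lmax A ∨ ∃ x ∈ fixR Y, x + star x ∉ Subring.center A) := by
  obtain ⟨l, h1, h2, h3⟩ := exists_l hA h.le_Aut h.card
  obtain ⟨k, h4, h5⟩ := solv_sub F (h.ss hA) h1 h2 h3 hU hle
  rw [h.cen_eq hA] at h4 h5
  refine ⟨k, ?_, h4, h5⟩
  have := hA.nontrivial
  have h6 := h.card_eq hA
  rw [hn, h4, ← pow_mul] at h6
  exact Nat.pow_right_injective Finite.one_lt_card h6

end ND

end Cfsg.Agent.SB.C2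
end
end

-- part: SB/Fr/Ring
section
set_option linter.all false
open scoped Cfsg.Agent.FastGrp

/-!
# S5765, classical groups: minimal invariant frames (helper93)

`MinFr.cases` : a minimal invariant frame has two members, or three or four isometric members.
-/

set_option autoImplicit false

namespace Cfsg.Agent.SB.Fr

open Cfsg Cfsg.Agent.DS.Cl Cfsg.Agent.DS.Cl.Fwd Cfsg.Agent.SB.Cl

variable {A : Type} [Ring A] [StarRing A]

/-- an invariant frame with the least number of members -/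
structure MinFr (S : Subgroup (RingAut A)) (D : Finset A) : Prop where
  fr : Fr D
  inv : Inv S D
  min : ∀ D' : Finset A, Fr D' → Inv S D' → D.card ≤ D'.card

/-- conjugate under the isometry group -/
def Cj (F : FR A) (e f : A) : Prop := ∃ u ∈ F.Iso, cj A u e = f

variable {F : FR A} {S : Subgroup (RingAut A)} {D : Finset A}

theorem exists_minFr (h : ∃ D : Finset A, Fr D ∧ Inv S D) : ∃ D, MinFr S D := by
  classical
  have h1 : ∃ n, ∃ D : Finset A, Fr D ∧ Inv S D ∧ D.card = n := by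
    obtain ⟨D, h1, h2⟩ := h
    exact ⟨_, D, h1, h2, rfl⟩
  obtain ⟨D, h2, h3, h4⟩ := Nat.find_spec h1
  exact ⟨D, h2, h3, fun D' a b => h4 ▸ Nat.find_min' h1 ⟨D', a, b, rfl⟩⟩

theorem Cj.refl (e : A) : Cj F e e := ⟨1, one_mem _, by rw [map_one, ra_one]⟩

theorem Cj.symm {e f : A} (h : Cj F e f) : Cj F f e := by
  obtain ⟨u, hu, rfl⟩ := h
  exact ⟨u⁻¹, inv_mem hu, by rw [map_inv, ra_inv_apply]⟩

theorem Cj.trans {e f g : A} (h : Cj F e f) (h' : Cj F f g) : Cj F e g := by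
  obtain ⟨u, hu, rfl⟩ := h
  obtain ⟨v, hv, rfl⟩ := h'
  exact ⟨v * u, mul_mem hv hu, by rw [map_mul, ra_mul]⟩

theorem Cj.map {e f : A} (h : Cj F e f) {γ : RingAut A} (hγ : γ ∈ F.Aut) : Cj F (γ e) (γ f) := by
  obtain ⟨u, hu, rfl⟩ := h
  exact ⟨um γ u, F.um_mem_Iso hγ hu, by rw [← conj_cj, ra_mul, ra_mul, ra_inv_apply]⟩

/-- an invariant partition of a minimal frame is trivial -/
theorem MinFr.part (h : MinFr S D) {ι : Type} (c : A → ι)
    (hc : ∀ γ ∈ S, ∀ e ∈ D, ∀ f ∈ D, c e = c f → c (γ e) = c (γ f)) :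
    (∀ e ∈ D, ∀ f ∈ D, c e = c f) ∨ Set.InjOn c D := by
  classical
  by_cases h0 : ∀ e ∈ D, ∀ f ∈ D, c e = c f
  · exact Or.inl h0
  right
  push Not at h0
  obtain ⟨e₀, he₀, f₀, hf₀, h0⟩ := h0
  have hD := h.fr
  let σ : A → A := fun e => ∑ f ∈ D.filter fun f => c f = c e, f
  have h1 : ∀ e ∈ D, ∀ f, e * σ f = if c e = c f then e else 0 := by
    intro e he f
    rw [Finset.mul_sum]
    split_ifs with h1
    · rw [Finset.sum_eq_single e (fun y hy hye => hD.orth e he y (Finset.mem_filter.1 hy).1 hye.symm)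
        (fun h2 => absurd (Finset.mem_filter.2 ⟨he, h1⟩) h2), hD.idem e he]
    · exact Finset.sum_eq_zero fun y hy => hD.orth e he y (Finset.mem_filter.1 hy).1 fun h2 =>
        h1 (h2 ▸ (Finset.mem_filter.1 hy).2)
  have h2 : ∀ e f, σ e * σ f = if c e = c f then σ e else 0 := by
    intro e f
    rw [Finset.sum_mul]
    split_ifs with h2
    · exact Finset.sum_congr rfl fun y hy => by
        rw [h1 y (Finset.mem_filter.1 hy).1, if_pos ((Finset.mem_filter.1 hy).2.trans h2)]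
    · exact Finset.sum_eq_zero fun y hy => by
        rw [h1 y (Finset.mem_filter.1 hy).1, if_neg fun h3 => h2 ((Finset.mem_filter.1 hy).2.symm.trans h3)]
  have h3 : ∀ e f, c e = c f → σ e = σ f := fun e f hef => by simp only [σ, hef]
  have h4 : ∀ e ∈ D, ∀ f, σ e = σ f → c e = c f := fun e he f hef => by
    by_contra h4
    have h5 := h1 e he e
    rw [if_pos rfl, hef, h1 e he f, if_neg h4] at h5
    exact hD.ne e he h5.symm
  have h5 : Fr (D.image σ) := by
    refine ⟨Finset.one_lt_card.2 ⟨_, Finset.mem_image_of_mem σ he₀, _, Finset.mem_image_of_mem σ hf₀,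
      fun h5 => h0 (h4 _ he₀ _ h5)⟩, ?_, ?_, ?_, ?_, ?_⟩
    · intro x hx h5
      obtain ⟨e, he, rfl⟩ := Finset.mem_image.1 hx
      have h6 := h1 e he e
      rw [if_pos rfl, h5, mul_zero] at h6
      exact hD.ne e he h6.symm
    · intro x hx
      obtain ⟨e, -, rfl⟩ := Finset.mem_image.1 hx
      rw [h2, if_pos rfl]
    · intro x hx
      obtain ⟨e, -, rfl⟩ := Finset.mem_image.1 hx
      rw [star_sum]
      exact Finset.sum_congr rfl fun y hy => hD.symm y (Finset.mem_filter.1 hy).1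
    · intro x hx y hy hxy
      obtain ⟨e, -, rfl⟩ := Finset.mem_image.1 hx
      obtain ⟨f, -, rfl⟩ := Finset.mem_image.1 hy
      rw [h2, if_neg fun h5 => hxy (h3 _ _ h5)]
    · rw [← one_mul (∑ e ∈ D.image σ, e), ← hD.sum, Finset.sum_mul]
      refine Finset.sum_congr rfl fun e he => ?_
      rw [Finset.mul_sum, Finset.sum_eq_single (σ e) (fun x hx hxe => ?_)
        (fun h5 => absurd (Finset.mem_image_of_mem σ he) h5), h1 e he, if_pos rfl]
      obtain ⟨f, -, rfl⟩ := Finset.mem_image.1 hx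
      rw [h1 e he, if_neg fun h5 => hxe (h3 _ _ h5).symm]
  have h6 : Inv S (D.image σ) := by
    intro γ hγ x hx
    obtain ⟨e, he, rfl⟩ := Finset.mem_image.1 hx
    refine Finset.mem_image.2 ⟨γ e, h.inv γ hγ e he, ?_⟩
    rw [map_sum]
    refine (Finset.sum_equiv γ.toEquiv (fun f => ?_) fun _ _ => rfl).symm
    rw [Finset.mem_filter, Finset.mem_filter]
    refine ⟨fun h6 => ⟨h.inv γ hγ f h6.1, hc γ hγ f h6.1 e he h6.2⟩, fun h6 => ?_⟩
    have h7 := h.inv _ (inv_mem hγ) _ h6.1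
    have h8 := hc _ (inv_mem hγ) _ h6.1 _ (h.inv γ hγ e he) h6.2
    change γ⁻¹ (γ f) ∈ _ at h7
    change c (γ⁻¹ (γ f)) = _ at h8
    rw [ra_inv_apply] at h7 h8
    rw [ra_inv_apply] at h8
    exact ⟨h7, h8⟩
  have h7 : Set.InjOn σ D := Finset.card_image_iff.1 (le_antisymm Finset.card_image_le (h.min _ h5 h6))
  exact fun e he f hf hef => h7 he hf (h3 e f hef)

variable [Finite A]

/-- the simple group does not preserve a frame -/
theorem not_inv (h : Cl.Ctx F S) (hD : Fr D) : ¬ Inv F.S D := by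
  intro hI
  obtain ⟨M, -, hM⟩ := Finite.exists_le_maximal (p := fun M : Subgroup (RingAut A) => M ≤ F.Aut ∧ ¬ F.S ≤ M)
    ⟨h.le, h.not_le⟩
  exact hD.not_le_stab NCTV.boxNC
    ⟨h.ss, h.span, h.simple, h.noncomm, hM.prop.1, hM.prop.2, fun M' h1 h2 h3 => hM.le_of_ge ⟨h2, h3⟩ h1⟩ (le_setStab hI)

theorem card_le_four (h : Cl.Ctx F S) (hD : Fr D) (hI : Inv S D) (hiso : Isom F D) : D.card ≤ 4 := by
  classical
  have h1 := (h.stab hI (not_inv h hD)).solv
  have h2 : stab F (D : Set A) ≤ setStab (RingAut A) (D : Set A) := le_setStab (inv_stab F D)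
  have h3 : Function.Surjective (permOn _ _ h2) := by
    rw [← MonoidHom.range_eq_top, eq_top_iff, ← Equiv.Perm.closure_isSwap, Subgroup.closure_le]
    rintro _ ⟨x, y, hxy, rfl⟩
    obtain ⟨u, hu, hue⟩ := hiso x x.2 y y.2
    obtain ⟨w, hw, w1, w2, w3⟩ := hD.exists_swap x.2 y.2 (fun e => hxy (Subtype.ext e)) hu hue
    refine swap_mem_range h2 (d := cj A w) ⟨FR.cj_mem_Aut hw, fun g hg => ?_⟩ w1 w2 w3
    by_cases n1 : g = x
    · rw [n1, w1]; exact y.2
    by_cases n2 : g = y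
    · rw [n2, w2]; exact x.2
    rwa [w3 g hg n1 n2]
  by_contra h4
  refine Equiv.Perm.not_isSolvable (D : Set A) ?_ (Group.isSolvable_of_surjective h3)
  rw [Finset.coe_sort_coe, Cardinal.mk_coe_finset]
  exact_mod_cast not_le.1 h4

theorem solv_CU (h : Cl.Ctx F S) (hD : Fr D) (hI : Inv S D) : Group.IsSolvable ↥(F.Iso ⊓ C2.CU (D : Set A)) := by
  refine C2.solv_CU h hI fun h0 => ?_
  obtain ⟨e, he⟩ : D.Nonempty := Finset.card_pos.1 (by have := hD.two; omega)
  rcases h.ss.idem_symm (h0 he) (hD.symm e he) (hD.idem e he) with h1 | h1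
  · exact hD.ne e he h1
  · exact hD.ne_one he h1

/-- **Minimal invariant frames.** -/
theorem MinFr.cases (h : Cl.Ctx F S) (hD : MinFr S D)
    (hW : ∀ e ∈ D, ∀ f ∈ D, ∀ g ∈ D, e ≠ f → e ≠ g → f ≠ g → (∃ γ ∈ S, γ e = f) → (∃ γ ∈ S, γ e = g) →
      Cj F e f ∨ Cj F e g ∨ Cj F f g) :
    D.card = 2 ∨ ((D.card = 3 ∨ D.card = 4) ∧ Isom F D) := by
  classical
  by_cases h2 : D.card = 2
  · exact Or.inl h2
  have h3 : 2 < D.card := by have := hD.fr.two; omega
  obtain ⟨e, he, f, hf, g, hg, hef, heg, hfg⟩ := Finset.two_lt_card.1 h3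
  have h4 : ∀ x ∈ D, ∃ γ ∈ S, γ e = x := by
    have h4 : ∀ δ ∈ S, ∀ x, (∃ γ ∈ S, γ e = δ x) ↔ ∃ γ ∈ S, γ e = x := fun δ hδ x =>
      ⟨fun ⟨γ, hγ, h4⟩ => ⟨δ⁻¹ * γ, mul_mem (inv_mem hδ) hγ, by rw [ra_mul, h4, ra_inv_apply]⟩,
        fun ⟨γ, hγ, h4⟩ => ⟨δ * γ, mul_mem hδ hγ, by rw [ra_mul, h4]⟩⟩
    rcases hD.part (fun x => ∃ γ ∈ S, γ e = x) (fun δ hδ x _ y _ hxy => by
      rw [propext (h4 δ hδ x), propext (h4 δ hδ y), hxy]) with h5 | h5
    · exact fun x hx => h5 e he x hx ▸ ⟨1, one_mem _, ra_one e⟩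
    · have h6 := Finset.card_le_card_of_injOn (t := Finset.univ) _ (fun _ _ => Finset.mem_univ _) h5
      rw [Finset.card_univ, Fintype.card_prop] at h6
      omega
  have h5 : ∀ x y, {z | Cj F x z} = {z | Cj F y z} ↔ Cj F x y := fun x y =>
    ⟨fun h5 => Cj.symm (show x ∈ {z | Cj F y z} from h5 ▸ Cj.refl x),
      fun h5 => Set.ext fun z => ⟨h5.symm.trans, h5.trans⟩⟩
  have h6 : Isom F D := by
    rcases hD.part (fun x => {z | Cj F x z}) (fun δ hδ x _ y _ hxy =>
      (h5 _ _).2 (((h5 _ _).1 hxy).map (h.le hδ))) with h6 | h6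
    · exact fun x hx y hy => (h5 _ _).1 (h6 x hx y hy)
    · rcases hW e he f hf g hg hef heg hfg (h4 f hf) (h4 g hg) with h7 | h7 | h7
      · exact absurd (h6 he hf ((h5 _ _).2 h7)) hef
      · exact absurd (h6 he hg ((h5 _ _).2 h7)) heg
      · exact absurd (h6 hf hg ((h5 _ _).2 h7)) hfg
  have h7 := card_le_four h hD.fr hD.inv h6
  exact Or.inr ⟨by omega, h6⟩

end Cfsg.Agent.SB.Fr
end

-- part: SB/Fr/Vec
section
set_option linter.all false
open scoped Cfsg.Agent.FastGrp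

/-!
# S5765, classical groups: linear algebra of frames (helper93)
-/

set_option autoImplicit false

namespace Cfsg.Agent.SB.Fr

open Cfsg Cfsg.Agent.DS.Cl Module LinearMap

section gen

variable {K V : Type} [Field K] [AddCommGroup V] [Module K V] {E E' E'' : End K V}

/-- the endomorphism of a map between two blocks -/
def tr (φ : range E →ₗ[K] range E') : End K V := (range E').subtype ∘ₗ φ ∘ₗ E.rangeRestrict

theorem tr_apply (φ : range E →ₗ[K] range E') (v : V) : tr φ v = φ (E.rangeRestrict v) := rfl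

theorem fix_of_mem (hE : E * E = E) (w : range E) : E w = w := by
  obtain ⟨_, y, rfl⟩ := w
  exact LinearMap.congr_fun hE y

theorem rr_coe (hE : E * E = E) (w : range E) : E.rangeRestrict w = w := Subtype.ext (fix_of_mem hE w)

theorem mul_tr (hE : E' * E' = E') (φ : range E →ₗ[K] range E') : E' * tr φ = tr φ :=
  LinearMap.ext fun _ => fix_of_mem hE _

theorem tr_mul (hE : E * E = E) (φ : range E →ₗ[K] range E') : tr φ * E = tr φ :=
  LinearMap.ext fun v => congrArg (fun x => (φ x : V)) (rr_coe hE (E.rangeRestrict v))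

theorem tr_tr (hE : E' * E' = E') (ψ : range E' →ₗ[K] range E'') (φ : range E →ₗ[K] range E') :
    tr ψ * tr φ = tr (ψ ∘ₗ φ) :=
  LinearMap.ext fun _ => congrArg (fun x => (ψ x : V)) (rr_coe hE _)

/-- the extension by the identity -/
def up (hE : E * E = E) : (range E ≃ₗ[K] range E) →* End K V where
  toFun g := tr g.toLinearMap + (1 - E)
  map_one' := add_sub_cancel E 1
  map_mul' g g' := by
    rw [add_mul, mul_add, mul_add, tr_tr hE, mul_sub, mul_one, tr_mul hE, sub_self, sub_mul, one_mul, mul_tr hE,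
      sub_self, mul_sub, mul_one, sub_mul, one_mul, hE, sub_self, sub_zero, add_zero, zero_add]
    rfl

theorem up_eq (hE : E * E = E) (g : range E ≃ₗ[K] range E) : up hE g = tr g.toLinearMap + (1 - E) := rfl

theorem mul_up (hE : E * E = E) (g : range E ≃ₗ[K] range E) : E * up hE g = tr g.toLinearMap := by
  rw [up_eq, mul_add, mul_tr hE, mul_sub, mul_one, hE, sub_self, add_zero]

theorem up_mul (hE : E * E = E) (g : range E ≃ₗ[K] range E) : up hE g * E = tr g.toLinearMap := by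
  rw [up_eq, add_mul, tr_mul hE, sub_mul, one_mul, hE, sub_self, add_zero]

theorem up_inj (hE : E * E = E) : Function.Injective (up hE) := by
  intro g g' h
  ext w
  have h1 := LinearMap.congr_fun (add_right_cancel ((up_eq hE g).symm.trans h)) w
  rwa [tr_apply, tr_apply, rr_coe hE] at h1

theorem up_comm (hE : E * E = E) (h1 : E * E' = 0) (h2 : E' * E = 0) (g : range E ≃ₗ[K] range E) :
    up hE g * E' = E' * up hE g := by
  rw [up_eq, add_mul, mul_add, ← tr_mul hE, mul_assoc, h1, mul_zero, tr_mul hE, ← mul_tr hE, ← mul_assoc, h2, zero_mul,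
    sub_mul, mul_sub, h1, h2, one_mul, mul_one]

theorem up_sub (hE : E * E = E) (g : range E ≃ₗ[K] range E) (v : V) : up hE g v - E (up hE g v) = v - E v := by
  rw [← End.mul_apply E, mul_up, up_eq, LinearMap.add_apply, add_sub_cancel_left]
  rfl

/-- the exchange of two blocks -/
theorem exists_swp (hE : E * E = E) (hE' : E' * E' = E') (h1 : E * E' = 0) (h2 : E' * E = 0)
    (φ : range E ≃ₗ[K] range E') : ∃ w : End K V, w * w = 1 ∧ w * E = E' * w ∧ (∀ v, E' (w v) = φ (E.rangeRestrict v)) ∧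
      (∀ v, E (w v) = φ.symm (E'.rangeRestrict v)) ∧ ∀ v, w v - E (w v) - E' (w v) = v - E v - E' v := by
  obtain ⟨x, hx⟩ : ∃ x, x = tr φ.toLinearMap := ⟨_, rfl⟩
  obtain ⟨y, hy⟩ : ∃ y, y = tr φ.symm.toLinearMap := ⟨_, rfl⟩
  have xe : x * E = x := by rw [hx, tr_mul hE]
  have fx : E' * x = x := by rw [hx, mul_tr hE']
  have ey : E * y = y := by rw [hy, mul_tr hE]
  have yf : y * E' = y := by rw [hy, tr_mul hE']
  have xf : x * E' = 0 := by rw [← xe, mul_assoc, h1, mul_zero]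
  have ex : E * x = 0 := by rw [← fx, ← mul_assoc, h1, zero_mul]
  have fy : E' * y = 0 := by rw [← ey, ← mul_assoc, h2, zero_mul]
  have ye : y * E = 0 := by rw [← yf, mul_assoc, h2, mul_zero]
  have xx : x * x = 0 := by nth_rewrite 1 [← xe]; rw [mul_assoc, ex, mul_zero]
  have yy : y * y = 0 := by nth_rewrite 1 [← yf]; rw [mul_assoc, fy, mul_zero]
  have xy : x * y = E' := by rw [hx, hy, tr_tr hE, LinearEquiv.comp_coe, LinearEquiv.symm_trans_self]; rfl
  have yx : y * x = E := by rw [hx, hy, tr_tr hE', LinearEquiv.comp_coe, LinearEquiv.self_trans_symm]; rfl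
  have ew : E * (x + y + (1 - E - E')) = y := by simp [mul_add, mul_sub, ex, ey, hE, h1]
  have fw : E' * (x + y + (1 - E - E')) = x := by simp [mul_add, mul_sub, fx, fy, hE', h2]
  refine ⟨x + y + (1 - E - E'), ?_, ?_, fun v => ?_, fun v => ?_, fun v => ?_⟩
  · have a1 : x * (x + y + (1 - E - E')) = E' := by simp only [mul_add, mul_sub, xx, xy, xe, xf, _root_.zero_add, _root_.mul_one, _root_.sub_self, _root_.add_zero]
    have a2 : y * (x + y + (1 - E - E')) = E := by simp [mul_add, mul_sub, yy, yx, ye, yf]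
    rw [add_mul, add_mul, a1, a2, sub_mul, sub_mul, one_mul, ew, fw]
    abel
  · rw [fw]
    simp only [add_mul, sub_mul, xe, ye, hE, h2, _root_.add_zero, _root_.one_mul, _root_.sub_self]
  · rw [← End.mul_apply, fw, hx]
    rfl
  · rw [← End.mul_apply, ew, hy]
    rfl
  · rw [← End.mul_apply E, ← End.mul_apply E', ew, fw]
    simp only [LinearMap.add_apply, LinearMap.sub_apply, End.one_apply]
    abel

variable {A : Type} [Ring A] [StarRing A] (π : A →+* End K V) {D : Finset A}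

theorem finrank_eq_sum [Module.Finite K V] (hD : Fr D) : finrank K V = ∑ e ∈ D, finrank K (range (π e)) := by
  classical
  let f : V →ₗ[K] (∀ e : D, range (π e)) := LinearMap.pi fun e => (π e).rangeRestrict
  have hf : Function.Bijective f := by
    constructor
    · rw [injective_iff_map_eq_zero]
      intro v hv
      have h1 : π (∑ e ∈ D, e) v = ∑ e ∈ D, π e v := by rw [map_sum, LinearMap.sum_apply]
      rw [hD.sum, map_one, End.one_apply] at h1
      rw [h1]
      exact Finset.sum_eq_zero fun e he => congrArg Subtype.val (congrFun hv ⟨e, he⟩)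
    · intro w
      refine ⟨∑ e, w e, funext fun e => Subtype.ext ?_⟩
      change π e (∑ e, w e) = w e
      rw [map_sum, Finset.sum_eq_single e (fun e' _ h1 => ?_) fun h1 => absurd (Finset.mem_univ e) h1]
      · exact fix_of_mem (by rw [← map_mul, hD.idem e e.2]) _
      · obtain ⟨y, hy⟩ := (w e').2
        rw [← hy, ← End.mul_apply, ← map_mul, hD.orth e e.2 e' e'.2 fun h2 => h1 (Subtype.ext h2.symm), map_zero,
          LinearMap.zero_apply]
  rw [(LinearEquiv.ofBijective f hf).finrank_eq, Module.finrank_pi_fintype]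
  exact Finset.sum_coe_sort D fun e => finrank K (range (π e))

omit [StarRing A] in
theorem solv_block (hE : E * E = E) {U : Subgroup Aˣ} (hU : Group.IsSolvable U) {X : Subgroup (range E ≃ₗ[K] range E)}
    (hX : ∀ g ∈ X, ∃ u ∈ U, π u = up hE g) : Group.IsSolvable X := by
  let f : Aˣ →* (End K V)ˣ := Units.map (π : A →* End K V)
  have h1 : Group.IsSolvable (U.map f) := Group.isSolvable_of_surjective (f.subgroupMap_surjective U)
  refine Group.isSolvable_of_isSolvable_injective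
    (f := ((up hE).toHomUnits.comp X.subtype).codRestrict (U.map f) fun g => ?_) fun a b hab =>
      Subtype.ext (up_inj hE (congrArg Units.val (congrArg Subtype.val hab)))
  obtain ⟨u, hu, h2⟩ := hX g g.2
  exact ⟨u, hu, Units.ext h2⟩

end gen

section quad

open QuadraticMap

variable {K : Type} [Field K] [Finite K]

/-- isometric quadratic spaces -/
def QI {W W' : Type} [AddCommGroup W] [Module K W] [AddCommGroup W'] [Module K W'] (Q : QuadraticForm K W)
    (Q' : QuadraticForm K W') : Prop := ∃ g : W ≃ₗ[K] W', ∀ v, Q' (g v) = Q v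

theorem sq_of_three {a b c : K} (ha : a ≠ 0) (hb : b ≠ 0) (hc : c ≠ 0) :
    (∃ t, a = t * t * b) ∨ (∃ t, a = t * t * c) ∨ ∃ t, b = t * t * c := by
  classical
  have := Fintype.ofFinite K
  have key : ∀ x y : K, x ≠ 0 → y ≠ 0 → quadraticChar K x = quadraticChar K y → ∃ t, x = t * t * y := by
    intro x y hx hy h
    have h1 : quadraticChar K (x * y) = 1 := by rw [map_mul, h, ← pow_two, quadraticChar_sq_one hy]
    obtain ⟨t, ht⟩ := (quadraticChar_one_iff_isSquare (mul_ne_zero hx hy)).1 h1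
    refine ⟨t / y, ?_⟩
    field_simp
    linear_combination ht
  rcases quadraticChar_dichotomy ha with h1 | h1 <;> rcases quadraticChar_dichotomy hb with h2 | h2 <;>
    rcases quadraticChar_dichotomy hc with h3 | h3 <;>
    first
    | exact Or.inl (key _ _ ha hb (h1.trans h2.symm))
    | exact Or.inr (Or.inl (key _ _ ha hc (h1.trans h3.symm)))
    | exact Or.inr (Or.inr (key _ _ hb hc (h2.trans h3.symm)))

variable {W W' W'' : Type} [AddCommGroup W] [Module K W] [AddCommGroup W'] [Module K W'] [AddCommGroup W'']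
  [Module K W'']

omit [Finite K] in
theorem qi_of {X : Type} [AddCommGroup X] [Module K X] {Q : QuadraticForm K W} {Q' : QuadraticForm K W'} {q : X → K}
    (g : W ≃ₗ[K] X) (g' : W' ≃ₗ[K] X) (h : ∀ v, Q v = q (g v)) (h' : ∀ v, Q' v = q (g' v)) : QI Q Q' :=
  ⟨g.trans g'.symm, fun v => by rw [h', h, LinearEquiv.trans_apply, LinearEquiv.apply_symm_apply]⟩

/-- the standard bases in odd dimension -/
def OB {m : ℕ} (Q : QuadraticForm K W) (b : Basis (Unit ⊕ (Fin m ⊕ Fin m)) K W) : Prop :=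
  (∀ i, _root_.QuadraticMap.polar Q (b (.inl ())) (b (.inr (.inl i))) = 0 ∧ _root_.QuadraticMap.polar Q (b (.inl ())) (b (.inr (.inr i))) = 0) ∧
  (∀ i, Q (b (.inr (.inl i))) = 0 ∧ Q (b (.inr (.inr i))) = 0) ∧
  (∀ i j, _root_.QuadraticMap.polar Q (b (.inr (.inl i))) (b (.inr (.inr j))) = if i = j then 1 else 0) ∧
  ∀ i j, _root_.QuadraticMap.polar Q (b (.inr (.inl i))) (b (.inr (.inl j))) = 0 ∧ _root_.QuadraticMap.polar Q (b (.inr (.inr i))) (b (.inr (.inr j))) = 0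

omit [Finite K] in
theorem OB.qi {m : ℕ} {Q : QuadraticForm K W} {Q' : QuadraticForm K W'} {b : Basis (Unit ⊕ (Fin m ⊕ Fin m)) K W}
    {b' : Basis (Unit ⊕ (Fin m ⊕ Fin m)) K W'} (h : OB Q b) (h' : OB Q' b') (h0 : Q (b (.inl ())) ≠ 0) {t : K}
    (ht : Q (b (.inl ())) = t * t * Q' (b' (.inl ()))) : QI Q Q' := by
  have ht0 : t ≠ 0 := fun e => h0 (by rw [ht, e, zero_mul, zero_mul])
  let c := b'.unitsSMul (Sum.elim (fun _ => Units.mk0 t ht0) fun _ => 1)
  have c1 : c (.inl ()) = t • b' (.inl ()) := by simp [c, Basis.unitsSMul_apply]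
  have c2 : ∀ i, c (.inr i) = b' (.inr i) := fun i => by simp [c, Basis.unitsSMul_apply]
  have h1 : ∀ x y, _root_.QuadraticMap.polar (Q'.comp (b.equiv c (Equiv.refl _)).toLinearMap) (b x) (b y) = _root_.QuadraticMap.polar Q' (c x) (c y) := by
    intro x y
    simp [QuadraticMap.polar, QuadraticMap.comp_apply]
  obtain ⟨a1, a2, a3, a4⟩ := h
  obtain ⟨b1, b2, b3, b4⟩ := h'
  refine ⟨b.equiv c (Equiv.refl _), fun v => (DFunLike.congr_fun
    (H174.quad_ext b (Q := Q) (Q' := Q'.comp (b.equiv c (Equiv.refl _)).toLinearMap) ?_ ?_) v).symm⟩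
  · rintro (⟨⟩ | i | i) <;> rw [QuadraticMap.comp_apply, LinearEquiv.coe_coe, Basis.equiv_apply, Equiv.refl_apply]
    · rw [c1, QuadraticMap.map_smul, ht, smul_eq_mul]
    · rw [c2, (a2 i).1, (b2 i).1]
    · rw [c2, (a2 i).2, (b2 i).2]
  · rintro (⟨⟩ | i | i) (⟨⟩ | j | j) <;> rw [h1] <;> simp only [c1, c2, polar_smul_left, polar_smul_right]
    · rw [polar_self, polar_self, ht, two_smul, two_smul, smul_eq_mul, smul_eq_mul]
      ring
    · rw [(a1 j).1, (b1 j).1, smul_zero]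
    · rw [(a1 j).2, (b1 j).2, smul_zero]
    · rw [polar_comm, (a1 i).1, polar_comm, (b1 i).1, smul_zero]
    · rw [(a4 i j).1, (b4 i j).1]
    · rw [a3, b3]
    · rw [polar_comm, (a1 i).2, polar_comm, (b1 i).2, smul_zero]
    · rw [polar_comm, a3, polar_comm, b3]
    · rw [(a4 i j).2, (b4 i j).2]

variable [Module.Finite K W] [Module.Finite K W'] [Module.Finite K W'']

/-- two of three non-degenerate quadratic spaces of the same dimension are isometric -/
theorem qi_of_three {Q : QuadraticForm K W} {Q' : QuadraticForm K W'} {Q'' : QuadraticForm K W''}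
    (h : (polarBilin Q).Nondegenerate) (h' : (polarBilin Q').Nondegenerate) (h'' : (polarBilin Q'').Nondegenerate)
    {d : ℕ} (hd : 0 < d) (e : finrank K W = d) (e' : finrank K W' = d) (e'' : finrank K W'' = d) :
    QI Q Q' ∨ QI Q Q'' ∨ QI Q' Q'' := by
  obtain ⟨m, rfl | rfl⟩ := Nat.even_or_odd' d
  · have han : ∀ ζ : K, (∀ t : K, t ^ 2 + t + ζ ≠ 0) → GenOrth.Aniso 1 ζ := by
      intro ζ hζ z₁ z₂ h
      by_cases h2 : z₂ = 0
      · rw [h2] at h
        exact ⟨by simpa using h, h2⟩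
      · refine absurd ?_ (hζ (z₁ / z₂))
        field_simp
        linear_combination h
    have key : ∀ {X Y : Type} [AddCommGroup X] [Module K X] [AddCommGroup Y] [Module K Y] {P : QuadraticForm K X}
        {P' : QuadraticForm K Y} {ζ ζ' : K} (g : X ≃ₗ[K] ((Fin (m - 1) ⊕ Fin (m - 1)) ⊕ Fin 2 → K))
        (g' : Y ≃ₗ[K] ((Fin (m - 1) ⊕ Fin (m - 1)) ⊕ Fin 2 → K)), (∀ t : K, t ^ 2 + t + ζ ≠ 0) →
        (∀ t : K, t ^ 2 + t + ζ' ≠ 0) → (∀ v, P v = quadFormMinus (m - 1) K 1 ζ (g v)) →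
        (∀ v, P' v = quadFormMinus (m - 1) K 1 ζ' (g' v)) → QI P P' := by
      intro X Y _ _ _ _ P P' ζ ζ' g g' a1 a2 a3 a4
      obtain ⟨f, hf⟩ := H193.QuadEmb.minus_iso (m - 1) (han ζ a1) (han ζ' a2) one_ne_zero
      exact qi_of (g.trans f) g' (fun v => by rw [LinearEquiv.trans_apply, hf, one_mul, a3]) a4
    rcases H174.exists_std (by omega) e Q h with ⟨g, hg⟩ | ⟨ζ, g, hζ, hg⟩ <;>
      rcases H174.exists_std (by omega) e' Q' h' with ⟨g', hg'⟩ | ⟨ζ', g', hζ', hg'⟩ <;>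
      rcases H174.exists_std (by omega) e'' Q'' h'' with ⟨g'', hg''⟩ | ⟨ζ'', g'', hζ'', hg''⟩
    · exact Or.inl (qi_of g g' hg hg')
    · exact Or.inl (qi_of g g' hg hg')
    · exact Or.inr (Or.inl (qi_of g g'' hg hg''))
    · exact Or.inr (Or.inr (key g' g'' hζ' hζ'' hg' hg''))
    · exact Or.inr (Or.inr (qi_of g' g'' hg' hg''))
    · exact Or.inr (Or.inl (key g g'' hζ hζ'' hg hg''))
    · exact Or.inl (key g g' hζ hζ' hg hg')
    · exact Or.inl (key g g' hζ hζ' hg hg')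
  · obtain ⟨b, h0, hb⟩ := Cfsg.Agent.S2618.result e Q h
    obtain ⟨b', h0', hb'⟩ := Cfsg.Agent.S2618.result e' Q' h'
    obtain ⟨b'', h0'', hb''⟩ := Cfsg.Agent.S2618.result e'' Q'' h''
    rcases sq_of_three h0 h0' h0'' with ⟨t, ht⟩ | ⟨t, ht⟩ | ⟨t, ht⟩
    · exact Or.inl (OB.qi hb hb' h0 ht)
    · exact Or.inr (Or.inl (OB.qi hb hb'' h0 ht))
    · exact Or.inr (Or.inr (OB.qi hb' hb'' h0' ht))

end quad

end Cfsg.Agent.SB.Fr
end

-- part: SB/C2/ExtA
section
prune_inst 0x35606144596202000000858211200004440001900020000058010e44030e77688dc2214044a038065a2a0b0100050048101000800000000000200000000101208028000410000c0c86000f801087180c00000000000000000000000000041004000000000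
set_option linter.all false
open scoped Cfsg.Agent.FastGrp

/-!
# Invariant abelian subgroups with non-commuting lifts, I (helper56)
-/

set_option autoImplicit false

namespace Cfsg.Agent.SB.C2

open Cfsg Cfsg.Agent.DS.Cl
open scoped commutatorElement

variable {A : Type} [Ring A] [StarRing A]

theorem exists_char [Finite A] (hA : SS A) : ∃ p : ℕ, p.Prime ∧ CharP A p := by
  have := hA.nontrivial
  refine ⟨ringChar A, ?_, inferInstance⟩
  have h0 : ringChar A ≠ 0 := CharP.ringChar_ne_zero_of_finite A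
  refine Nat.prime_def.2 ⟨by have := CharP.ringChar_ne_one (R := A); omega, fun m ⟨k, hk⟩ => ?_⟩
  by_cases h1 : (m : A) = 0
  · exact Or.inr (Nat.dvd_antisymm ⟨k, hk⟩ (ringChar.dvd h1))
  · have h2 : (m : A) * k = 0 := by rw [← Nat.cast_mul, ← hk, ringChar.Nat.cast_ringChar]
    rw [(hA.isUnit_of_cen (natCast_mem _ m) (star_natCast m) h1).mul_right_eq_zero] at h2
    obtain ⟨j, hj⟩ := ringChar.dvd h2
    rw [hj, mul_left_comm, eq_comm, Nat.mul_eq_left h0] at hk
    exact Or.inl (Nat.eq_one_of_mul_eq_one_right hk)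

theorem cast_mul_ne (hA : SS A) {a b : ℕ} (ha : (a : A) ≠ 0) (hb : (b : A) ≠ 0) : ((a * b : ℕ) : A) ≠ 0 := by
  rw [Nat.cast_mul, Ne, (hA.isUnit_of_cen (natCast_mem _ a) (star_natCast a) ha).mul_right_eq_zero]
  exact hb

omit [StarRing A] in
theorem cast_ne_of_dvd {a b : ℕ} (h : a ∣ b) (hb : (b : A) ≠ 0) : (a : A) ≠ 0 := by
  obtain ⟨c, rfl⟩ := h
  exact fun e => hb (by rw [Nat.cast_mul, e, zero_mul])

theorem cast_pow_ne (hA : SS A) {a : ℕ} (ha : (a : A) ≠ 0) (k : ℕ) : ((a ^ k : ℕ) : A) ≠ 0 := by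
  have := hA.nontrivial
  rw [Nat.cast_pow]
  exact ((hA.isUnit_of_cen (natCast_mem _ a) (star_natCast a) ha).pow k).ne_zero

theorem card_ne_of_exp [Finite A] (hA : SS A) {G : Subgroup (RingAut A)} {r : ℕ} (hr : r.Prime) (h0 : (r : A) ≠ 0)
    (h : ∀ x ∈ G, x ^ r = 1) : (Nat.card G : A) ≠ 0 := by
  have : Fact r.Prime := ⟨hr⟩
  have h1 : IsPGroup r G := fun x => ⟨1, Subtype.ext (by rw [pow_one]; exact h x x.2)⟩
  obtain ⟨k, hk⟩ := h1.exists_card_eq
  rw [hk]
  exact cast_pow_ne hA h0 k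

theorem L_of_zeta (hA : SS A) (F : FR A) {z : A} (hc : z ∈ Subring.center A) (hs : z * star z = 1) (hne : z ≠ 1) :
    F.L = Lmax A := by
  obtain ⟨w, hw⟩ := Ext.isUnit_sub_one hA hc hs hne
  have hw' : (w : A) ∈ Subring.center A := hw ▸ Subring.sub_mem _ hc (Subring.one_mem _)
  have h1 : (z - 1) * ((w⁻¹ : Aˣ) : A) = 1 := by rw [← hw, Units.mul_inv]
  have h2 : star ((w⁻¹ : Aˣ) : A) * (star z - 1) = 1 := by
    have := congrArg star h1
    rwa [star_mul, star_sub, star_one] at this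
  have h3 : (star z - 1) * (-(z * ((w⁻¹ : Aˣ) : A))) = 1 := by
    calc (star z - 1) * (-(z * ((w⁻¹ : Aˣ) : A))) = (z - star z * z) * ((w⁻¹ : Aˣ) : A) := by noncomm_ring
      _ = 1 := by rw [cen_comm hc, hs, h1]
  have h4 : star ((w⁻¹ : Aˣ) : A) = -(z * ((w⁻¹ : Aˣ) : A)) := by
    rw [← mul_one (star _), ← h3, ← mul_assoc, h2, one_mul]
  refine F.L_eq (c := -((w⁻¹ : Aˣ) : A)) (Subring.neg_mem _ (inv_cen hw')) ?_
  rw [star_neg, h4, ← h1]
  noncomm_ring

theorem eq_one_of_ppow (hA : SS A) {p : ℕ} (hp : p.Prime) [CharP A p] {z : A} (hc : z ∈ Subring.center A)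
    (hs : z * star z = 1) {k : ℕ} (h : z ^ p ^ k = 1) : z = 1 := by
  by_contra hne
  have := hA.nontrivial
  have : Fact p.Prime := ⟨hp⟩
  have h1 := ((Ext.isUnit_sub_one hA hc hs hne).pow (p ^ k)).ne_zero
  rw [sub_pow_char_pow_of_commute _ _ (Commute.one_right z), h, one_pow, sub_self] at h1
  exact h1 rfl

omit [StarRing A] in
theorem comm_pow_left {u v : Aˣ} (h : cj A u * cj A v = cj A v * cj A u) (k : ℕ) : ⁅u ^ k, v⁆ = ⁅u, v⁆ ^ k := by
  have h1 : ((⁅u, v⁆ : Aˣ) : A) ∈ Subring.center A :=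
    cj_eq_one_iff.1 (by rw [map_commutatorElement, commutatorElement_eq_one_iff_mul_comm, h])
  induction k with
  | zero => simp
  | succ k ih =>
    have h2 : ⁅u ^ (k + 1), v⁆ = u * ⁅u ^ k, v⁆ * u⁻¹ * ⁅u, v⁆ := by
      simp only [commutatorElement_def, pow_succ']; group
    rw [h2, ih, (show Commute u ⁅u, v⁆ from units_comm h1 u).pow_right k, mul_inv_cancel_right, pow_succ]

/-- the lifts -/
def lifts (F : FR A) (Y : Subgroup (RingAut A)) : Set A := {a | ∃ u ∈ F.Iso, cj A u ∈ Y ∧ (u : A) = a}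

/-- invariant abelian subgroups of `PI` of order prime to the characteristic -/
structure Ab (F : FR A) (S Y : Subgroup (RingAut A)) : Prop where
  le : Y ≤ F.PI
  comm : ∀ x ∈ Y, ∀ y ∈ Y, x * y = y * x
  card : (Nat.card Y : A) ≠ 0
  inv : ∀ s ∈ S, ∀ y ∈ Y, s * y * s⁻¹ ∈ Y

/-- there is no invariant subgroup with commuting lifts -/
def NoCom (F : FR A) (S : Subgroup (RingAut A)) : Prop :=
  ∀ G : Subgroup (RingAut A), G ≤ F.PI → (Nat.card G : A) ≠ 0 → (∀ s ∈ S, ∀ y ∈ G, s * y * s⁻¹ ∈ G) →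
    (∀ u ∈ F.Iso, ∀ v ∈ F.Iso, cj A u ∈ G → cj A v ∈ G → u * v = v * u) → G = ⊥

variable {F : FR A} {S Y : Subgroup (RingAut A)}

theorem inv_lifts (hS : S ≤ F.Aut) (h : ∀ s ∈ S, ∀ y ∈ Y, s * y * s⁻¹ ∈ Y) : _root_.Cfsg.Agent.DS.Cl.Inv S (lifts F Y) := by
  rintro s hs _ ⟨u, hu, h1, rfl⟩
  exact ⟨um s u, FR.um_mem_Iso (hS hs) hu, by rw [← conj_cj]; exact h s hs _ h1, rfl⟩

theorem lifts_not_le (hY : Y ≤ F.PI) (h0 : Y ≠ ⊥) : ¬ lifts F Y ⊆ Subring.center A := fun h =>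
  h0 (eq_bot_iff.2 fun y hy => by
    obtain ⟨u, hu, rfl⟩ := hY hy
    exact cj_eq_one_iff.2 (h ⟨u, hu, hy, rfl⟩))

theorem mem_CU_lifts (hY : Y ≤ F.PI) {u : Aˣ} : u ∈ CU (lifts F Y) ↔ (u : A) ∈ fixR Y := by
  refine ⟨fun h y hy => ?_, ?_⟩
  · obtain ⟨v, hv, rfl⟩ := hY hy
    exact cj_eq_of_mul (h _ ⟨v, hv, hy, rfl⟩).symm
  · rintro h _ ⟨v, -, hy, rfl⟩
    rw [← cj_mul_eq v u, h _ hy]

theorem Ab.sub [Finite A] (h : Ab F S Y) {Z : Subgroup (RingAut A)} (hZ : Z ≤ Y)
    (hi : ∀ s ∈ S, ∀ y ∈ Z, s * y * s⁻¹ ∈ Z) : Ab F S Z :=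
  ⟨hZ.trans h.le, fun x hx y hy => h.comm x (hZ hx) y (hZ hy), cast_ne_of_dvd (Subgroup.card_dvd_of_le hZ) h.card, hi⟩

theorem Ab.nd [Finite A] (hS : S ≤ F.Aut) (hN : NoCom F S) (h : Ab F S Y) : ND F Y := by
  let R : Subgroup (RingAut A) := Y ⊓ DS.Cl.Fix (lifts F Y)
  have h1 : Ab F S R := h.sub inf_le_left fun s hs y hy => ⟨h.inv s hs y hy.1, fun a ha => by
    rw [ra_mul, ra_mul, hy.2 _ (inv_lifts hS h.inv _ (inv_mem hs) a ha), ra_apply_inv]⟩
  have h2 := hN R h1.le h1.card h1.inv fun u _ v hv hu' hv' => Units.ext (by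
    rw [Units.val_mul, Units.val_mul, ← cj_mul_eq u v, hu'.2 _ ⟨v, hv, hv'.1, rfl⟩])
  refine ⟨h.le, h.comm, h.card, fun y hy h3 => ?_⟩
  rw [← Subgroup.mem_bot, ← h2]
  exact ⟨hy, by rintro _ ⟨u, hu, hu', rfl⟩; exact h3 u hu hu'⟩

theorem ND.exists_zeta (h : ND F Y) (h0 : Y ≠ ⊥) : ∃ z ∈ Subring.center A, z * star z = 1 ∧ z ≠ 1 := by
  obtain ⟨⟨y, hy⟩, h1⟩ := Subgroup.ne_bot_iff_exists_ne_one.1 h0
  by_contra hcon
  push Not at hcon
  refine h1 (Subtype.ext (h.nd y hy fun u hu hu' => ?_))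
  obtain ⟨c, hc, h2, h3⟩ := act_lift (h.le hy) hu (h.comm _ hy _ hu')
  rw [h3, hcon c hc h2, one_mul]

theorem ND.L_eq (hA : SS A) (h : ND F Y) (h0 : Y ≠ ⊥) : F.L = Lmax A := by
  obtain ⟨z, h1, h2, h3⟩ := h.exists_zeta h0
  exact L_of_zeta hA F h1 h2 h3

variable [Finite A]

theorem Ab.sup (hA : SS A) {E : Subgroup (RingAut A)} (h : Ab F S Y) (hE : Ab F S E)
    (hc : ∀ x ∈ Y, ∀ y ∈ E, x * y = y * x) : Ab F S (Y ⊔ E) := by
  let f : Y × E →* RingAut A := MonoidHom.noncommCoprod Y.subtype E.subtype fun x y => hc x x.2 y y.2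
  have h1 : f.range = Y ⊔ E := by
    rw [show f.range = _ from MonoidHom.noncommCoprod_range _ _ _, Subgroup.range_subtype, Subgroup.range_subtype]
  have h2 : ∀ x ∈ Y ⊔ E, ∃ y ∈ Y, ∃ e ∈ E, x = y * e := fun x hx => by
    rw [← h1] at hx
    obtain ⟨⟨y, e⟩, rfl⟩ := hx
    exact ⟨y, y.2, e, e.2, rfl⟩
  refine ⟨sup_le h.le hE.le, fun x hx x' hx' => ?_, ?_, fun s hs x hx => ?_⟩
  · obtain ⟨y, hy, e, he, rfl⟩ := h2 x hx
    obtain ⟨y', hy', e', he', rfl⟩ := h2 x' hx'
    exact (Commute.mul_right (Commute.mul_left (h.comm y hy y' hy') (hc y' hy' e he).symm)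
      (Commute.mul_left (hc y hy e' he') (hE.comm e he e' he')))
  · rw [← h1]
    refine cast_ne_of_dvd (Subgroup.card_range_dvd f) ?_
    rw [Nat.card_prod]
    exact cast_mul_ne hA h.card hE.card
  · obtain ⟨y, hy, e, he, rfl⟩ := h2 x hx
    rw [← conj_mul]
    exact mul_mem (Subgroup.mem_sup_left (h.inv s hs y hy)) (Subgroup.mem_sup_right (hE.inv s hs e he))

omit [StarRing A] [Finite A] in
/-- the elements of order dividing `r` -/
def om (Y : Subgroup (RingAut A)) (hc : ∀ x ∈ Y, ∀ y ∈ Y, x * y = y * x) (r : ℕ) : Subgroup (RingAut A) where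
  carrier := {x | x ∈ Y ∧ x ^ r = 1}
  mul_mem' := fun {x y} hx hy => ⟨Y.mul_mem hx.1 hy.1, by
    rw [Commute.mul_pow (hc x hx.1 y hy.1), hx.2, hy.2, mul_one]⟩
  one_mem' := ⟨Y.one_mem, one_pow _⟩
  inv_mem' := fun {x} hx => ⟨Y.inv_mem hx.1, by rw [inv_pow, hx.2, inv_one]⟩

omit [StarRing A] [Finite A] in
theorem inv_om {hc : ∀ x ∈ Y, ∀ y ∈ Y, x * y = y * x} (h : ∀ s ∈ S, ∀ y ∈ Y, s * y * s⁻¹ ∈ Y) (r : ℕ) :
    ∀ s ∈ S, ∀ y ∈ om Y hc r, s * y * s⁻¹ ∈ om Y hc r :=
  fun s hs y hy => ⟨h s hs y hy.1, by rw [conj_pow, hy.2, mul_one, mul_inv_cancel]⟩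

section ctx

variable (h : Cl.Ctx F S) (hN : NoCom F S) (hY : Ab F S Y)
include h hN hY

theorem Ab.solv (h0 : Y ≠ ⊥) {n : ℕ} (hn : Nat.card A = Nat.card (Subring.center A) ^ (n ^ 2)) :
    ∃ k, n ^ 2 = k ^ 2 * Nat.card Y ∧ Cs k (Nat.card (Subring.center A)) (∃ z ∈ Subring.center A, star z ≠ z) True := by
  obtain ⟨k, h1, -, h2⟩ := (hY.nd h.le hN).solv h.ss hn
    (solv_CU h (inv_lifts h.le hY.inv) (lifts_not_le hY.le h0)) fun u hu hu' => ⟨hu, (mem_CU_lifts hY.le).2 hu'⟩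
  exact ⟨k, h1, h2.imp Iff.rfl fun _ => trivial⟩

/-- **A maximal invariant abelian subgroup fixes only the centre.** -/
theorem Ab.fix_eq (h0 : Y ≠ ⊥) (hm : ∀ Y', Ab F S Y' → Y ≤ Y' → Y' ≤ Y) : fixR Y = Subring.center A := by
  have hA := h.ss
  have hnd := hY.nd h.le hN
  have hL := hnd.L_eq hA h0
  obtain ⟨p, hp, _⟩ := exists_char hA
  have hW := inv_lifts h.le hY.inv
  set I : Subgroup Aˣ := F.Iso ⊓ CU (lifts F Y) with hI
  have hIS : ∀ s ∈ S, ∀ u ∈ I, um s u ∈ I := fun s hs u hu => ⟨FR.um_mem_Iso (h.le hs) hu.1,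
    (mem_CU_lifts hY.le).2 (inv_fixR hY.inv s hs _ ((mem_CU_lifts hY.le).1 hu.2))⟩
  have hE : ∀ E, E ≤ I.map (cj A) → Ab F S E → E = ⊥ := by
    intro E h1 h2
    have h3 : ∀ y ∈ E, ∀ v ∈ F.Iso, cj A v ∈ Y → y v = v := fun y hy v hv hv' => by
      obtain ⟨u, hu, rfl⟩ := h1 hy
      exact cj_eq_of_mul (hu.2 _ ⟨v, hv, hv', rfl⟩)
    have h4 := hm _ (hY.sup hA h2 fun x hx y hy => by
      obtain ⟨v, hv, rfl⟩ := hY.le hx
      rw [eq_comm, ← mul_inv_eq_iff_eq_mul, conj_cj]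
      exact congrArg (cj A) (Units.ext (h3 y hy v hv hx))) le_sup_left
    exact eq_bot_iff.2 fun y hy => hnd.nd y (h4 (Subgroup.mem_sup_right hy)) (h3 y hy)
  have hD : (⁅I, I⁆ : Subgroup Aˣ).map (cj A) = ⊥ := by
    by_contra h1
    have h2 := key_comm h hW (lifts_not_le hY.le h0)
    obtain ⟨X, a1, a2, a3, -, a5, ⟨r, hr, a6⟩, -⟩ := SB.exists_min h.solv h1 (h2.trans inf_le_left) (by
      rintro s hs _ ⟨u, hu, rfl⟩
      refine ⟨um s u, ?_, (conj_cj s u).symm⟩
      have h3 : I.map (um s) ≤ I := by rintro _ ⟨v, hv, rfl⟩; exact hIS s hs v hv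
      exact Subgroup.commutator_mono h3 h3 (by rw [← Subgroup.map_commutator]; exact ⟨u, hu, rfl⟩))
    refine a2 (hE X (a1.trans (Subgroup.map_mono (Subgroup.commutator_le_self _)))
      ⟨(a1.trans h2).trans (inf_le_right.trans F.S_le_PI), a5, card_ne_of_exp hA hr (fun h4 => a2 ?_) a6, a3⟩)
    exact h.npar r hr h4 X (a1.trans h2) (fun x => ⟨1, Subtype.ext (by rw [pow_one]; exact a6 x x.2)⟩) a3
  have hG : ∀ x ∈ I.map (cj A), ∀ y ∈ I.map (cj A), x * y = y * x := by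
    rintro _ ⟨u, hu, rfl⟩ _ ⟨v, hv, rfl⟩
    rw [← commutatorElement_eq_one_iff_mul_comm, ← map_commutatorElement, ← Subgroup.mem_bot, ← hD]
    exact ⟨_, Subgroup.commutator_mem_commutator hu hv, rfl⟩
  have hP : ∀ u ∈ I, ∃ k, ((u ^ p ^ k : Aˣ) : A) ∈ Subring.center A := by
    intro u hu
    have h1 : orderOf (cj A u) ≠ 0 := (orderOf_pos _).ne'
    obtain ⟨k, m, h2, h3⟩ := Nat.exists_eq_pow_mul_and_not_dvd h1 p hp.ne_one
    refine ⟨k, cj_eq_one_iff.1 ?_⟩
    by_contra h4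
    have h5 : m ≠ 1 := fun e => h4 (by rw [map_pow, ← mul_one (p ^ k), ← e, ← h3, pow_orderOf_eq_one])
    obtain ⟨r, hr, j, hj⟩ := Nat.exists_prime_and_dvd h5
    have h6 : (r : A) ≠ 0 := fun e => h2 (((CharP.cast_eq_zero_iff A p r).1 e).trans ⟨j, hj⟩)
    have h7 := hE (om _ hG r) (fun _ hx => hx.1) ⟨fun _ hx => Subgroup.map_mono inf_le_left hx.1,
      fun x hx y hy => hG x hx.1 y hy.1, card_ne_of_exp hA hr h6 fun _ hx => hx.2, inv_om (by
        rintro s hs _ ⟨v, hv, rfl⟩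
        exact ⟨um s v, hIS s hs v hv, (conj_cj s v).symm⟩) r⟩
    have h8 : cj A u ^ (p ^ k * j) ∈ om _ hG r := ⟨pow_mem (Subgroup.mem_map_of_mem _ hu) _, by
      rw [← pow_mul, mul_assoc, mul_comm j, ← hj, ← h3, pow_orderOf_eq_one]⟩
    rw [h7, Subgroup.mem_bot, ← orderOf_dvd_iff_pow_eq_one, h3, hj] at h8
    have h9 : 0 < j := Nat.pos_of_ne_zero fun e => h1 (by rw [h3, hj, e, mul_zero, mul_zero])
    have h10 := Nat.le_of_dvd h9 (Nat.dvd_of_mul_dvd_mul_left (pow_pos hp.pos k) h8)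
    have := hr.two_le
    nlinarith only [h9, h10, this]
  have hC : ∀ u ∈ I, ∀ v ∈ I, u * v = v * u := by
    intro u hu v hv
    obtain ⟨k, hk⟩ := hP u hu
    have h1 := hG _ ⟨u, hu, rfl⟩ _ ⟨v, hv, rfl⟩
    rw [← commutatorElement_eq_one_iff_mul_comm]
    refine Units.ext (eq_one_of_ppow hA hp (k := k) (cj_eq_one_iff.1 ?_)
      (FR.Iso.ms (mul_mem (mul_mem (mul_mem hu.1 hv.1) (inv_mem hu.1)) (inv_mem hv.1))) ?_)
    · rw [map_commutatorElement, commutatorElement_eq_one_iff_mul_comm, h1]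
    · rw [← Units.val_pow_eq_pow_val, ← comm_pow_left h1, commutatorElement_eq_one_iff_mul_comm.2 (units_comm hk v).symm,
        Units.val_one]
  have hmk : ∀ x ∈ fixR Y, ∀ hx : x * star x = 1, mkU x hx ∈ I := fun x hx hx' =>
    ⟨P5.mem_Iso_of_max hL hx', (mem_CU_lifts hY.le).2 hx⟩
  rw [← hnd.cen_eq hA]
  refine le_antisymm (fun x hx => ⟨hx, fun y hy => ?_⟩) fun x hx => hx.1
  by_contra hne
  let B := Blk.ofSubring (fixR Y) (star_fixR hnd.le_SAut)
  rcases nc2 (hnd.ss hA) ⟨B.mk' y hy, B.mk' x hx, fun e => hne (congrArg B.val e)⟩ with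
    ⟨f, h1, h2, h3⟩ | ⟨u, v, h1, h2, h3⟩
  · have h4 : star (B.val f) = B.val f := congrArg B.val h1
    have h5 : B.val f * B.val f = B.val f := congrArg B.val h2
    have h6 : B.val f ∉ Subring.center A := fun e => h3 (B.mem_center_iff.2 fun y _ => cen_comm e y)
    have h7 : B.val f ∈ fixR Y := B.val_mem f
    generalize B.val f = g at h4 h5 h6 h7
    obtain ⟨z, hz, h8, h9⟩ := hnd.exists_zeta h0
    have h10 : ∀ a b : A, b ∈ Subring.center A → (g + a * (1 - g)) * (g + b * (1 - g)) = g + a * b * (1 - g) := by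
      intro a b hb
      have e1 : g * (b * (1 - g)) = 0 := by rw [← mul_assoc, cen_comm hb, mul_assoc, mul_sub, mul_one, h5, sub_self, mul_zero]
      have e2 : (1 - g) * (b * (1 - g)) = b * (1 - g) := by rw [sub_mul, e1, one_mul, sub_zero]
      rw [add_mul, mul_add, mul_add, e1, h5, mul_assoc, mul_assoc, e2, sub_mul, one_mul, h5, sub_self, mul_zero, add_zero,
        zero_add, mul_assoc]
    have h11 : (g + z * (1 - g)) * star (g + z * (1 - g)) = 1 := by
      rw [star_add, star_mul, star_sub, star_one, h4, cen_comm (star_cen hz), h10 _ _ (star_cen hz), h8, one_mul,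
        add_sub_cancel]
    obtain ⟨k, hk⟩ := hP _ (hmk _ (add_mem h7 (mul_mem (hnd.cen_le hz) (sub_mem (one_mem _) h7))) h11)
    have h12 : ∀ j : ℕ, (g + z * (1 - g)) ^ j = g + z ^ j * (1 - g) := by
      intro j
      induction j with
      | zero => simp
      | succ j ih => rw [pow_succ, ih, h10 _ _ hz, pow_succ]
    rw [Units.val_pow_eq_pow_val, mkU_val, h12] at hk
    have h13 : z ^ p ^ k ∈ Subring.center A := pow_mem hz _
    obtain ⟨w, hw⟩ := Ext.isUnit_sub_one hA h13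
      (by rw [star_pow, ← (show Commute z (star z) from (cen_comm hz _).symm).mul_pow, h8, one_pow])
      fun e => h9 (eq_one_of_ppow hA hp hz h8 e)
    have h14 : g = (w⁻¹ : Aˣ) * (z ^ p ^ k - (g + z ^ p ^ k * (1 - g))) := by
      rw [Units.eq_inv_mul_iff_mul_eq, hw]
      noncomm_ring
    exact h6 (h14 ▸ mul_mem (inv_cen (hw ▸ sub_mem h13 (one_mem _))) (sub_mem h13 hk))
  · exact h3 (B.val_inj (congrArg Units.val (hC _ (hmk _ (B.val_mem u) (congrArg B.val h1)) _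
      (hmk _ (B.val_mem v) (congrArg B.val h2)))))

/-- the exponent is a prime -/
theorem Ab.exp {n : ℕ} (hn : Nat.card A = Nat.card (Subring.center A) ^ (n ^ 2)) (hc : Nat.card Y = n ^ 2) {r : ℕ}
    (hr : r.Prime) (h0 : ∃ x ∈ Y, x ≠ 1 ∧ x ^ r = 1) : ∀ x ∈ Y, x ^ r = 1 := by
  have : Fact r.Prime := ⟨hr⟩
  let f : Y →* RingAut A := MonoidHom.mk' (fun y => (y : RingAut A) ^ r) fun x y =>
    Commute.mul_pow (hY.comm x x.2 y y.2) r
  have hP : Ab F S f.range := hY.sub (by rintro _ ⟨y, rfl⟩; exact pow_mem y.2 r) (by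
    rintro s hs _ ⟨y, rfl⟩
    exact ⟨⟨_, hY.inv s hs y y.2⟩, conj_pow⟩)
  have hO : Ab F S (om Y hY.comm r) := hY.sub (fun _ hx => hx.1) (inv_om hY.inv r)
  by_contra hcon
  have h1 : f.range ≠ ⊥ := fun e => hcon fun x hx => by
    rw [← Subgroup.mem_bot, ← e]
    exact ⟨⟨x, hx⟩, rfl⟩
  have h2 : om Y hY.comm r ≠ ⊥ := fun e => by
    obtain ⟨x, hx, h3, h4⟩ := h0
    exact h3 (by rw [← Subgroup.mem_bot, ← e]; exact ⟨hx, h4⟩)
  have h3 : Nat.card (om Y hY.comm r) * Nat.card f.range = n ^ 2 := by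
    rw [← hc, ← Subgroup.card_mul_index f.ker, Subgroup.index_ker]
    congr 1
    exact Nat.card_congr ⟨fun x => ⟨⟨x, x.2.1⟩, x.2.2⟩, fun x => ⟨x.1, x.1.2, x.2⟩, fun _ => rfl, fun _ => rfl⟩
  have h4 : ¬ r ∣ Nat.card f.range := by
    intro hd
    obtain ⟨⟨x, hx⟩, h5⟩ := exists_prime_orderOf_dvd_card' r hd
    have h6 : x ^ r = 1 := by rw [← h5]; exact congrArg Subtype.val (pow_orderOf_eq_one (⟨x, hx⟩ : f.range))
    have h7 : x = 1 := (hP.nd h.le hN).nd x hx fun u hu hu' => by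
      obtain ⟨y, hy⟩ := hu'
      obtain ⟨v, hv, h8⟩ := hY.le y.2
      obtain ⟨w, -, rfl⟩ := hP.le hx
      obtain ⟨z, hz, rfl⟩ := cj_eq_iff.1 (show cj A u = cj A (v ^ r) by rw [← hy, map_pow, h8]; rfl)
      have h9 : cj A w * cj A v = cj A v * cj A w := by
        obtain ⟨y', h10⟩ := hx
        rw [h8, ← h10]
        exact hY.comm _ (pow_mem y'.2 r) _ y.2
      have h10 : ⁅v ^ r, w⁆ = 1 := by
        rw [comm_pow_left h9.symm, ← commutatorElement_inv, inv_pow, ← comm_pow_left h9,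
          commutatorElement_eq_one_iff_mul_comm.2 (units_comm (cj_eq_one_iff.1 (by rw [map_pow, h6])) v).symm, inv_one]
      refine cj_eq_of_mul ?_
      rw [← Units.val_mul, ← Units.val_mul, ← mul_assoc, ← commutatorElement_eq_one_iff_mul_comm.1 h10, mul_assoc,
        units_comm hz w, mul_assoc]
    rw [show (⟨x, hx⟩ : f.range) = 1 from Subtype.ext h7, orderOf_one] at h5
    exact hr.one_lt.ne h5
  have h5 : r ∣ Nat.card (om Y hY.comm r) := by
    have h6 : IsPGroup r (om Y hY.comm r) := fun x => ⟨1, Subtype.ext (by rw [pow_one]; exact x.2.2)⟩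
    exact (h6.card_eq_or_dvd).resolve_left (mt Subgroup.card_eq_one.1 h2)
  obtain ⟨k, h6, h7⟩ := hO.solv h hN h2 hn
  obtain ⟨k', h8, h9⟩ := hP.solv h hN h1 hn
  have h10 : Nat.card f.range = k ^ 2 := Nat.eq_of_mul_eq_mul_left Nat.card_pos (by rw [h3, h6, mul_comm])
  have h11 : Nat.card (om Y hY.comm r) = k' ^ 2 := Nat.eq_of_mul_eq_mul_right Nat.card_pos (by rw [h3, h8])
  have h12 : k ≠ 1 := fun e => h1 (Subgroup.card_eq_one.1 (by rw [h10, e]; rfl))
  rw [h11] at h5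
  rw [h10] at h4
  have h13 := hr.dvd_of_dvd_pow h5
  have h14 : ¬ r ∣ k := fun e => h4 (dvd_pow e two_ne_zero)
  have h15 := hY.card
  rw [hc, ← h3, h10, h11] at h15
  have h16 : ¬ Nat.card (Subring.center A) ∣ k' ^ 2 * k ^ 2 := fun e => cast_ne_of_dvd e h15 (by
    have := congrArg Subtype.val (card_nsmul_eq_zero' (x := (1 : Subring.center A)))
    simpa only [_root_.nsmul_eq_mul, _root_.mul_one, _root_.SubringClass.coe_natCast, _root_.ZeroMemClass.coe_zero] using this)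
  have h17 := hr.two_le
  have h18 : ∀ j, r ∣ j → 0 < j → r ≤ j := fun j hj h => Nat.le_of_dvd h hj
  generalize Nat.card (Subring.center A) = c at h7 h9 h16
  rcases h7 with h7 | ⟨rfl, -⟩ | ⟨rfl, h7⟩ | ⟨rfl, -⟩
  · exact h12 h7
  all_goals rcases h9 with rfl | ⟨rfl, -⟩ | ⟨rfl, h9⟩ | ⟨rfl, -⟩
  all_goals have h19 := h18 _ h13 (by norm_num)
  all_goals first
    | omega
    | exact h14 h13
    | (rcases h9 with ⟨rfl, -⟩ | ⟨rfl, -⟩ <;> exact h16 (by norm_num))
    | (rcases h7 with ⟨rfl, -⟩ | ⟨rfl, -⟩ <;> exact h16 (by norm_num))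
    | (interval_cases r <;> omega)

end ctx

end Cfsg.Agent.SB.C2
end

-- part: SB/C2/Fld
section
set_option linter.all false
open scoped Cfsg.Agent.FastGrp

/-!
# Subfields of endomorphism rings (helper56)
-/

set_option autoImplicit false

namespace Cfsg.Agent.SB.C2

open Cfsg Cfsg.Agent.DS.Cl Module

theorem card_fix {E : Type} [Field E] [Finite E] {Q t : ℕ} (hc : Nat.card E = Q ^ t) (hQ : 2 ≤ Q) :
    Nat.card {x : E // x ^ Q = x} = Q := by
  classical
  have h1 : Nat.card (powMonoidHom (Q - 1) : Eˣ →* Eˣ).ker = Q - 1 := by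
    rw [IsCyclic.card_powMonoidHom_ker, Nat.card_units, hc]
    exact Nat.gcd_eq_right (by simpa using Nat.sub_dvd_pow_sub_pow Q 1 t)
  have h2 : Q = Q - 1 + 1 := by omega
  refine Eq.trans ?_ (Finite.card_option.trans (by rw [h1, ← h2]))
  refine (Nat.card_congr (Equiv.ofBijective (fun o : Option (powMonoidHom (Q - 1) : Eˣ →* Eˣ).ker =>
    o.elim ⟨0, zero_pow (by omega)⟩ fun u => ⟨u.1, by
      have h3 : u.1 ^ (Q - 1) = 1 := u.2
      rw [← pow_sub_one_mul (by omega), ← Units.val_pow_eq_pow_val, h3, Units.val_one, one_mul]⟩) ⟨?_, fun x => ?_⟩)).symm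
  · rintro (_ | u) (_ | v) e
    · rfl
    · exact absurd (congrArg Subtype.val e).symm v.1.ne_zero
    · exact absurd (congrArg Subtype.val e) u.1.ne_zero
    · exact congrArg some (Subtype.ext (Units.ext (congrArg Subtype.val e)))
  · by_cases h0 : x.1 = 0
    · exact ⟨none, Subtype.ext h0.symm⟩
    · refine ⟨some ⟨Units.mk0 _ h0, Units.ext (mul_right_cancel₀ h0 ?_)⟩, rfl⟩
      rw [powMonoidHom_apply, Units.val_pow_eq_pow_val, Units.val_mk0, ← pow_succ, ← h2, x.2, Units.val_one, one_mul]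

variable {A : Type} [Ring A]

/-- a subfield -/
structure IsF (W : Subring A) : Prop where
  comm : ∀ x ∈ W, ∀ y ∈ W, x * y = y * x
  inv : ∀ x ∈ W, x ≠ 0 → ∃ y ∈ W, x * y = 1

theorem IsF.isField [Nontrivial A] {W : Subring A} (h : IsF W) : IsField W :=
  ⟨exists_pair_ne W, fun x y => Subtype.ext (h.comm _ x.2 _ y.2), fun {x} hx => by
    obtain ⟨y, hy, e⟩ := h.inv x x.2 fun e => hx (Subtype.ext e)
    exact ⟨⟨y, hy⟩, Subtype.ext e⟩⟩

theorem IsF.isUnit {W : Subring A} (h : IsF W) {x : A} (hx : x ∈ W) (h0 : x ≠ 0) : IsUnit x := by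
  obtain ⟨y, hy, e⟩ := h.inv x hx h0
  exact ⟨⟨x, y, e, (h.comm y hy x hx).trans e⟩, rfl⟩

theorem IsF.sub [Finite A] [Nontrivial A] {Z : Subring A} (h : IsF Z) {Q t : ℕ} (ht : t ≠ 0) (hQ : 2 ≤ Q)
    (hc : Nat.card Z = Q ^ t) : ∃ W : Subring A, (∀ x, x ∈ W ↔ x ∈ Z ∧ x ^ Q = x) ∧ IsF W ∧ Nat.card W = Q := by
  let := h.isField.toField
  have := Fintype.ofFinite Z
  obtain ⟨p, _, n, hp, h1⟩ := FiniteField.card' Z
  have : Fact p.Prime := ⟨hp⟩
  rw [← Nat.card_eq_fintype_card, hc] at h1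
  obtain ⟨i, -, rfl⟩ := (Nat.dvd_prime_pow hp).1 (h1 ▸ dvd_pow_self Q ht : Q ∣ p ^ (n : ℕ))
  let W := RingHom.eqLocus (iterateFrobenius Z p i) (RingHom.id Z)
  have h2 : ∀ x, x ∈ W.map Z.subtype ↔ x ∈ Z ∧ x ^ p ^ i = x := fun x =>
    ⟨by rintro ⟨y, hy, rfl⟩; exact ⟨y.2, congrArg Subtype.val hy⟩, fun hx => ⟨⟨x, hx.1⟩, Subtype.ext hx.2, rfl⟩⟩
  refine ⟨W.map Z.subtype, h2, ⟨fun x hx y hy => h.comm x ((h2 x).1 hx).1 y ((h2 y).1 hy).1, fun x hx h0 => ?_⟩, ?_⟩
  · obtain ⟨h3, h4⟩ := (h2 x).1 hx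
    obtain ⟨y, hy, e⟩ := h.inv x h3 h0
    refine ⟨y, (h2 y).2 ⟨hy, (h.isUnit h3 h0).mul_left_cancel ?_⟩, e⟩
    nth_rw 1 [← h4]
    rw [← Commute.mul_pow (h.comm x h3 y hy), e, one_pow]
  · refine Eq.trans ?_ (card_fix hc hQ)
    exact (Nat.card_congr (Equiv.ofBijective (fun x : {x : Z // x ^ p ^ i = x} => (⟨x.1, (h2 _).2 ⟨x.1.2, congrArg Subtype.val x.2⟩⟩ :
      W.map Z.subtype))
      ⟨fun x y e => Subtype.ext (Subtype.ext (Subtype.mk.inj e)), fun x =>
        ⟨⟨⟨x.1, ((h2 _).1 x.2).1⟩, Subtype.ext ((h2 _).1 x.2).2⟩, rfl⟩⟩)).symm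

theorem ss_of_simple [StarRing A] {B : Subring A} (hs : ∀ x ∈ B, star x ∈ B) (h : IsSimpleRing B) :
    SS (Blk.ofSubring B hs).T := by
  let e : B ≃+* (Blk.ofSubring B hs).T := ⟨Equiv.refl _, fun _ _ => rfl, fun _ _ => rfl⟩
  obtain ⟨h1, h2⟩ := isSimpleRing_iff_isTwoSided_imp.1 (IsSimpleRing.of_ringEquiv e h)
  exact ⟨h1, fun I h3 _ => h2 I ⟨fun b ha => h3 _ ha b⟩⟩

variable {K V : Type} [Field K] [AddCommGroup V] [Module K V] [Finite V] [Nontrivial V] (e : A ≃+* End K V)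
include e

/-- **The centralizer of a subfield.** -/
theorem IsF.cent {W : Subring A} (h : IsF W) (h1 : Subring.center A ≤ W) :
    ∃ m, Nat.card V = Nat.card W ^ m ∧ Nat.card (Subring.centralizer (W : Set A)) = Nat.card W ^ (m ^ 2) ∧
      IsSimpleRing (Subring.centralizer (W : Set A)) ∧ cenOf (Subring.centralizer (W : Set A)) = W ∧
      ∀ y ∈ Subring.centralizer (W : Set A), (∀ v, ∃ w ∈ W, e y v = e w v) → y ∈ W := by
  have : Nontrivial A := e.toEquiv.nontrivial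
  have : Finite (End K V) := Finite.of_injective (fun a : End K V => (a : V → V)) DFunLike.coe_injective
  have : Finite A := Finite.of_equiv _ e.toEquiv.symm
  let := h.isField.toField
  let : Module W V := Module.compHom V (e.toRingHom.comp W.subtype)
  have hs : ∀ (w : W) (v : V), w • v = e w v := fun _ _ => rfl
  let f : Subring.centralizer (W : Set A) →+* End W V :=
    { toFun := fun a =>
        { toFun := e a
          map_add' := map_add _
          map_smul' := fun w v => by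
            rw [hs, RingHom.id_apply, hs, ← End.mul_apply, ← End.mul_apply, ← map_mul, ← map_mul, a.2 w w.2] }
      map_one' := LinearMap.ext fun v => by simp
      map_mul' := fun a b => LinearMap.ext fun v => by simp
      map_zero' := LinearMap.ext fun v => by simp
      map_add' := fun a b => LinearMap.ext fun v => by simp }
  have hf : Function.Bijective f := ⟨fun a b hab => Subtype.ext (e.injective (LinearMap.ext fun v =>
    LinearMap.congr_fun hab v)), fun g => by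
    let g' : End K V :=
      { toFun := g
        map_add' := map_add _
        map_smul' := fun c v => by
          have h2 := g.map_smul ⟨_, h1 (P5.cen_smul e c)⟩ v
          simpa [hs] using h2 }
    refine ⟨⟨e.symm g', fun w hw => e.injective (LinearMap.ext fun v => ?_)⟩, LinearMap.ext fun v => ?_⟩
    · rw [map_mul, map_mul, e.apply_symm_apply]
      exact (g.map_smul ⟨w, hw⟩ v).symm
    · exact LinearMap.congr_fun (e.apply_symm_apply g') v⟩
  let e' := RingEquiv.ofBijective f hf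
  have h2 : ∀ (y : Subring.centralizer (W : Set A)) (c : W), e' y = c • 1 → y.1 ∈ W := fun y c hc => by
    rw [show y.1 = c from e.injective (LinearMap.ext fun v => LinearMap.congr_fun hc v)]
    exact c.2
  have : Nonempty (Free.ChooseBasisIndex W V) := (Free.chooseBasis W V).index_nonempty
  refine ⟨finrank W V, Module.natCard_eq_pow_finrank, (Nat.card_congr e'.toEquiv).trans (card_end W V),
    IsSimpleRing.of_ringEquiv (e'.trans (algEquivMatrix (Free.chooseBasis W V)).toRingEquiv).symm inferInstance,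
    le_antisymm (fun z hz => ?_) fun z hz => ⟨fun y hy => h.comm y hy z hz, fun y hy => (hy z hz).symm⟩,
    fun y hy h3 => ?_⟩
  · obtain ⟨c, hc⟩ := P5.exists_smul e' (z := ⟨z, hz.1⟩) (Subring.mem_center_iff.2 fun y => Subtype.ext (hz.2 y y.2))
    exact h2 ⟨z, hz.1⟩ c (by rw [hc, e'.apply_symm_apply])
  · obtain ⟨c, hc⟩ := (e' ⟨y, hy⟩).exists_eq_smul_id_of_forall_notLinearIndependent fun v h4 => by
      obtain ⟨w, hw, h5⟩ := h3 v
      exact (LinearIndependent.pair_iff' (h4.ne_zero 0)).1 h4 ⟨w, hw⟩ h5.symm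
    exact h2 _ c hc

/-- a subfield with a non-trivial involution has even degree -/
theorem IsF.quad [StarRing A] [Finite K] {Z : Subring A} (h : IsF Z) (h1 : Subring.center A ≤ Z)
    (hs : ∀ x ∈ Z, star x ∈ Z) (h2 : ∀ c ∈ Subring.center A, star c = c) (h3 : ∃ z ∈ Z, star z ≠ z) :
    ∃ t, t ≠ 0 ∧ Nat.card Z = (Nat.card K ^ 2) ^ t := by
  have : Nontrivial A := e.toEquiv.nontrivial
  have : Finite (End K V) := Finite.of_injective (fun a : End K V => (a : V → V)) DFunLike.coe_injective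
  have : Finite A := Finite.of_equiv _ e.toEquiv.symm
  let := h.isField.toField
  have h4 : ∀ c : K, e.symm (algebraMap K (End K V) c) ∈ Subring.center A := fun c => by
    rw [Algebra.algebraMap_eq_smul_one]
    exact P5.cen_smul e c
  let : Algebra K Z := ((e.symm.toRingHom.comp (algebraMap K (End K V))).codRestrict Z fun c => h1 (h4 c)).toAlgebra
  let σ : Z →ₐ[K] Z :=
    { toFun := fun z => ⟨star z, hs _ z.2⟩
      map_one' := Subtype.ext (star_one A)
      map_mul' := fun x y => Subtype.ext ((star_mul x.1 y.1).trans (h.comm _ (hs _ y.2) _ (hs _ x.2)))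
      map_zero' := Subtype.ext (star_zero A)
      map_add' := fun x y => Subtype.ext (star_add x.1 y.1)
      commutes' := fun c => Subtype.ext (h2 _ (h4 c)) }
  have h5 : σ.comp σ = AlgHom.id K Z := AlgHom.ext fun z => Subtype.ext (star_star z.1)
  have h6 : orderOf (AlgEquiv.ofAlgHom σ σ h5 h5) = 2 := orderOf_eq_prime
    (AlgEquiv.ext fun z => Subtype.ext (star_star z.1)) fun e => by
      obtain ⟨z, hz, h6⟩ := h3
      exact h6 (congrArg Subtype.val (AlgEquiv.congr_fun e ⟨z, hz⟩))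
  obtain ⟨t, ht⟩ : 2 ∣ finrank K Z := by
    rw [← h6, ← IsGalois.card_aut_eq_finrank]
    exact orderOf_dvd_natCard _
  refine ⟨t, fun e => (finrank_pos (R := K) (M := Z)).ne' (by rw [ht, e]), ?_⟩
  rw [← pow_mul, ← ht]
  exact Module.natCard_eq_pow_finrank

end Cfsg.Agent.SB.C2
end

-- part: SB/B2/Main
section
prune_inst 0x11000401162000000000090212000004400019000400400c4210a460200204a0d8000400d8020175208010100050008130000900000000000200400000400000080100420400008800096000080000000000000000000000000000000000004000000000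
set_option linter.all false
open scoped Cfsg.Agent.FastGrp

-- part: SB/B2/Abs
section
/-!
# S5765, `Sp₄(2^a)` with graph automorphisms: abstract lemmas (helper52)

* `seven_of_triple` : the trick with one regular triple on an abelian normal subgroup;
* `seven_of_pair` : two elements of `N` whose common centralizer contains `N` with index at most two;
* `card_inf_le_pow` : a bound for `|S ∩ T|`.
-/

set_option autoImplicit false

namespace Cfsg.Agent.SB.B2

open Subgroup Cfsg Cfsg.Agent.H786.FC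

universe u

/-- greedy choice of independent elements -/
theorem greedy {Ω : Type*} [Finite Ω] (B : Set Ω) (R : Ω → Ω → Prop) (hs : ∀ x y, R x y → R y x) (d : ℕ)
    (hd : ∀ x, {y | R x y}.ncard ≤ d) (n : ℕ) (h : B.ncard + n * d < Nat.card Ω) :
    ∃ f : Fin n → Ω, (∀ c, f c ∉ B) ∧ ∀ c c', R (f c) (f c') → c = c' := by
  classical
  induction n with
  | zero => exact ⟨Fin.elim0, fun c => c.elim0, fun c => c.elim0⟩
  | succ n ih =>
    obtain ⟨f, hf, hR⟩ := ih (by linarith only [h])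
    have h1 : (B ∪ ⋃ c : Fin n, {y | R (f c) y}).ncard < Nat.card Ω := by
      refine lt_of_le_of_lt (Set.ncard_union_le _ _) (lt_of_le_of_lt (Nat.add_le_add_left ?_ _) (by linarith only [h] : B.ncard + n * d < _))
      refine (Set.ncard_iUnion_le_of_fintype _).trans ?_
      calc ∑ c : Fin n, {y | R (f c) y}.ncard ≤ ∑ _c : Fin n, d := Finset.sum_le_sum fun c _ => hd _
        _ = n * d := by simp only [_root_.Finset.sum_const, _root_.Finset.card_univ, _root_.Fintype.card_fin, _root_.smul_eq_mul]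
    obtain ⟨y, hy⟩ : ∃ y, y ∉ (B ∪ ⋃ c : Fin n, {y | R (f c) y}) := by
      by_contra hcon
      push Not at hcon
      rw [Set.eq_univ_of_forall hcon, Set.ncard_univ] at h1
      exact lt_irrefl _ h1
    simp only [Set.mem_union, Set.mem_iUnion, Set.mem_ofPred_eq, not_or, not_exists] at hy
    refine ⟨Fin.cons y f, fun c => ?_, fun c c' => ?_⟩
    · refine Fin.cases ?_ (fun c => ?_) c
      · exact hy.1
      · exact hf c
    · refine Fin.cases ?_ (fun c => ?_) c <;> refine Fin.cases ?_ (fun c' => ?_) c'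
      · exact fun _ => rfl
      · exact fun h2 => absurd (hs _ _ h2) (hy.2 c')
      · exact fun h2 => absurd h2 (hy.2 c)
      · exact fun h2 => congrArg Fin.succ (hR c c' h2)

variable {A : Type u} [Group A] [Finite A] {T S N : Subgroup A}

/-- **The trick**, one regular triple on an abelian normal subgroup. -/
theorem seven_of_triple (hT : T.Normal) (hS : Group.IsSolvable S) (h7 : 7 ≤ S.relIndex T) (hNS : N ≤ S)
    (hNn : ∀ s ∈ S, ∀ v ∈ N, s * v * s⁻¹ ∈ N) (hNc : ∀ a ∈ N, ∀ b ∈ N, a * b = b * a) {x : A} (hx : x ∈ T)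
    (hxN : ∀ v ∈ N, x⁻¹ * v * x ∈ S → v = 1) {v₁ v₂ v₃ : A} (h1 : v₁ ∈ N) (h2 : v₂ ∈ N) (h3 : v₃ ∈ N)
    (hb : ∀ k ∈ S, x⁻¹ * k * x ∈ S → k * v₁ = v₁ * k → k * v₂ = v₂ * k → k * v₃ = v₃ * k → k = 1) : Seven T S := by
  let _ : CommGroup N :=
    { (inferInstance : Group _) with
      mul_comm := fun a b => Subtype.ext (hNc a a.2 b b.2) }
  let D : Subgroup A := S ⊓ S.comap (MulAut.conj x⁻¹).toMonoidHom
  have hD : ∀ k, k ∈ D ↔ k ∈ S ∧ x⁻¹ * k * x ∈ S := fun k => by simp only [D, _root_.map_inv, _root_.MulEquiv.toMonoidHom_eq_coe, _root_.Subgroup.mem_inf, _root_.Subgroup.mem_comap, _root_.MonoidHom.coe_coe, _root_.MulAut.inv_apply, _root_.MulAut.conj_symm_apply]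
  have hDs : Group.IsSolvable D :=
    Group.isSolvable_of_isSolvable_injective (f := inclusion (inf_le_left : D ≤ S)) (inclusion_injective _)
  let _ : DistribMulAction D (Additive N) :=
    { smul := fun d a => Additive.ofMul ⟨(d : A) * (a.toMul : N) * (d : A)⁻¹, hNn _ ((hD _).1 d.2).1 _ a.toMul.2⟩
      one_smul := fun a => Subtype.ext (by
        show ((1 : D) : A) * (a.toMul : N) * ((1 : D) : A)⁻¹ = (a.toMul : N); simp only [_root_.OneMemClass.coe_one, _root_.one_mul, _root_.inv_one, _root_.mul_one])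
      mul_smul := fun d e a => Subtype.ext (by
        show ((d * e : D) : A) * (a.toMul : N) * ((d * e : D) : A)⁻¹ =
          (d : A) * ((e : A) * (a.toMul : N) * (e : A)⁻¹) * (d : A)⁻¹
        simp only [mul_assoc, _root_.Subgroup.coe_mul, _root_.mul_inv_rev])
      smul_zero := fun d => Subtype.ext (by show (d : A) * 1 * (d : A)⁻¹ = 1; simp)
      smul_add := fun d a b => Subtype.ext (by
        show (d : A) * (((a.toMul : N) : A) * (b.toMul : N)) * (d : A)⁻¹ =
          (d : A) * (a.toMul : N) * (d : A)⁻¹ * ((d : A) * (b.toMul : N) * (d : A)⁻¹)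
        group) }
  have hsm : ∀ (d : D) (a b : Additive N), d • a = b ↔ (d : A) * (a.toMul : N) * (d : A)⁻¹ = (b.toMul : N) :=
    fun d a b => ⟨fun h => congrArg (fun z : Additive N => ((z.toMul : N) : A)) h, fun h => Subtype.ext h⟩
  let v : Fin 3 → Additive N := ![Additive.ofMul ⟨v₁, h1⟩, Additive.ofMul ⟨v₂, h2⟩, Additive.ofMul ⟨v₃, h3⟩]
  have hv : ∀ d : D, d • v = v → d = 1 := by
    intro d hd
    have a : ∀ i, (d : A) * ((v i).toMul : N) = ((v i).toMul : N) * d := fun i =>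
      mul_inv_eq_iff_eq_mul.1 ((hsm _ _ _).1 (congrFun hd i))
    exact Subtype.ext (hb d ((hD _).1 d.2).1 ((hD _).1 d.2).2 (a 0) (a 1) (a 2))
  rcases pair_or_seven hDs v hv with ⟨y, z, hyz⟩ | ⟨w, hw⟩
  · refine seven_of_four (four_of_trick hT hNS hNn hx hxN y.toMul.2 z.toMul.2 fun k hk hkx a b => ?_) h7
    exact congrArg Subtype.val (hyz ⟨k, (hD k).2 ⟨hk, hkx⟩⟩ ((hsm _ _ _).2 a) ((hsm _ _ _).2 b))
  · refine seven_of_trick hT hNS hNn hx hxN (fun c i => ((w c i).toMul : N))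
      (fun c i => (w c i).toMul.2) fun k hk hkx c c' hi => ?_
    have h4 := hw ⟨k, (hD k).2 ⟨hk, hkx⟩⟩ c c' (funext fun i => (hsm _ _ _).2 (hi i))
    exact ⟨h4.1, congrArg Subtype.val h4.2⟩

/-- a bound for the number of `x ∈ T` conjugating `β ∈ S` into `S` -/
theorem hits_le_sq (hT : T.Normal) {β : A} (hβ : β ∈ S) (hC : ∀ t ∈ T, t * β = β * t → t ∈ S) :
    hits T S β ≤ Nat.card ↥(S ⊓ T) * Nat.card ↥(S ⊓ T) := by
  rw [hits_eq]
  refine Nat.mul_le_mul (card_le_of_le fun t ht => mem_inf.2 ⟨hC t (mem_inf.1 ht).1 ?_, (mem_inf.1 ht).1⟩) ?_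
  · exact mem_centralizer_singleton_iff.1 (mem_inf.1 ht).2
  · refine Nat.card_le_card_of_injective
      (fun y : {y : S // ∃ x ∈ T, x⁻¹ * β * x = y} => (⟨(y.1 : A) * β⁻¹, mem_inf.2 ⟨mul_mem y.1.2 (inv_mem hβ), ?_⟩⟩ : ↥(S ⊓ T))) ?_
    · obtain ⟨x, hx, hy⟩ := y.2
      rw [← hy]
      have h1 := mul_mem (inv_mem hx) (hT.conj_mem x hx β)
      simpa only [mul_assoc] using h1
    · intro y y' h
      have h1 : (y.1 : A) * β⁻¹ = (y'.1 : A) * β⁻¹ := congrArg Subtype.val h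
      exact Subtype.ext (Subtype.ext (mul_right_cancel h1))

theorem ncard_coset_le (hT : T.Normal) {s : A} (hs : s ∈ S) (y : T) :
    {y' : T | (y : A)⁻¹ * s * y' ∈ S}.ncard ≤ Nat.card ↥(S ⊓ T) := by
  rw [← Nat.card_coe_set_eq]
  refine Nat.card_le_card_of_injective
    (fun z : {y' : T | (y : A)⁻¹ * s * y' ∈ S} => (⟨(y : A)⁻¹ * s * z.1 * s⁻¹, mem_inf.2 ⟨mul_mem z.2 (inv_mem hs), ?_⟩⟩ :
      ↥(S ⊓ T))) ?_
  · have h1 := mul_mem (inv_mem y.2) (hT.conj_mem _ z.1.2 s)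
    simpa only [mul_assoc] using h1
  · intro z z' h
    have h1 : (y : A)⁻¹ * s * z.1 * s⁻¹ = (y : A)⁻¹ * s * z'.1 * s⁻¹ := congrArg Subtype.val h
    exact Subtype.ext (Subtype.ext (mul_left_cancel (mul_right_cancel h1)))

/-- **Two elements** of the abelian normal subgroup `N` of odd order whose common centralizer contains `N` with index at
most two. -/
theorem seven_of_pair (hT : AS T) (hS : Group.IsSolvable S) (hm : MaxInv T S) (h7 : 7 ≤ S.relIndex T) (hNS : N ≤ S)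
    (hNn : ∀ s ∈ S, ∀ v ∈ N, s * v * s⁻¹ ∈ N) (hNc : ∀ a ∈ N, ∀ b ∈ N, a * b = b * a)
    (hodd : ∀ n ∈ N, n * n = 1 → n = 1) {a b : A} (ha : a ∈ N) (hb : b ∈ N)
    (h2 : ∀ k k' : A, k * a = a * k → k * b = b * k → k' * a = a * k' → k' * b = b * k' → k ∈ N ∨ k' ∈ N ∨ k * k' ∈ N)
    (hbig : ∀ β : A, β ∉ N → (∀ n ∈ N, β * n = n * β) →
      Nat.card ↥(S ⊓ T) * Nat.card ↥(S ⊓ T) + 14 * Nat.card ↥(S ⊓ T) < Nat.card T)
    {x : A} (hx : x ∈ T) (hxN : ∀ v ∈ N, x⁻¹ * v * x ∈ S → v = 1) : Seven T S := by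
  classical
  by_cases hex : ∀ k ∈ S, x⁻¹ * k * x ∈ S → k * a = a * k → k * b = b * k → k = 1
  · exact seven_of_triple hT.normal hS h7 hNS hNn hNc hx hxN ha hb hb fun k hk hkx h1 h3 _ => hex k hk hkx h1 h3
  push Not at hex
  obtain ⟨β, hβ, hβx, hβa, hβb, hβ1⟩ := hex
  have hβN : β ∉ N := fun h => hβ1 (hxN β h hβx)
  have hmul : ∀ k k' : A, x⁻¹ * k * x ∈ S → x⁻¹ * k' * x ∈ S → x⁻¹ * (k * k') * x ∈ S := by
    intro k k' h1 h3
    have h4 := mul_mem h1 h3
    have e : x⁻¹ * k * x * (x⁻¹ * k' * x) = x⁻¹ * (k * k') * x := by group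
    rwa [e] at h4
  have hββ : β * β = 1 := by
    rcases h2 β β hβa hβb hβa hβb with h | h | h
    · exact absurd h hβN
    · exact absurd h hβN
    · exact hxN _ h (hmul _ _ hβx hβx)
  have hE : ∀ k : A, x⁻¹ * k * x ∈ S → k * a = a * k → k * b = b * k → k = 1 ∨ k = β := by
    intro k hkx h1 h3
    rcases h2 k β h1 h3 hβa hβb with h | h | h
    · exact Or.inl (hxN _ h hkx)
    · exact absurd h hβN
    · right
      have h4 := hxN _ h (hmul _ _ hkx hβx)
      exact mul_right_cancel (h4.trans hββ.symm)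
  by_cases hz : ∃ z ∈ N, β * z ≠ z * β
  · obtain ⟨z, hz, hzβ⟩ := hz
    refine seven_of_triple hT.normal hS h7 hNS hNn hNc hx hxN ha hb hz fun k _ hkx h1 h3 h4 => ?_
    rcases hE k hkx h1 h3 with h | h
    · exact h
    · exact absurd (h ▸ h4) hzβ
  push Not at hz
  -- `S` centralizes `β`
  have hSβ : ∀ s ∈ S, s * β * s⁻¹ = β := by
    intro s hs
    have h1 : ∀ n ∈ N, s * β * s⁻¹ * n = n * (s * β * s⁻¹) := by
      intro n hn
      have h3 := hz _ (hNn s⁻¹ (inv_mem hs) n hn)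
      calc s * β * s⁻¹ * n = s * (β * (s⁻¹ * n * s⁻¹⁻¹)) * s⁻¹ := by group
        _ = n * (s * β * s⁻¹) := by rw [h3]; group
    rcases h2 (s * β * s⁻¹) β (h1 a ha) (h1 b hb) hβa hβb with h | h | h
    · exfalso
      apply hβN
      have h3 := hNn s⁻¹ (inv_mem hs) _ h
      have e : s⁻¹ * (s * β * s⁻¹) * s⁻¹⁻¹ = β := by group
      rwa [e] at h3
    · exact absurd h hβN
    · have h3 : s * β * s⁻¹ * β * (s * β * s⁻¹ * β) = 1 := by
        have h4 := hz _ h
        calc s * β * s⁻¹ * β * (s * β * s⁻¹ * β) = s * β * s⁻¹ * (β * (s * β * s⁻¹ * β)) := by group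
          _ = s * β * s⁻¹ * (s * β * s⁻¹ * β * β) := by rw [h4]
          _ = s * (β * β) * s⁻¹ * (β * β) := by group
          _ = 1 := by rw [hββ]; group
      exact mul_right_cancel ((hodd _ h h3).trans hββ.symm)
  have hC : ∀ t ∈ T, t * β = β * t → t ∈ S := by
    intro t ht htβ
    refine hm.mem_of_centralizes hT (X := zpowers β) (by rwa [Ne, zpowers_eq_bot]) (fun hle => ?_) ?_ ht ?_
    · refine hT.nonab ⟨⟨fun p q => Subtype.ext ?_⟩⟩
      obtain ⟨i, hi⟩ := mem_zpowers_iff.1 (hle p.2)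
      obtain ⟨j, hj⟩ := mem_zpowers_iff.1 (hle q.2)
      show (p : A) * q = q * p
      rw [← hi, ← hj, ← zpow_add, ← zpow_add, add_comm]
    · intro s hs y hy
      obtain ⟨i, rfl⟩ := mem_zpowers_iff.1 hy
      rw [← conj_zpow, hSβ s hs]
      exact zpow_mem_zpowers _ _
    · intro y hy
      obtain ⟨i, rfl⟩ := mem_zpowers_iff.1 hy
      exact (Commute.zpow_right htβ i).eq
  have hB := hits_le_sq hT.normal hβ hC
  have hbig' := hbig β hβN hz
  obtain ⟨f, hf, hR⟩ := greedy {y : T | (y : A)⁻¹ * β * y ∈ S}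
    (fun y y' : T => (y : A)⁻¹ * 1 * y' ∈ S ∨ (y : A)⁻¹ * β * y' ∈ S)
    (by
      rintro y y' (h | h)
      · left
        have h1 := inv_mem h
        have e : ((y : A)⁻¹ * 1 * y')⁻¹ = (y' : A)⁻¹ * 1 * y := by group
        rwa [e] at h1
      · right
        have h1 := inv_mem h
        have e : ((y : A)⁻¹ * β * y')⁻¹ = (y' : A)⁻¹ * β * y := by
          rw [mul_inv_rev, mul_inv_rev, inv_inv, inv_eq_of_mul_eq_one_right hββ, mul_assoc]
        rwa [e] at h1)
    (2 * Nat.card ↥(S ⊓ T))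
    (fun y => by
      have e : {y' : T | (y : A)⁻¹ * 1 * y' ∈ S ∨ (y : A)⁻¹ * β * y' ∈ S} =
        {y' : T | (y : A)⁻¹ * 1 * y' ∈ S} ∪ {y' : T | (y : A)⁻¹ * β * y' ∈ S} := rfl
      rw [e, two_mul]
      exact (Set.ncard_union_le _ _).trans
        (Nat.add_le_add (ncard_coset_le hT.normal (one_mem _) y) (ncard_coset_le hT.normal hβ y)))
    7 (by
      have e : {y : T | (y : A)⁻¹ * β * y ∈ S}.ncard = hits T S β := (Nat.card_coe_set_eq _).symm
      rw [e]
      omega)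
  refine ⟨fun c => ![x, a * x * a⁻¹, b * x * b⁻¹, f c], fun c i => ?_, fun s hs c c' hi => ?_⟩
  · fin_cases i
    exacts [hx, hT.normal.conj_mem x hx _, hT.normal.conj_mem x hx _, (f c).2]
  · have e1 := trick_key hNS hNn hxN ha ha hs (hi 0) (hi 1)
    have e2 := trick_key hNS hNn hxN hb hb hs (hi 0) (hi 2)
    have e3 : ((f c : T) : A)⁻¹ * s * (f c' : T) ∈ S := hi 3
    rcases hE s (hi 0) (mul_inv_eq_iff_eq_mul.1 e1) (mul_inv_eq_iff_eq_mul.1 e2) with h | h
    · subst h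
      exact ⟨hR c c' (Or.inl e3), rfl⟩
    · subst h
      have h1 := hR c c' (Or.inr e3)
      subst h1
      exact absurd e3 (hf c)

/-- a bound for `|S ∩ T|` -/
theorem card_inf_le_pow (hNn : ∀ s ∈ S, ∀ v ∈ N, s * v * s⁻¹ ∈ N) {n : ℕ} (v : Fin n → A) (hv : ∀ i, v i ∈ N)
    (hC : ∀ t ∈ T, (∀ i, t * v i = v i * t) → t ∈ N) : Nat.card ↥(S ⊓ T) ≤ Nat.card N ^ (n + 1) := by
  classical
  let g : ↥(S ⊓ T) → (Fin n → N) := fun t i => ⟨(t : A) * v i * (t : A)⁻¹, hNn _ (mem_inf.1 t.2).1 _ (hv i)⟩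
  let r : (Fin n → N) → ↥(S ⊓ T) := Function.invFun g
  have hr : ∀ t, g (r (g t)) = g t := fun t => Function.invFun_eq ⟨t, rfl⟩
  have hN : ∀ t : ↥(S ⊓ T), ((r (g t) : ↥(S ⊓ T)) : A)⁻¹ * t ∈ N := by
    intro t
    refine hC _ (mul_mem (inv_mem (mem_inf.1 (r (g t)).2).2) (mem_inf.1 t.2).2) fun i => ?_
    have h1 : ((r (g t) : ↥(S ⊓ T)) : A) * v i * ((r (g t) : ↥(S ⊓ T)) : A)⁻¹ = (t : A) * v i * (t : A)⁻¹ :=
      congrArg Subtype.val (congrFun (hr t) i)
    calc ((r (g t) : ↥(S ⊓ T)) : A)⁻¹ * t * v i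
        = ((r (g t) : ↥(S ⊓ T)) : A)⁻¹ * ((t : A) * v i * (t : A)⁻¹) * t := by group
      _ = _ := by rw [← h1]; group
  have h1 := Nat.card_le_card_of_injective (fun t : ↥(S ⊓ T) => (g t, (⟨_, hN t⟩ : N))) (by
    intro t t' h
    have h2 : g t = g t' := congrArg Prod.fst h
    have h3 : ((r (g t) : ↥(S ⊓ T)) : A)⁻¹ * t = ((r (g t') : ↥(S ⊓ T)) : A)⁻¹ * t' :=
      congrArg (fun p : (Fin n → N) × N => (p.2 : A)) h
    rw [h2] at h3
    exact Subtype.ext (mul_left_cancel h3))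
  rwa [Nat.card_prod, Nat.card_fun, Nat.card_fin, ← pow_succ] at h1

end Cfsg.Agent.SB.B2
end

-- part: SB/B2/Lam
section
/-!
# S5765, `Sp₄(2^a)` with graph automorphisms: choice of parameters (helper52)

Variants of `H88.FC.exists_lam`, `H88.FC.Exc.exists_reg` without the hypothesis on cube roots of unity.
-/

set_option autoImplicit false
set_option linter.unusedSectionVars false

namespace Cfsg.Agent.SB.B2

open Matrix Cfsg.Agent.ClassicalGeometry.Sp4Graph Cfsg.Agent.H88.FC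

variable {F : Type*} [Field F] [CharP F 2]

/-- a generator of `F` avoiding the eigenvalues -/
theorem exists_lam [Finite F] (hq : 4 ≤ Nat.card F) {k₁ k₂ : F} (hk : k₁ ≠ 0) (hk2 : k₂ ≠ 0) :
    ∃ l : F, (1 + l ^ 2) ^ 2 + k₁ * (l * (1 + l ^ 2)) + k₂ * l ^ 2 ≠ 0 ∧
      ∀ φ : F ≃+* F, φ l = l → φ k₁ = k₁ → ∀ a, φ a = a := by
  have h2 : (2 : F) = 0 := CharTwo.two_eq_zero
  obtain ⟨g, hg⟩ := IsCyclic.exists_generator (α := Fˣ)
  have hfix : ∀ φ : F ≃+* F, φ g = g → ∀ a, φ a = a := by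
    intro φ hφ a
    by_cases ha : a = 0
    · rw [ha, map_zero]
    · obtain ⟨k, hk⟩ := Subgroup.mem_zpowers_iff.1 (hg (Units.mk0 a ha))
      have h4 : a = (g : F) ^ k := by
        have := congrArg Units.val hk
        rw [Units.val_zpow_eq_zpow_val] at this
        exact this.symm
      rw [h4, map_zpow₀, hφ]
  have hg0 : (g : F) ≠ 0 := g.ne_zero
  have hsq : ∀ (φ : F ≃+* F) (x : F), φ (x ^ 2) = x ^ 2 → φ x = x := by
    intro φ x hx
    rw [map_pow] at hx
    exact CharTwo.sq_injective hx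
  by_contra hcon
  push Not at hcon
  have key : ∀ l : F, (∀ φ : F ≃+* F, φ l = l → ∀ a, φ a = a) →
      (1 + l ^ 2) ^ 2 + k₁ * (l * (1 + l ^ 2)) + k₂ * l ^ 2 = 0 := by
    intro l hl
    by_contra hne
    obtain ⟨φ, h4, -, a, h5⟩ := hcon l hne
    exact h5 (hl φ h4 a)
  have e1 := key g hfix
  have e2 := key (g ^ 2) fun φ h => hfix φ (hsq φ _ h)
  have e3 := key (g ^ 4) fun φ h => hfix φ (hsq φ _ (hsq φ _ (by rw [← pow_mul]; exact h)))
  set x : F := (g : F) with hx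
  set κ : F := x + x⁻¹ with hκ
  have hP : ∀ l : F, l ≠ 0 → (1 + l ^ 2) ^ 2 + k₁ * (l * (1 + l ^ 2)) + k₂ * l ^ 2 = 0 →
      (l + l⁻¹) ^ 2 + k₁ * (l + l⁻¹) + k₂ = 0 := by
    intro l hl h
    have h4 : (l + l⁻¹) ^ 2 + k₁ * (l + l⁻¹) + k₂ =
      (l⁻¹) ^ 2 * ((1 + l ^ 2) ^ 2 + k₁ * (l * (1 + l ^ 2)) + k₂ * l ^ 2) := by
      field_simp
      ring
    rw [h4, h, mul_zero]
  have f1 := hP x hg0 e1
  have f2 := hP (x ^ 2) (pow_ne_zero 2 hg0) e2
  have f3 := hP (x ^ 4) (pow_ne_zero 4 hg0) e3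
  have g2 : x ^ 2 + (x ^ 2)⁻¹ = κ ^ 2 := by
    rw [hκ, CharTwo.add_sq, inv_pow]
  have g3 : x ^ 4 + (x ^ 4)⁻¹ = κ ^ 4 := by
    rw [show (4 : ℕ) = 2 * 2 from rfl, pow_mul, pow_mul, ← g2, CharTwo.add_sq, inv_pow]
  rw [← hκ] at f1
  rw [g2] at f2
  rw [g3] at f3
  have hg1 : x ≠ 1 := by
    intro h1
    have h4 : ∀ y : Fˣ, y = 1 := by
      intro y
      obtain ⟨k, hk⟩ := Subgroup.mem_zpowers_iff.1 (hg y)
      have h5 : g = 1 := Units.ext h1
      rw [← hk, h5, _root_.one_zpow]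
    have h5 : Nat.card F ≤ 2 := by
      have : Fintype F := Fintype.ofFinite F
      rw [Nat.card_eq_fintype_card]
      classical
      have : (Finset.univ : Finset F) ⊆ {0, 1} := by
        intro t _
        by_cases h0 : t = 0
        · simp only [h0, _root_.Finset.mem_insert, _root_.Finset.mem_singleton, _root_.zero_ne_one, _root_.or_false]
        · have := congrArg Units.val (h4 (Units.mk0 t h0))
          simp only [Units.val_mk0, Units.val_one] at this
          simp only [this, _root_.Finset.mem_insert, _root_.one_ne_zero, _root_.Finset.mem_singleton, _root_.or_true]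
      exact (Finset.card_le_card this).trans (Finset.card_le_two)
    omega
  have hκ0 : κ ≠ 0 := by
    intro h0
    apply hg1
    have h4 : x * κ = x ^ 2 + 1 := by rw [hκ]; field_simp
    rw [h0, mul_zero] at h4
    have h5 : x ^ 2 = 1 ^ 2 := by linear_combination (-1 : F) * h4 - h2
    exact CharTwo.sq_injective h5
  have hpow : ∀ (m : ℕ) (y : F), x ^ m = 1 → y ≠ 0 → y ^ m = 1 := by
    intro m y hm hy
    obtain ⟨k, hk⟩ := Subgroup.mem_zpowers_iff.1 (hg (Units.mk0 y hy))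
    have h4 : y = x ^ k := by
      have := congrArg Units.val hk
      rw [Units.val_zpow_eq_zpow_val] at this
      exact this.symm
    rw [h4, ← zpow_natCast, ← _root_.zpow_mul, mul_comm, _root_.zpow_mul, zpow_natCast, hm, _root_.one_zpow]
  have hxκ : x * κ = x ^ 2 + 1 := by rw [hκ]; field_simp
  have hκ1 : κ ≠ 1 := by
    intro h0
    rw [h0, mul_one] at hxκ
    have h4 : x ^ 3 = 1 := by linear_combination (-(x - 1)) * hxκ + (x ^ 2 - x) * h2
    have h5 := hpow 3 k₁ h4 hk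
    have h6 : k₁ ≠ 1 := by
      intro h7
      apply hk2
      rw [h0, h7] at f1
      linear_combination f1 - h2
    have h7 : k₁ ^ 2 + k₁ + 1 = 0 := by
      have h8 : (k₁ - 1) * (k₁ ^ 2 + k₁ + 1) = 0 := by linear_combination h5
      exact (mul_eq_zero.1 h8).resolve_left (sub_ne_zero.2 h6)
    have h8 : (k₁ - x) * (k₁ - x ^ 2) = 0 := by
      linear_combination h7 + h4 + k₁ * hxκ - (k₁ * x) * h2
    obtain ⟨φ, -, h9, a, h10⟩ := hcon 0 (by simp)
    apply h10
    apply hfix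
    rcases mul_eq_zero.1 h8 with h11 | h11
    · rwa [sub_eq_zero.1 h11] at h9
    · rw [sub_eq_zero.1 h11] at h9
      exact hsq φ _ h9
  have hk1 : k₁ = κ ^ 2 + κ := by
    have h4 : (κ ^ 2 + κ) * (κ ^ 2 + κ + k₁) = 0 := by
      linear_combination f1 + f2 + (κ ^ 3 - k₂) * h2
    rcases mul_eq_zero.1 h4 with h5 | h5
    · exfalso
      rcases mul_eq_zero.1 (show κ * (κ + 1) = 0 by linear_combination h5) with h6 | h6
      · exact hκ0 h6
      · exact hκ1 (CharTwo.add_eq_zero.1 h6)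
    · exact (CharTwo.add_eq_zero.1 h5).symm
  have hk1' : k₁ = k₁ ^ 2 := by
    have h4 : k₁ ^ 2 * (k₁ ^ 2 + k₁) = 0 := by
      have h5 : k₁ ^ 2 = κ ^ 4 + κ ^ 2 := by rw [hk1]; linear_combination (κ ^ 3) * h2
      rw [h5]
      linear_combination f2 + f3 + (κ ^ 6 - k₂) * h2
    rcases mul_eq_zero.1 h4 with h5 | h5
    · exact absurd (pow_eq_zero_iff (two_ne_zero) |>.1 h5) hk
    · exact (CharTwo.add_eq_zero.1 h5).symm
  have hk11 : k₁ = 1 := by
    have h4 : k₁ * (k₁ - 1) = 0 := by linear_combination (-1 : F) * hk1'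
    exact sub_eq_zero.1 ((mul_eq_zero.1 h4).resolve_left hk)
  rw [hk11] at hk1
  have h3 : κ ^ 3 = 1 := by linear_combination (-(κ - 1)) * hk1 + (κ - 1) * h2
  have h4 : x ^ 4 + x ^ 3 + x ^ 2 + x + 1 = 0 := by
    linear_combination (-(x ^ 2)) * hk1 - (x * κ + x ^ 2 + 1 + x) * hxκ
  have h5 : x ^ 5 = 1 := by linear_combination (x - 1) * h4
  have h6 := hpow 5 κ h5 hκ0
  apply hκ1
  calc κ = κ * κ ^ 5 := by rw [h6, mul_one]
    _ = (κ ^ 3) ^ 2 := by ring
    _ = 1 := by rw [h3, one_pow]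

/-- the regular element in the exceptional case -/
theorem exists_reg {a b : Matrix.symplecticGroup (Fin 2) F} (h : Exc a b) {l : F} (hl0 : l ≠ 0) (hl1 : l ≠ 1)
    (hD : 1 + l + l ^ 2 ≠ 0) :
    ∃ v : Matrix.symplecticGroup (Fin 2) F, Reg v ∧ ∀ X : Matrix I4 I4 F, X * a = a * X → X * b = b * X →
      X * v = v * X := by
  obtain ⟨hcomm, hWa, hWb, htb⟩ := h
  set A : Matrix I4 I4 F := (a : Matrix I4 I4 F) with hA
  set B : Matrix I4 I4 F := (b : Matrix I4 I4 F) with hB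
  set e := W B with he
  have hAA : A * st A = 1 := mul_st a
  have hBB : B * st B = 1 := mul_st b
  have hse : st e = e := st_W B
  set f : Matrix I4 I4 F := 1 + e with hf
  have hsf : st f = f := by rw [hf, st_add, st_one, hse]
  have hef : e * f = 0 := by
    rw [hf, mul_add, mul_one, hWb]; exact CharTwo.add_self_eq_zero _
  have hfe : f * e = 0 := by
    rw [hf, add_mul, one_mul, hWb]; exact CharTwo.add_self_eq_zero _
  have hff : f * f = f := by
    nth_rewrite 1 [hf]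
    rw [add_mul, one_mul, hef, add_zero]
  have hfe1 : f + e = 1 := by
    rw [hf, add_assoc, CharTwo.add_self_eq_zero, add_zero]
  set D := 1 + l + l ^ 2 with hDd
  -- `z`
  set z : Matrix I4 I4 F := (D⁻¹ * (1 + l ^ 2)) • (1 : Matrix I4 I4 F) + (D⁻¹ * l ^ 2) • A with hz
  have hstz : st z = (D⁻¹ * (1 + l ^ 2)) • (1 : Matrix I4 I4 F) + (D⁻¹ * l ^ 2) • st A := by
    rw [hz, st_add, st_smul, st_smul, st_one]
  have hzz : z * st z = 1 := by
    rw [hstz, hz]
    have h1 : ((D⁻¹ * (1 + l ^ 2)) • (1 : Matrix I4 I4 F) + (D⁻¹ * l ^ 2) • A) *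
      ((D⁻¹ * (1 + l ^ 2)) • (1 : Matrix I4 I4 F) + (D⁻¹ * l ^ 2) • st A) =
      ((D⁻¹ * (1 + l ^ 2)) * (D⁻¹ * (1 + l ^ 2))) • (1 : Matrix I4 I4 F) + ((D⁻¹ * (1 + l ^ 2)) * (D⁻¹ * l ^ 2)) • (A + st A)
        + ((D⁻¹ * l ^ 2) * (D⁻¹ * l ^ 2)) • (A * st A) := by
      simp only [add_mul, mul_add, smul_mul_assoc, mul_smul_comm, one_mul, mul_one]
      module
    rw [h1, hAA]
    change _ + _ • W A + _ = _
    rw [hWa, ← add_smul, ← add_smul]
    have h2 : D⁻¹ * (1 + l ^ 2) * (D⁻¹ * (1 + l ^ 2)) + D⁻¹ * (1 + l ^ 2) * (D⁻¹ * l ^ 2) + D⁻¹ * l ^ 2 * (D⁻¹ * l ^ 2) = 1 := by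
      have h5 : (2 : F) = 0 := CharTwo.two_eq_zero
      have h6 : D⁻¹ * (1 + l ^ 2) * (D⁻¹ * (1 + l ^ 2)) + D⁻¹ * (1 + l ^ 2) * (D⁻¹ * l ^ 2) + D⁻¹ * l ^ 2 * (D⁻¹ * l ^ 2) =
        (D⁻¹ * D) * (D⁻¹ * D) := by
        rw [hDd]
        linear_combination ((1 + l + l ^ 2)⁻¹) ^ 2 * (l ^ 4 - l - l ^ 3) * h5
      rw [h6, inv_mul_cancel₀ hD, mul_one]
    rw [h2, one_smul]
  have hAB' : A * st B = st B * A := comm_st (v := b) hcomm
  have hAe : A * e = e * A := by rw [he, W, mul_add, add_mul, hcomm, hAB']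
  have hze : z * e = e * z := by
    rw [hz]
    simp only [add_mul, mul_add, smul_mul_assoc, mul_smul_comm, one_mul, mul_one, hAe]
  have hzf : z * f = f * z := by rw [hf, mul_add z 1 e, add_mul 1 e z, mul_one z, one_mul z, hze]
  have hBe : B * e = e * B := (W_self_comm b).symm
  set V : Matrix I4 I4 F := z * f + B * e with hV
  have hsV : st V = f * st z + e * st B := by rw [hV, st_add, st_mul, st_mul, hsf, hse]
  have hVV : V * st V = 1 := by
    rw [hsV, hV]
    have h1 : (z * f + B * e) * (f * st z + e * st B) = z * (f * f) * st z + z * (f * e) * st B + B * (e * f) * st z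
        + B * (e * e) * st B := by noncomm_ring
    rw [h1, hff, hfe, hef, hWb, mul_zero, zero_mul, mul_zero, zero_mul, add_zero, add_zero, hzf, hBe, mul_assoc, mul_assoc,
      hzz, hBB, mul_one, mul_one, hfe1]
  set τ := D⁻¹ * l ^ 2 with hτ
  have hWz : z + st z = τ • (1 : Matrix I4 I4 F) := by
    rw [hstz, hz]
    have h1 : (D⁻¹ * (1 + l ^ 2)) • (1 : Matrix I4 I4 F) + τ • A + ((D⁻¹ * (1 + l ^ 2)) • (1 : Matrix I4 I4 F) + τ • st A)
      = ((D⁻¹ * (1 + l ^ 2)) • (1 : Matrix I4 I4 F) + (D⁻¹ * (1 + l ^ 2)) • (1 : Matrix I4 I4 F)) + τ • (A + st A) := by module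
    rw [h1, CharTwo.add_self_eq_zero, zero_add]
    change τ • W A = _
    rw [hWa]
  have hWV : W V = τ • (1 : Matrix I4 I4 F) + (τ + 1) • e := by
    rw [W, hsV, hV, hzf, hBe]
    have h1 : f * z + e * B + (f * st z + e * st B) = f * (z + st z) + e * (B + st B) := by noncomm_ring
    rw [h1, hWz]
    change _ + e * W B = _
    rw [← he, hWb, mul_smul_comm, mul_one, hf]
    module
  have hτ0 : τ ≠ 0 := mul_ne_zero (inv_ne_zero hD) (pow_ne_zero 2 hl0)
  have hτ1 : τ + 1 ≠ 0 := by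
    intro h0
    have h1 : τ = 1 := CharTwo.add_eq_zero.1 h0
    apply hl1
    have h2 : D * τ = D := by rw [h1, mul_one]
    rw [hτ, mul_inv_cancel_left₀ hD, hDd] at h2
    have h5 : (2 : F) = 0 := CharTwo.two_eq_zero
    linear_combination (-1 : F) * h2 - h5
  have htV : V.trace = τ + 1 := by
    rw [trace_W, hWV]
    have h1 := trace_W B
    rw [htb, ← he] at h1
    simp only [Matrix.add_apply, Matrix.smul_apply, Matrix.one_apply, if_true, smul_eq_mul, mul_one]
    have h5 : (2 : F) = 0 := CharTwo.two_eq_zero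
    linear_combination (-(τ + 1)) * h1 + τ * h5
  let v : Matrix.symplecticGroup (Fin 2) F := ⟨V, (mem_iff V).2 hVV⟩
  refine ⟨v, ⟨?_, ?_⟩, ?_⟩
  · change V.trace ≠ 0
    rw [htV]
    exact hτ1
  · have h1 := W_sq' v
    change W V * W V = V.trace • W V + _ at h1
    have h2 : W V * W V = (τ * τ) • (1 : Matrix I4 I4 F) + ((τ + 1) * (τ + 1)) • e := by
      rw [hWV]
      have h3 : (τ • (1 : Matrix I4 I4 F) + (τ + 1) • e) * (τ • (1 : Matrix I4 I4 F) + (τ + 1) • e) =
        (τ * τ) • (1 : Matrix I4 I4 F) + ((τ * (τ + 1)) • e + (τ * (τ + 1)) • e) + ((τ + 1) * (τ + 1)) • (e * e) := by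
        simp only [add_mul, mul_add, smul_mul_assoc, mul_smul_comm, one_mul, mul_one]
        module
      rw [h3, hWb, CharTwo.add_self_eq_zero, add_zero]
    rw [h2, htV, hWV] at h1
    intro h0
    rw [h0, zero_smul, add_zero, smul_add, smul_smul, smul_smul] at h1
    have h3 := add_right_cancel h1
    have h4 := congrFun (congrFun h3 (.inl 0)) (.inl 0)
    simp only [Matrix.smul_apply, Matrix.one_apply, if_true, smul_eq_mul, mul_one] at h4
    apply hτ0
    linear_combination (-1 : F) * h4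
  · intro X hXa hXb
    have hXe : X * e = e * X := by
      rw [he, W, mul_add, add_mul, hXb, comm_st (v := b) hXb]
    have hXf : X * f = f * X := by rw [hf, mul_add X 1 e, add_mul 1 e X, hXe, mul_one X, one_mul X]
    have hXz : X * z = z * X := by
      rw [hz]
      simp only [add_mul, mul_add, smul_mul_assoc, mul_smul_comm, one_mul, mul_one, hXa]
    change X * V = V * X
    rw [hV, mul_add X (z * f) (B * e), add_mul (z * f) (B * e) X, ← mul_assoc X z f, hXz, mul_assoc z X f, hXf,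
      ← mul_assoc z f X, ← mul_assoc X B e, hXb, mul_assoc B X e, hXe, ← mul_assoc B e X]

end Cfsg.Agent.SB.B2
end

-- part: SB/B2/Card
section
/-!
# S5765, `Sp₄(2^a)` with graph automorphisms: two order bounds (helper52)

* `card_le_of_graph` : if `c1 y = φ (c2 y)` on the centralizer of the regular element `v` then `|C(v)| ≤ 4 q`;
* `card_exc` : over the field with four elements `|C(a, b)| ≤ 9` in the exceptional configuration.
-/

set_option autoImplicit false
set_option linter.unusedSectionVars false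

namespace Cfsg.Agent.SB.B2

open Matrix Cfsg.Agent.ClassicalGeometry.Sp4Graph Cfsg.Agent.H88.FC

theorem card_le_two_mul {α β : Type*} [Finite β] (f : α → β)
    (h : ∀ a a' a'', f a' = f a → f a'' = f a → a' = a ∨ a'' = a ∨ a' = a'') : Nat.card α ≤ 2 * Nat.card β := by
  classical
  rcases isEmpty_or_nonempty α with h0 | h0
  · simp only [_root_.Nat.card_of_isEmpty, _root_.zero_le]
  have h1 := Nat.card_le_card_of_injective (fun a : α => (f a, decide (a = Function.invFun f (f a)))) (by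
    intro a a' e
    have e1 : f a = f a' := congrArg Prod.fst e
    have e2 : decide (a = Function.invFun f (f a)) = decide (a' = Function.invFun f (f a')) := congrArg Prod.snd e
    rw [← e1, decide_eq_decide] at e2
    have e3 : f (Function.invFun f (f a)) = f a := Function.invFun_eq ⟨a, rfl⟩
    rcases h (Function.invFun f (f a)) a a' e3.symm (e1.symm.trans e3.symm) with h2 | h2 | h2
    · exact h2.trans (e2.1 h2).symm
    · exact (e2.2 h2).trans h2.symm
    · exact h2)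
  rwa [Nat.card_prod, Nat.card_eq_fintype_card (α := Bool), Fintype.card_bool, mul_comm] at h1

variable {F : Type*} [Field F] [CharP F 2]

section graph

variable {v : Matrix.symplecticGroup (Fin 2) F} {φ : F ≃+* F}

/-- `F[v + v⁻¹]` is a field -/
theorem unit_of_inK (hv : Reg v) (h : ∀ y : Matrix.symplecticGroup (Fin 2) F, y * v = v * y → c1 y = φ (c2 y))
    {X : Matrix I4 I4 F} (hX : InK (W (v : Matrix I4 I4 F)) X) (h0 : X ≠ 0) : ∃ u : Matrix I4 I4 F, u * X = 1 := by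
  have hw2 := W_sq' v
  obtain ⟨u, hu, hu1⟩ := W_mul_inv hv
  have hc1 := hv.c1
  have hns := hv.ns
  set w := W (v : Matrix I4 I4 F) with hw
  set c₁ := (v : Matrix I4 I4 F).trace with hc1d
  set c₂ := (graphHom F v : Matrix I4 I4 F).trace with hc2d
  obtain ⟨α, β, hαβ⟩ := id hX
  have h1 : (X + (β * c₁) • (1 : Matrix I4 I4 F)) * X = (α * α + α * β * c₁ + β * β * c₂) • (1 : Matrix I4 I4 F) := by
    have e : (α • (1 : Matrix I4 I4 F) + β • w + (β * c₁) • (1 : Matrix I4 I4 F)) * (α • (1 : Matrix I4 I4 F) + β • w) =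
        (α * α + α * β * c₁) • (1 : Matrix I4 I4 F) + (α * β + α * β) • w + (β * β * c₁) • w + (β * β) • (w * w) := by
      simp only [add_mul, mul_add, smul_mul_assoc, mul_smul_comm, one_mul, mul_one]
      module
    have e2 : (α * α + α * β * c₁) • (1 : Matrix I4 I4 F) + (0 : F) • w + (β * β * c₁) • w +
        (β * β) • (c₁ • w + c₂ • (1 : Matrix I4 I4 F)) =
        (α * α + α * β * c₁ + β * β * c₂) • (1 : Matrix I4 I4 F) + (β * β * c₁ + β * β * c₁) • w := by module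
    rw [hαβ, e, hw2, CharTwo.add_self_eq_zero, e2, CharTwo.add_self_eq_zero, zero_smul, add_zero]
  by_cases hn : α * α + α * β * c₁ + β * β * c₂ = 0
  swap
  · exact ⟨(α * α + α * β * c₁ + β * β * c₂)⁻¹ • (X + (β * c₁) • (1 : Matrix I4 I4 F)), by
      rw [smul_mul_assoc, h1, smul_smul, inv_mul_cancel₀ hn, one_smul]⟩
  exfalso
  have hβ : β ≠ 0 := by
    rintro rfl
    apply h0
    have : α = 0 := by simpa using hn
    rw [hαβ, this]
    simp
  have hβc : β * c₁ ≠ 0 := mul_ne_zero hβ hc1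
  rw [hn, zero_smul, add_mul, smul_mul_assoc, one_mul] at h1
  have h2 : X * X = (β * c₁) • X := CharTwo.add_eq_zero.1 h1
  set e : Matrix I4 I4 F := (β * c₁)⁻¹ • X with he
  have hee : e * e = e := by
    rw [he, smul_mul_smul_comm, h2, smul_smul, mul_assoc, inv_mul_cancel₀ hβc, mul_one]
  have heK : InK w e := hX.smul _
  have hse : st e = e := heK.st (st_W _)
  have hev : e * v = v * e := heK.comm_of (W_self_comm v)
  have hev' : e * st (v : Matrix I4 I4 F) = st (v : Matrix I4 I4 F) * e := comm_st hev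
  have hXe : X = (β * c₁) • e := by rw [he, smul_smul, mul_inv_cancel₀ hβc, one_smul]
  clear_value e
  have hef : e * (1 + e) = 0 := by rw [mul_add, mul_one, hee]; exact CharTwo.add_self_eq_zero _
  have hfe : (1 + e) * e = 0 := by rw [add_mul, one_mul, hee]; exact CharTwo.add_self_eq_zero _
  have hff : (1 + e) * (1 + e) = 1 + e := by rw [mul_add, mul_one, hfe, add_zero]
  have hst : st (e * (v : Matrix I4 I4 F) + (1 + e)) = e * st (v : Matrix I4 I4 F) + (1 + e) := by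
    rw [st_add, st_mul, st_add, st_one, hse, hev']
  have hmem : (e * (v : Matrix I4 I4 F) + (1 + e)) * st (e * (v : Matrix I4 I4 F) + (1 + e)) = 1 := by
    rw [hst]
    have e1 : (e * v + (1 + e)) * (e * st (v : Matrix I4 I4 F) + (1 + e)) =
        e * (v * e) * st (v : Matrix I4 I4 F) + (e * v) * (1 + e) + ((1 + e) * e) * st (v : Matrix I4 I4 F) +
          (1 + e) * (1 + e) := by noncomm_ring
    have e2 : (e * v) * (1 + e) = 0 := by rw [hev, mul_assoc, hef, mul_zero]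
    rw [e1, ← hev, e2, hfe, hff, ← mul_assoc, hee, mul_assoc, mul_st, mul_one, zero_mul, add_zero, add_zero, add_comm 1 e,
      ← add_assoc, CharTwo.add_self_eq_zero, zero_add]
  let n : Matrix.symplecticGroup (Fin 2) F := ⟨e * v + (1 + e), (mem_iff _).2 hmem⟩
  have hnv : n * v = v * n := by
    apply Subtype.ext
    change (e * v + (1 + e)) * (v : Matrix I4 I4 F) = v * (e * v + (1 + e))
    rw [add_mul, add_mul, mul_add, mul_add, one_mul, mul_one, ← mul_assoc, ← hev]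
  have hWn : W (n : Matrix I4 I4 F) = e * w := by
    change W (e * (v : Matrix I4 I4 F) + (1 + e)) = _
    rw [W, hst, hw, W, mul_add]
    have e1 : e * v + (1 + e) + (e * st (v : Matrix I4 I4 F) + (1 + e)) =
      e * v + e * st (v : Matrix I4 I4 F) + ((1 + e) + (1 + e)) := by abel
    rw [e1, CharTwo.add_self_eq_zero, add_zero]
  have h3 := W_sq'' n
  rw [hWn] at h3
  have h4 : c2 n = 0 := by
    by_contra h5
    have h6 := congrArg (fun M : Matrix I4 I4 F => (1 + e) * M) h3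
    simp only [mul_add (1 + e), mul_smul_comm, ← mul_assoc, hfe, zero_mul, smul_zero, mul_one, zero_add] at h6
    have h7 : 1 + e = 0 := (smul_eq_zero.1 h6.symm).resolve_left h5
    have h8 : e = 1 := (CharTwo.add_eq_zero.1 h7).symm
    rw [h8, hαβ] at hXe
    have h9 : α • (1 : Matrix I4 I4 F) + β • w = (β * c₁) • (1 : Matrix I4 I4 F) + (0 : F) • w := by
      rw [hXe, zero_smul, add_zero]
    exact hβ (InK.coeff hns h9).2
  rw [h n hnv, h4, map_zero, zero_smul, zero_smul, add_zero] at h3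
  have h5 := InK.sq_eq_zero hc1 hw2 hns (heK.mul hw2 InK.self) h3
  apply h0
  have h6 : e * w * u = 0 := by rw [h5, zero_mul]
  rw [mul_assoc, InK.self.comm hu, hu1, mul_one] at h6
  rw [hXe, h6, smul_zero]

theorem eq_or_inv (hv : Reg v) (h : ∀ y : Matrix.symplecticGroup (Fin 2) F, y * v = v * y → c1 y = φ (c2 y))
    {y z : Matrix.symplecticGroup (Fin 2) F} (hy : y * v = v * y) (hz : z * v = v * z)
    (e : W (y : Matrix I4 I4 F) = W (z : Matrix I4 I4 F)) : y = z ∨ y = z⁻¹ := by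
  have hy' : (y : Matrix I4 I4 F) * v = v * y := congrArg Subtype.val hy
  have hz' : (z : Matrix I4 I4 F) * v = v * z := congrArg Subtype.val hz
  obtain ⟨u, hu, hu1⟩ := W_mul_inv hv
  have hs : ((y : Matrix I4 I4 F) + z) * v = v * ((y : Matrix I4 I4 F) + z) := by rw [add_mul, mul_add, hy', hz']
  obtain ⟨α, β, hα, hβ, hX⟩ := exists_of_comm hv hs
  have h1 : β * W (v : Matrix I4 I4 F) = 0 := by
    rw [← W_form hα hβ, ← hX, W_add, e]
    exact CharTwo.add_self_eq_zero _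
  have h2 : β = 0 := by
    have h5 : β * W (v : Matrix I4 I4 F) * u = 0 := by rw [h1, zero_mul]
    rwa [mul_assoc, InK.self.comm hu, hu1, mul_one] at h5
  rw [h2, zero_mul, add_zero] at hX
  by_cases h0 : (y : Matrix I4 I4 F) + z = 0
  · exact Or.inl (Subtype.ext (CharTwo.add_eq_zero.1 h0))
  right
  obtain ⟨t, ht⟩ := unit_of_inK hv h (hX ▸ hα) h0
  have h3 : ((y : Matrix I4 I4 F) + z) * (y + st (z : Matrix I4 I4 F)) = 0 := by
    have e1 : ((y : Matrix I4 I4 F) + z) * (y + st (z : Matrix I4 I4 F)) =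
      y * y + (z * y + y * st (z : Matrix I4 I4 F)) + z * st (z : Matrix I4 I4 F) := by noncomm_ring
    rw [e1, comm_of_comm hv hz' hy', ← mul_add, mul_st]
    change _ + (y : Matrix I4 I4 F) * W (z : Matrix I4 I4 F) + 1 = 0
    rw [← e, W, mul_add, mul_st, ← add_assoc, CharTwo.add_self_eq_zero, zero_add]
    exact CharTwo.add_self_eq_zero _
  have h4 : (y : Matrix I4 I4 F) + st (z : Matrix I4 I4 F) = 0 := by
    have h5 := congrArg (fun M : Matrix I4 I4 F => t * M) h3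
    simpa only [← mul_assoc, ht, one_mul, mul_zero] using h5
  apply Subtype.ext
  rw [coe_inv]
  exact CharTwo.add_eq_zero.1 h4

theorem W_eq_or (hv : Reg v) (h : ∀ y : Matrix.symplecticGroup (Fin 2) F, y * v = v * y → c1 y = φ (c2 y))
    {y z : Matrix.symplecticGroup (Fin 2) F} (hy : y * v = v * y) (hz : z * v = v * z) (e : c2 y = c2 z) :
    W (y : Matrix I4 I4 F) = W (z : Matrix I4 I4 F) ∨
      W (y : Matrix I4 I4 F) = W (z : Matrix I4 I4 F) + c1 z • (1 : Matrix I4 I4 F) := by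
  have h1 := W_inK hv (congrArg Subtype.val hy : (y : Matrix I4 I4 F) * v = v * y)
  have h2 := W_inK hv (congrArg Subtype.val hz : (z : Matrix I4 I4 F) * v = v * z)
  have h3 := W_sq'' y
  have h4 := W_sq'' z
  have h5 : c1 y = c1 z := by rw [h y hy, h z hz, e]
  rw [h5, e] at h3
  set P := W (y : Matrix I4 I4 F) with hP
  set Q := W (z : Matrix I4 I4 F) with hQ
  by_cases h0 : P + Q = 0
  · exact Or.inl (CharTwo.add_eq_zero.1 h0)
  right
  obtain ⟨t, ht⟩ := unit_of_inK hv h (h1.add h2) h0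
  have h6 : (P + Q) * (P + (Q + c1 z • (1 : Matrix I4 I4 F))) = 0 := by
    have e1 : (P + Q) * (P + (Q + c1 z • (1 : Matrix I4 I4 F))) =
        P * P + Q * Q + (P * Q + Q * P) + c1 z • P + c1 z • Q := by
      simp only [add_mul, mul_add, mul_smul_comm, mul_one, smul_add]
      abel
    have e2 : c1 z • P + c2 z • (1 : Matrix I4 I4 F) + (c1 z • Q + c2 z • (1 : Matrix I4 I4 F)) + 0 + c1 z • P + c1 z • Q =
        (c1 z • P + c1 z • Q + c2 z • (1 : Matrix I4 I4 F)) + (c1 z • P + c1 z • Q + c2 z • (1 : Matrix I4 I4 F)) := by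
      abel
    rw [e1, h1.comm h2, CharTwo.add_self_eq_zero, h3, h4, e2]
    exact CharTwo.add_self_eq_zero _
  have h7 := congrArg (fun M : Matrix I4 I4 F => t * M) h6
  simp only [← mul_assoc, ht, one_mul, mul_zero] at h7
  exact CharTwo.add_eq_zero.1 h7

theorem card_le_of_graph [Finite F] (hv : Reg v)
    (h : ∀ y : Matrix.symplecticGroup (Fin 2) F, y * v = v * y → c1 y = φ (c2 y)) :
    Nat.card (Subgroup.centralizer {v}) ≤ 4 * Nat.card F := by
  have hm : ∀ y : Subgroup.centralizer {v}, (y : Matrix.symplecticGroup (Fin 2) F) * v = v * y :=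
    fun y => Subgroup.mem_centralizer_singleton_iff.1 y.2
  let g : Subgroup.centralizer {v} → Matrix I4 I4 F := fun y => W ((y : Matrix.symplecticGroup (Fin 2) F) : Matrix I4 I4 F)
  have h1 := card_le_two_mul (Set.rangeFactorization g) (by
    intro a a' a'' e1 e2
    rcases eq_or_inv hv h (hm a') (hm a) (congrArg Subtype.val e1) with h2 | h2
    · exact Or.inl (Subtype.ext h2)
    rcases eq_or_inv hv h (hm a'') (hm a) (congrArg Subtype.val e2) with h3 | h3
    · exact Or.inr (Or.inl (Subtype.ext h3))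
    · exact Or.inr (Or.inr (Subtype.ext (h2.trans h3.symm))))
  have h2 := card_le_two_mul (fun X : Set.range g => c2 (X.2.choose : Matrix.symplecticGroup (Fin 2) F)) (by
    intro a a' a'' e1 e2
    have s : ∀ X : Set.range g, W ((X.2.choose : Matrix.symplecticGroup (Fin 2) F) : Matrix I4 I4 F) = X :=
      fun X => X.2.choose_spec
    rcases W_eq_or hv h (hm _) (hm _) e1 with h2 | h2
    · rw [s, s] at h2
      exact Or.inl (Subtype.ext h2)
    rcases W_eq_or hv h (hm _) (hm _) e2 with h3 | h3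
    · rw [s, s] at h3
      exact Or.inr (Or.inl (Subtype.ext h3))
    · have h4 := h2.trans h3.symm
      rw [s, s] at h4
      exact Or.inr (Or.inr (Subtype.ext h4)))
  omega

end graph

section exc

theorem W_inK' {v : Matrix.symplecticGroup (Fin 2) F} (hv : (v : Matrix I4 I4 F).trace ≠ 0) {X : Matrix I4 I4 F}
    (hX : X * v = v * X) : InK (W (v : Matrix I4 I4 F)) (W X) := by
  obtain ⟨k, hk⟩ := W_comm (v : Matrix I4 I4 F) X
  have h1 : W (v : Matrix I4 I4 F) * W X = W X * W (v : Matrix I4 I4 F) := by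
    rw [W.eq_1 X, mul_add, add_mul, comm_W hX, comm_W (st_comm hX)]
  have h2 : W (v : Matrix I4 I4 F) * W X + W X * W (v : Matrix I4 I4 F) = 0 := by
    rw [h1]
    exact CharTwo.add_self_eq_zero _
  rw [h2] at hk
  set c := (v : Matrix I4 I4 F).trace with hc
  refine ⟨c⁻¹ * k, c⁻¹ * X.trace, ?_⟩
  have h3 : c • W X = X.trace • W (v : Matrix I4 I4 F) + k • (1 : Matrix I4 I4 F) := by
    have h4 : c • W X + (X.trace • W (v : Matrix I4 I4 F) + k • (1 : Matrix I4 I4 F)) = 0 := by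
      rw [hk]; abel
    exact CharTwo.add_eq_zero.1 h4
  calc W X = c⁻¹ • (c • W X) := by rw [smul_smul, inv_mul_cancel₀ hv, one_smul]
    _ = _ := by rw [h3]; module

theorem card_sol (h4 : ∀ x : F, x = 0 ∨ x ^ 3 = 1) :
    Nat.card {p : F × F | p.1 ^ 2 + p.1 * p.2 + p.2 ^ 2 = 1} ≤ 3 := by
  classical
  have h2 : (2 : F) = 0 := CharTwo.two_eq_zero
  have hsq : ∀ x : F, x ^ 2 = 1 → x = 1 := fun x hx => CharTwo.sq_injective (by simpa only [_root_.one_pow, _root_.sq_eq_one_iff] using hx)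
  have h1 : {p : F × F | p.1 ^ 2 + p.1 * p.2 + p.2 ^ 2 = 1} ⊆ (({(1, 0), (0, 1), (1, 1)} : Finset (F × F)) : Set (F × F)) := by
    rintro ⟨x, y⟩ h
    have h' : x ^ 2 + x * y + y ^ 2 = 1 := h
    simp only [Finset.coe_insert, Finset.coe_singleton, Set.mem_insert_iff, Set.mem_singleton_iff, Prod.mk.injEq]
    rcases h4 x with hx | hx
    · exact Or.inr (Or.inl ⟨hx, hsq y (by rw [hx] at h'; linear_combination h')⟩)
    rcases h4 y with hy | hy
    · exact Or.inl ⟨hsq x (by rw [hy] at h'; linear_combination h'), hy⟩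
    have h5 : x = y := by linear_combination (-(x - y)) * h' + hx - hy
    subst h5
    have h6 := hsq x (by linear_combination h' - x ^ 2 * h2)
    exact Or.inr (Or.inr ⟨h6, h6⟩)
  rw [Nat.card_coe_set_eq]
  exact (Set.ncard_le_ncard h1).trans (by rw [Set.ncard_coe_finset]; exact Finset.card_le_three)

theorem card_exc [Finite F] (h4 : ∀ x : F, x = 0 ∨ x ^ 3 = 1) {a b : Matrix.symplecticGroup (Fin 2) F} (h : Exc a b) :
    Nat.card (Subgroup.centralizer {a, b}) ≤ 9 := by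
  have h2 : (2 : F) = 0 := CharTwo.two_eq_zero
  obtain ⟨hcomm, hWa, hWb, htb⟩ := h
  have ht : (b : Matrix I4 I4 F).trace ≠ 0 := by rw [htb]; exact one_ne_zero
  have hns : ∀ c : F, W (b : Matrix I4 I4 F) ≠ c • (1 : Matrix I4 I4 F) := fun c hc => ht (trace_eq_zero hc)
  have hea : W (b : Matrix I4 I4 F) * a = a * W (b : Matrix I4 I4 F) := comm_W hcomm
  have hea' : W (b : Matrix I4 I4 F) * st (a : Matrix I4 I4 F) = st (a : Matrix I4 I4 F) * W (b : Matrix I4 I4 F) :=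
    comm_st hea
  have key : ∀ X : Subgroup.centralizer {a, b}, ∃ p q : {p : F × F | p.1 ^ 2 + p.1 * p.2 + p.2 ^ 2 = 1},
      ((X : Matrix.symplecticGroup (Fin 2) F) : Matrix I4 I4 F) =
        (p.1.1 • (1 : Matrix I4 I4 F) + (q.1.1 - p.1.1) • W (b : Matrix I4 I4 F)) +
          (p.1.2 • (1 : Matrix I4 I4 F) + (q.1.2 - p.1.2) • W (b : Matrix I4 I4 F)) * st (a : Matrix I4 I4 F) := by
    rintro ⟨x, hx⟩
    have hxa : (x : Matrix I4 I4 F) * a = a * x :=
      (congrArg Subtype.val (Subgroup.mem_centralizer_iff.1 hx a (by simp))).symm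
    have hxb : (x : Matrix I4 I4 F) * b = b * x :=
      (congrArg Subtype.val (Subgroup.mem_centralizer_iff.1 hx b (by simp))).symm
    have hxx := mul_st x
    set X : Matrix I4 I4 F := (x : Matrix I4 I4 F) with hX
    have hβ := W_inK' ht hxb
    have hα := W_inK' ht (X := (a : Matrix I4 I4 F) * X) (by rw [mul_assoc, hxb, ← mul_assoc, hcomm, mul_assoc])
    have h1 : X = W ((a : Matrix I4 I4 F) * X) + W X * st (a : Matrix I4 I4 F) := by
      have e1 : W ((a : Matrix I4 I4 F) * X) + W X * st (a : Matrix I4 I4 F) = X * W (a : Matrix I4 I4 F) +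
          (st X * st (a : Matrix I4 I4 F) + st X * st (a : Matrix I4 I4 F)) := by
        rw [W, W, W, st_mul, ← hxa]
        noncomm_ring
      rw [e1, hWa, CharTwo.add_self_eq_zero, mul_one, add_zero]
    have hsα := hα.st (st_W _)
    have hsβ := hβ.st (st_W _)
    have hαa := hα.comm_of hea'
    have hβa := hβ.comm_of hea'
    have hαβ := hα.comm hβ
    have h3 : W ((a : Matrix I4 I4 F) * X) * W ((a : Matrix I4 I4 F) * X) + W ((a : Matrix I4 I4 F) * X) * W X + W X * W X = 1 := by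
      rw [← hxx]
      conv_rhs => rw [h1]
      rw [st_add, st_mul, st_st, hsα, hsβ]
      generalize W ((a : Matrix I4 I4 F) * X) = α at *
      generalize W X = β at *
      have e1 : (α + β * st (a : Matrix I4 I4 F)) * (α + a * β) =
        α * α + α * a * β + β * (st (a : Matrix I4 I4 F) * α) + β * (st (a : Matrix I4 I4 F) * a) * β := by noncomm_ring
      have e2 : α * a * β + α * (β * st (a : Matrix I4 I4 F)) = α * β := by
        rw [hβa, mul_assoc, ← mul_add, ← add_mul]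
        change α * (W (a : Matrix I4 I4 F) * β) = _
        rw [hWa, one_mul]
      rw [e1, st_mul_self, mul_one, ← hαa, ← mul_assoc β α, ← hαβ, mul_assoc α β, add_assoc (α * α) (α * (a : Matrix I4 I4 F) * β), e2]
    obtain ⟨α₀, α₁, e1⟩ := hα
    obtain ⟨β₀, β₁, e2⟩ := hβ
    rw [e1, e2] at h1 h3
    set e := W (b : Matrix I4 I4 F) with he
    have h5 : (α₀ • (1 : Matrix I4 I4 F) + α₁ • e) * (α₀ • (1 : Matrix I4 I4 F) + α₁ • e) +
        (α₀ • (1 : Matrix I4 I4 F) + α₁ • e) * (β₀ • (1 : Matrix I4 I4 F) + β₁ • e) +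
        (β₀ • (1 : Matrix I4 I4 F) + β₁ • e) * (β₀ • (1 : Matrix I4 I4 F) + β₁ • e) =
        (α₀ ^ 2 + α₀ * β₀ + β₀ ^ 2) • (1 : Matrix I4 I4 F) +
          (2 * α₀ * α₁ + α₁ ^ 2 + α₀ * β₁ + α₁ * β₀ + α₁ * β₁ + 2 * β₀ * β₁ + β₁ ^ 2) • e := by
      simp only [add_mul, mul_add, smul_mul_assoc, mul_smul_comm, one_mul, mul_one, hWb]
      module
    rw [h5] at h3
    obtain ⟨h6, h7⟩ := InK.coeff hns (c := 1) (d := 0) (by rw [h3, one_smul, zero_smul, add_zero])
    refine ⟨⟨(α₀, β₀), h6⟩, ⟨(α₀ + α₁, β₀ + β₁), ?_⟩, ?_⟩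
    · show (α₀ + α₁) ^ 2 + (α₀ + α₁) * (β₀ + β₁) + (β₀ + β₁) ^ 2 = 1
      linear_combination h6 + h7
    · simpa only [add_sub_cancel_left] using h1
  choose p q hpq using key
  have h5 := Nat.card_le_card_of_injective (fun X => (p X, q X)) (by
    intro X Y e
    have e1 : p X = p Y := congrArg Prod.fst e
    have e2 : q X = q Y := congrArg Prod.snd e
    apply Subtype.ext
    apply Subtype.ext
    rw [hpq X, hpq Y, e1, e2])
  rw [Nat.card_prod] at h5
  have h6 := card_sol h4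
  exact h5.trans (Nat.mul_le_mul h6 h6)

end exc

end Cfsg.Agent.SB.B2
end

-- part: SB/B2/Main
section
/-!
# S5765, `Sp₄(2^a)` with graph automorphisms (helper52)

`boxB2 : Cl.BoxB2`.
-/

set_option autoImplicit false
set_option linter.unusedSectionVars false

namespace Cfsg.Agent.SB.B2

open Cfsg Cfsg.Agent.H786.FC Cfsg.Agent.H88.FC Cfsg.Agent.H319.FC
open Cfsg.Agent.ClassicalGeometry.Sp4Graph Cfsg.Agent.ClassicalGeometry.SympBasic
open Cfsg.Agent.ClassicalGeometry.SympAutSemi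

universe u

section aut

variable {G : Type u} [Group G] [Finite G] [IsSimpleGroup G] {S : Subgroup (MulAut G)} {N : Subgroup G}

theorem comm_iff (hG : ¬ IsMulCommutative G) (α : MulAut G) (y : G) :
    α * MulAut.conj y = MulAut.conj y * α ↔ α y = y := by
  rw [← mul_inv_eq_iff_eq_mul, aut_conj]
  exact (conj_injective hG).eq_iff

theorem card_inn (hG : ¬ IsMulCommutative G) : Nat.card (InnG G) = Nat.card G :=
  (Nat.card_congr (innEquiv hG).toEquiv).symm

theorem map_inv_mem (hinv : ∀ α ∈ S, ∀ n ∈ N, α n ∈ N) :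
    ∀ s ∈ S, ∀ v ∈ N.map (MulAut.conj : G →* MulAut G), s * v * s⁻¹ ∈ N.map (MulAut.conj : G →* MulAut G) := by
  rintro s hs _ ⟨n, hn, rfl⟩
  exact ⟨s n, hinv s hs n hn, (aut_conj s n).symm⟩

theorem card_aut_le (hG : ¬ IsMulCommutative G) (hinv : ∀ α ∈ S, ∀ n ∈ N, α n ∈ N) {n : ℕ} (v : Fin n → G)
    (hv : ∀ i, v i ∈ N) (hC : ∀ t : G, (∀ i, t * v i = v i * t) → t ∈ N) :
    Nat.card ↥(S ⊓ InnG G) ≤ Nat.card N ^ (n + 1) := by
  rw [← Subgroup.card_map_of_injective (K := N) (conj_injective hG)]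
  refine card_inf_le_pow (map_inv_mem hinv) (fun i => MulAut.conj (v i)) (fun i => ⟨v i, hv i, rfl⟩) ?_
  rintro _ ⟨t, rfl⟩ h
  refine ⟨t, hC t fun i => conj_injective hG ?_, rfl⟩
  rw [map_mul, map_mul]
  exact h i

theorem seven_aut (hG : ¬ IsMulCommutative G) (hb : 360 < Nat.card G) (hS : Group.IsSolvable S)
    (hm : MaxInv (InnG G) S) (hNS : ∀ n ∈ N, MulAut.conj n ∈ S) (hinv : ∀ α ∈ S, ∀ n ∈ N, α n ∈ N)
    (hNc : ∀ a ∈ N, ∀ b ∈ N, a * b = b * a) (hodd : ∀ n ∈ N, n * n = 1 → n = 1) {a b : G} (ha : a ∈ N) (hb' : b ∈ N)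
    (h2 : ∀ k k' : MulAut G, k a = a → k b = b → k' a = a → k' b = b → k ∈ N.map (MulAut.conj : G →* MulAut G) ∨
      k' ∈ N.map (MulAut.conj : G →* MulAut G) ∨ k * k' ∈ N.map (MulAut.conj : G →* MulAut G))
    (hbig : ∀ β : MulAut G, β ∉ N.map (MulAut.conj : G →* MulAut G) → (∀ n ∈ N, β n = n) →
      Nat.card ↥(S ⊓ InnG G) * Nat.card ↥(S ⊓ InnG G) + 14 * Nat.card ↥(S ⊓ InnG G) < Nat.card G)
    (hkey : ∀ y : G, MulAut.conj y ∈ S → (∃ n ∈ N, orderOf y = orderOf n) → y ∈ N) : Seven (InnG G) S := by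
  have hT := as_inn hG
  have hns : ¬ Group.IsSolvable G := fun h => hG ⟨⟨IsSimpleGroup.comm_iff_isSolvable.2 h⟩⟩
  obtain ⟨x, hx⟩ := exists_inf_conj hns N hNc
  refine seven_of_pair (N := N.map (MulAut.conj : G →* MulAut G)) hT hS hm
    (hT.seven_le (by rwa [card_inn hG]) hS) ?_ (map_inv_mem hinv) ?_ ?_ ⟨a, ha, rfl⟩ ⟨b, hb', rfl⟩ ?_ ?_
    (x := MulAut.conj x⁻¹) ⟨x⁻¹, rfl⟩ ?_
  · rintro _ ⟨n, hn, rfl⟩
    exact hNS n hn
  · rintro _ ⟨n, hn, rfl⟩ _ ⟨n', hn', rfl⟩
    rw [← map_mul, ← map_mul, hNc n hn n' hn']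
  · rintro _ ⟨n, hn, rfl⟩ h
    rw [← map_mul, ← map_one (MulAut.conj : G →* MulAut G)] at h
    rw [hodd n hn (conj_injective hG h), map_one]
  · intro k k' e1 e2 e3 e4
    exact h2 k k' ((comm_iff hG _ _).1 e1) ((comm_iff hG _ _).1 e2) ((comm_iff hG _ _).1 e3) ((comm_iff hG _ _).1 e4)
  · intro β hβ h
    rw [card_inn hG]
    exact hbig β hβ fun n hn => (comm_iff hG _ _).1 (h _ ⟨n, hn, rfl⟩)
  · rintro _ ⟨n, hn, rfl⟩ h
    rw [← map_inv, ← map_mul, ← map_mul, inv_inv] at h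
    rw [hx n hn (hkey _ h ⟨n, hn, by rw [← MulAut.conj_apply, MulEquiv.orderOf_eq]⟩), map_one]

end aut

variable {F : Type u} [Field F] [CharP F 2] [Finite F]

theorem noncomm_sp (hq : 4 ≤ Nat.card F) : ¬ IsMulCommutative (Sp4 F) := fun h => by
  have := simple_sp hq
  exact not_solvable_sp hq (IsSimpleGroup.comm_iff_isSolvable.1 h.is_comm.comm)

theorem card_sp : Nat.card (Sp4 F) = Nat.card F ^ 4 * ((Nat.card F ^ 2 - 1) * (Nat.card F ^ 4 - 1)) := by
  have := Fintype.ofFinite F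
  rw [LieClassical.SympCount.card_symplecticGroup, Nat.card_eq_fintype_card]
  simp only [Finset.prod_range_succ, _root_.Nat.reducePow, _root_.Finset.range_one, _root_.Finset.prod_singleton, _root_.zero_add, _root_.mul_one, _root_.Nat.reduceAdd, _root_.Nat.reduceMul]

theorem le_card_sp (hq : 4 ≤ Nat.card F) : Nat.card F ^ 4 * 3825 ≤ Nat.card (Sp4 F) := by
  rw [card_sp]
  have h1 : 4 ^ 2 ≤ Nat.card F ^ 2 := Nat.pow_le_pow_left hq 2
  have h2 : 4 ^ 4 ≤ Nat.card F ^ 4 := Nat.pow_le_pow_left hq 4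
  exact Nat.mul_le_mul_left _ (Nat.mul_le_mul (by omega : 15 ≤ _) (by omega : 255 ≤ _))

theorem big_sp (hq : 4 ≤ Nat.card F) : 979200 ≤ Nat.card (Sp4 F) := by
  have h1 := le_card_sp hq
  have h2 : 4 ^ 4 ≤ Nat.card F ^ 4 := Nat.pow_le_pow_left hq 4
  omega

theorem c1_of_graph (hq : 4 ≤ Nat.card F) {α : MulAut (Sp4 F)} (hα : α ∉ (conjHom 2 F).range) :
    ∃ φ : F ≃+* F, ∀ y : Sp4 F, c1 (α y) = φ (c2 y) := by
  obtain ⟨k, hk⟩ := exists_graph hq hα
  obtain ⟨φ, c, hc, hg⟩ := k.2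
  refine ⟨φ, fun y => ?_⟩
  rw [hk, c1]
  exact trace_conjHom hg (graphEquiv F y)

/-- `S` normalizes the centralizer of a regular element -/
theorem seven_reg (hq : 4 ≤ Nat.card F) {S : Subgroup (MulAut (Sp4 F))} (hS : Group.IsSolvable S)
    (hm : MaxInv (InnG (Sp4 F)) S) {v : Sp4 F} (hv : Reg v)
    (hN : ∀ α ∈ S, ∀ n : Sp4 F, n * v = v * n → α n * v = v * α n) : Seven (InnG (Sp4 F)) S := by
  have hsimple := simple_sp (F := F) hq
  have hG := noncomm_sp (F := F) hq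
  have hT := as_inn hG
  obtain ⟨l, hl, hl'⟩ := exists_lam hq (k₁ := (v : Matrix I4 I4 F).trace)
    (k₂ := (graphHom F v : Matrix I4 I4 F).trace) hv.c1 hv.c2
  obtain ⟨v₂, hv2, hrel⟩ := exists_v2 hl
  have hNm : ∀ n : Sp4 F, n ∈ Subgroup.centralizer {v} ↔ n * v = v * n := fun n =>
    Subgroup.mem_centralizer_singleton_iff
  have hNc : ∀ a ∈ Subgroup.centralizer {v}, ∀ b ∈ Subgroup.centralizer {v}, a * b = b * a := by
    intro a ha b hb
    rw [hNm] at ha hb
    exact Subtype.ext (comm_of_comm hv (congrArg Subtype.val ha) (congrArg Subtype.val hb))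
  have hinv : ∀ α ∈ S, ∀ n ∈ Subgroup.centralizer {v}, α n ∈ Subgroup.centralizer {v} :=
    fun α hα n hn => (hNm _).2 (hN α hα n ((hNm _).1 hn))
  have hNS : (Subgroup.centralizer {v}).map (MulAut.conj : Sp4 F →* MulAut (Sp4 F)) ≤ S := by
    refine hm.le_of_inv hT (Subgroup.map_le_range _ _) (fun h => hG ⟨⟨fun a b => ?_⟩⟩) (map_inv_mem hinv)
    have key : ∀ a : Sp4 F, a ∈ Subgroup.centralizer {v} := fun a => by
      rw [← Subgroup.mem_map_iff_mem (conj_injective hG), h]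
      exact ⟨a, rfl⟩
    exact hNc a (key a) b (key b)
  have hP : ∀ k : MulAut (Sp4 F), k ∈ (conjHom 2 F).range → k v = v → k v₂ = v₂ →
      k ∈ (Subgroup.centralizer {v}).map (MulAut.conj : Sp4 F →* MulAut (Sp4 F)) := by
    rintro _ ⟨g, rfl⟩ f1 f2
    obtain ⟨φ, k, hk, hg⟩ := g.2
    have h1 := trace_conjHom hg v
    rw [f1] at h1
    have hφ := hl' φ (lin_of_fix hv hrel hg f1 f2) h1.symm
    obtain ⟨A, hA, -⟩ := exists_conj_of_linear hk hg hφ
    rw [hA] at f1 ⊢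
    rw [MulAut.conj_apply, mul_inv_eq_iff_eq_mul] at f1
    exact ⟨A, (hNm _).2 f1, rfl⟩
  refine seven_aut (N := Subgroup.centralizer {v}) hG (by have := big_sp hq; omega) hS hm
    (fun n hn => hNS ⟨n, hn, rfl⟩) hinv hNc (fun n hn h => eq_one_of_sq hv ((hNm _).1 hn) h) ((hNm _).2 rfl)
    ((hNm _).2 hv2) ?_ ?_ ?_
  · intro k k' e1 e2 e3 e4
    by_cases h1 : k ∈ (conjHom 2 F).range
    · exact Or.inl (hP k h1 e1 e2)
    by_cases h2 : k' ∈ (conjHom 2 F).range
    · exact Or.inr (Or.inl (hP k' h2 e3 e4))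
    refine Or.inr (Or.inr (hP _ ?_ ?_ ?_))
    · rw [Subgroup.mul_mem_iff_of_index_two (index_P hq)]
      exact ⟨fun h => absurd h h1, fun h => absurd h h2⟩
    · rw [MulAut.mul_apply, e3, e1]
    · rw [MulAut.mul_apply, e4, e2]
  · intro β hβ h
    have h1 : β ∉ (conjHom 2 F).range := fun h2 => hβ (hP β h2 (h _ ((hNm _).2 rfl)) (h _ ((hNm _).2 hv2)))
    obtain ⟨φ, hφ⟩ := c1_of_graph hq h1
    have h2 := card_le_of_graph hv (φ := φ) fun y hy => by rw [← hφ, h y ((hNm _).2 hy)]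
    have h3 := card_aut_le hG hinv ![v] (fun i => by fin_cases i; exact (hNm _).2 rfl) fun t ht => (hNm _).2 (ht 0)
    have h4 := le_card_sp hq
    have h5 : Nat.card ↥(S ⊓ InnG (Sp4 F)) ≤ 16 * Nat.card F ^ 2 :=
      h3.trans ((Nat.pow_le_pow_left h2 _).trans (le_of_eq (by ring)))
    have h6 : 4 ^ 2 ≤ Nat.card F ^ 2 := Nat.pow_le_pow_left hq 2
    have h7 : Nat.card F ^ 4 = Nat.card F ^ 2 * Nat.card F ^ 2 := by ring
    rw [h7] at h4
    generalize Nat.card F ^ 2 = Q at *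
    generalize Nat.card ↥(S ⊓ InnG (Sp4 F)) = m at *
    have h8 := Nat.mul_le_mul h5 h5
    nlinarith only [h4, h6, h5]
  · rintro y hy ⟨n, hn, e⟩
    have h1 := hN _ hy v rfl
    rw [MulAut.conj_apply] at h1
    exact (hNm _).2 (comm_of_conj hv (e ▸ odd_of_comm hv ((hNm _).1 hn)) h1)

theorem exc_cube {a b : Sp4 F} (h : Exc a b) : a ^ 3 = 1 := by
  have h1 : st (a : Matrix I4 I4 F) = a * a := by
    have h2 := congrArg (fun M : Matrix I4 I4 F => (a : Matrix I4 I4 F) * M) h.Wa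
    simp only [W, mul_add, mul_st, mul_one] at h2
    have h3 : (a : Matrix I4 I4 F) + st (a : Matrix I4 I4 F) = 1 := h.Wa
    have h4 : (a : Matrix I4 I4 F) * a + 1 + st (a : Matrix I4 I4 F) = 1 := by rw [h2, h3]
    rw [add_right_comm, add_eq_right] at h4
    exact (CharTwo.add_eq_zero.1 h4).symm
  apply Subtype.ext
  have h2 := mul_st a
  rw [h1] at h2
  rw [pow_three]
  exact h2

/-- the exceptional configuration over the field with four elements -/
theorem seven_exc (hq : 4 ≤ Nat.card F) {t : F} (ht0 : t ≠ 0) (ht1 : t ≠ 1)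
    (hF : ∀ x : F, x = 0 ∨ x = 1 ∨ x = t ∨ x = t + 1) (h4 : ∀ x : F, x = 0 ∨ x ^ 3 = 1)
    {S : Subgroup (MulAut (Sp4 F))} (hS : Group.IsSolvable S)
    (hm : MaxInv (InnG (Sp4 F)) S) {A : Subgroup (Sp4 F)} (hAS : ∀ a ∈ A, MulAut.conj a ∈ S)
    (hcomm : ∀ a ∈ A, ∀ b ∈ A, a * b = b * a) {r : ℕ} (hr : r.Prime) (hexp : ∀ a ∈ A, a ^ r = 1)
    (hinv : ∀ α ∈ S, ∀ a ∈ A, α a ∈ A) {a b : Sp4 F} (ha : a ∈ A) (hb : b ∈ A) (hE : Exc a b) :
    Seven (InnG (Sp4 F)) S := by
  classical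
  have hsimple := simple_sp (F := F) hq
  have hG := noncomm_sp (F := F) hq
  have hq4 : Nat.card F = 4 := by
    have := Fintype.ofFinite F
    have h1 : (Finset.univ : Finset F) ⊆ {0, 1, t, t + 1} := fun x _ => by simpa only [_root_.Finset.mem_insert, _root_.Finset.mem_singleton] using hF x
    have h2 := (Finset.card_le_card h1).trans Finset.card_le_four
    rw [Finset.card_univ, ← Nat.card_eq_fintype_card] at h2
    omega
  have hcard : Nat.card (Sp4 F) = 979200 := by rw [card_sp, hq4]; norm_num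
  have hc1a : c1 a = 0 := trace_eq_zero (c := 1) (by rw [hE.Wa, one_smul])
  have hc2a : c2 a = 1 := by
    have h1 := W_sq'' a
    rw [hE.Wa, hc1a, zero_smul, zero_add, mul_one] at h1
    have h2 := congrFun (congrFun h1 (.inl 0)) (.inl 0)
    simpa using h2.symm
  have hW : ∀ y : Sp4 F, y * y = 1 → W (y : Matrix I4 I4 F) = 0 := by
    intro y hy
    rw [W, ← coe_inv, inv_eq_of_mul_eq_one_left hy]
    exact CharTwo.add_self_eq_zero _
  have haa : a * a ≠ 1 := fun h => one_ne_zero (hE.Wa.symm.trans (hW a h))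
  have ha1 : a ≠ 1 := fun h => haa (by rw [h, mul_one])
  have _ : Fact (Nat.Prime 3) := ⟨Nat.prime_three⟩
  have hr3 : r = 3 := by
    have h1 := orderOf_dvd_of_pow_eq_one (hexp a ha)
    rw [orderOf_eq_prime (exc_cube hE) ha1] at h1
    exact ((Nat.prime_dvd_prime_iff_eq Nat.prime_three hr).1 h1).symm
  subst hr3
  have hp : IsPGroup 3 A := fun x => ⟨1, Subtype.ext (by rw [pow_one]; exact hexp x x.2)⟩
  have hle : A ≤ Subgroup.centralizer {a, b} := by
    intro x hx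
    rw [Subgroup.mem_centralizer_iff]
    rintro y (rfl | rfl)
    exacts [hcomm _ ha x hx, hcomm _ hb x hx]
  have h9 := card_exc h4 hE
  have hA9 : 9 ≤ Nat.card A := by
    have htr1 : c1 (1 : Sp4 F) = 0 := trace_eq_zero (c := 0) (by rw [hW 1 (mul_one _), zero_smul])
    have htr2 : c1 (a * a) = 0 := by rw [c1_sq, hc1a, mul_zero]
    have hbn : ∀ y : Sp4 F, c1 y = 0 → b ≠ y := fun y hy h => one_ne_zero (hE.tb.symm.trans (h ▸ hy))
    have h1 : ({b, 1, a, a * a} : Set (Sp4 F)).ncard = 4 := by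
      rw [Set.ncard_insert_of_notMem, Set.ncard_insert_of_notMem, Set.ncard_pair]
      · intro h
        exact ha1 (by simpa using h)
      · rintro (h | h)
        exacts [ha1 h.symm, haa h.symm]
      · rintro (h | h | h)
        exacts [hbn _ htr1 h, hbn _ hc1a h, hbn _ htr2 h]
    have h2 : ({b, 1, a, a * a} : Set (Sp4 F)) ⊆ (A : Set (Sp4 F)) := by
      rintro y (rfl | rfl | rfl | rfl)
      exacts [hb, one_mem _, ha, mul_mem ha ha]
    have h3 := Set.ncard_le_ncard h2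
    rw [h1, ← Nat.card_coe_set_eq] at h3
    obtain ⟨k, hk⟩ := IsPGroup.iff_card.1 hp
    have h5 : 4 ≤ Nat.card A := h3
    rw [hk] at h5 ⊢
    have h6 : 2 ≤ k := by
      by_contra h7
      have := Nat.pow_le_pow_right (by norm_num : 0 < 3) (by omega : k ≤ 1)
      omega
    exact Nat.pow_le_pow_right (by norm_num : 0 < 3) h6
  have hAC : A = Subgroup.centralizer {a, b} := Subgroup.eq_of_le_of_card_ge hle (h9.trans hA9)
  have hC : ∀ x : Sp4 F, x * a = a * x → x * b = b * x → x ∈ A := by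
    intro x h1 h2
    rw [hAC, Subgroup.mem_centralizer_iff]
    rintro y (rfl | rfl)
    exacts [h1.symm, h2.symm]
  have hinn : ∀ (k : MulAut (Sp4 F)) (h : Sp4 F), (∀ y, k y = h * y * h⁻¹) → k a = a → k b = b →
      k ∈ A.map (MulAut.conj : Sp4 F →* MulAut (Sp4 F)) := by
    intro k h hk e1 e2
    rw [hk, mul_inv_eq_iff_eq_mul] at e1 e2
    exact ⟨h, hC h e1 e2, MulEquiv.ext fun y => (hk y).symm⟩
  have hdec : ∀ k : MulAut (Sp4 F), k a = a → ∃ (h : Sp4 F) (φ : F ≃+* F), ∀ y, k y = h * H545.FC.mapS φ y * h⁻¹ := by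
    intro k e
    by_cases h1 : k ∈ (conjHom 2 F).range
    · obtain ⟨g, rfl⟩ := h1
      exact H545.FC.exists_dec g
    · exfalso
      obtain ⟨φ, hφ⟩ := c1_of_graph hq h1
      have h2 := hφ a
      rw [e, hc1a, hc2a, map_one] at h2
      exact zero_ne_one h2
  have hid : ∀ φ : F ≃+* F, φ t = t → ∀ x, φ x = x := by
    intro φ h x
    rcases hF x with rfl | rfl | rfl | rfl
    · exact map_zero φ
    · exact map_one φ
    · exact h
    · rw [map_add, map_one, h]
  have hφt : ∀ φ : F ≃+* F, φ t = t ∨ φ t = t + 1 := by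
    intro φ
    rcases hF (φ t) with h | h | h | h
    · exact absurd (φ.injective (h.trans (map_zero φ).symm)) ht0
    · exact absurd (φ.injective (h.trans (map_one φ).symm)) ht1
    · exact Or.inl h
    · exact Or.inr h
  have hmap : ∀ φ : F ≃+* F, φ t = t → ∀ y : Sp4 F, H545.FC.mapS φ y = y := fun φ h y =>
    Subtype.ext (Matrix.ext fun i j => by rw [H545.FC.mapS_apply, hid φ h])
  refine seven_aut (N := A) hG (by omega) hS hm hAS hinv hcomm (fun n hn h => ?_) ha hb ?_ ?_ ?_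
  · have h1 := hexp n hn
    rwa [pow_three, h, mul_one] at h1
  · intro k k' e1 e2 e3 e4
    obtain ⟨h, φ, hk⟩ := hdec k e1
    obtain ⟨h', φ', hk'⟩ := hdec k' e3
    rcases hφt φ with h1 | h1
    · exact Or.inl (hinn k h (fun y => by rw [hk, hmap φ h1]) e1 e2)
    rcases hφt φ' with h2 | h2
    · exact Or.inr (Or.inl (hinn k' h' (fun y => by rw [hk', hmap φ' h2]) e3 e4))
    refine Or.inr (Or.inr (hinn _ (h * H545.FC.mapS φ h') (fun y => ?_) ?_ ?_))
    · have h3 : H545.FC.mapS φ (H545.FC.mapS φ' y) = y := by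
        refine Subtype.ext (Matrix.ext fun i j => ?_)
        rw [H545.FC.mapS_apply, H545.FC.mapS_apply]
        refine hid (φ'.trans φ) ?_ _
        rw [RingEquiv.trans_apply, h2, map_add, map_one, h1, add_assoc, CharTwo.add_self_eq_zero, add_zero]
      rw [MulAut.mul_apply, hk, hk', map_mul, map_mul, map_inv, h3]
      group
    · rw [MulAut.mul_apply, e3, e1]
    · rw [MulAut.mul_apply, e4, e2]
  · intro _ _ _
    have h3 := card_aut_le hG hinv ![a, b] (fun i => by fin_cases i; exacts [ha, hb]) fun x hx => hC x (hx 0) (hx 1)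
    rw [← hAC] at h9
    have h5 : Nat.card ↥(S ⊓ InnG (Sp4 F)) ≤ 729 := h3.trans (Nat.pow_le_pow_left h9 _)
    have h8 := Nat.mul_le_mul h5 h5
    omega
  · rintro y hy ⟨n, hn, e⟩
    have hy3 : y ^ 3 = 1 := by
      rw [← orderOf_dvd_iff_pow_eq_one, e, orderOf_dvd_iff_pow_eq_one]
      exact hexp n hn
    have h1 : IsPGroup 3 (Subgroup.zpowers y) := by
      rintro ⟨_, k, rfl⟩
      refine ⟨1, Subtype.ext ?_⟩
      show (y ^ k) ^ (3 ^ 1) = 1
      rw [pow_one, ← zpow_natCast, ← zpow_mul, mul_comm, zpow_mul, zpow_natCast, hy3, one_zpow]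
    have h2 : Subgroup.zpowers y ≤ Subgroup.normalizer (A : Set (Sp4 F)) := by
      rw [Subgroup.zpowers_le]
      exact Subgroup.mem_normalizer_fintype (S := (A : Set (Sp4 F))) fun x hx => hinv _ hy x hx
    have h3 := IsPGroup.to_sup_of_normal_right' h1 hp h2
    obtain ⟨k, hk⟩ := IsPGroup.iff_card.1 h3
    have h5 := Subgroup.card_subgroup_dvd_card (Subgroup.zpowers y ⊔ A)
    rw [hk, hcard] at h5
    have h6 : k ≤ 2 := by
      by_contra h7
      have h8 := (pow_dvd_pow 3 (by omega : 3 ≤ k)).trans h5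
      norm_num at h8
    have h7 : A = Subgroup.zpowers y ⊔ A := Subgroup.eq_of_le_of_card_ge le_sup_right (by
      rw [hk]
      exact (Nat.pow_le_pow_right (by norm_num : 0 < 3) h6).trans hA9)
    rw [h7]
    exact Subgroup.mem_sup_left (Subgroup.mem_zpowers y)

/-- the statement for `Sp₄(F)` -/
theorem seven_sp (hq : 4 ≤ Nat.card F) {S : Subgroup (MulAut (Sp4 F))} (hS : Group.IsSolvable S)
    (hm : MaxInv (InnG (Sp4 F)) S) (hn : NPar 2 (InnG (Sp4 F)) S) (hP : ¬ S ≤ (conjHom 2 F).range) :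
    Seven (InnG (Sp4 F)) S := by
  have hsimple := simple_sp (F := F) hq
  have hG := noncomm_sp (F := F) hq
  have hT := as_inn hG
  obtain ⟨r, A, hr, hA, hAS, hcomm, hexp, hinv⟩ := exists_elab hS center_sp (by
    obtain ⟨⟨_, h1, x, rfl⟩, h2⟩ := Subgroup.ne_bot_iff_exists_ne_one.1 (hm.inf_ne_bot hT hS)
    exact ⟨x, h1, fun h => h2 (Subtype.ext (by show MulAut.conj x = 1; rw [h, map_one]))⟩)
  have hr2 : r ≠ 2 := by
    rintro rfl
    have h1 : IsPGroup 2 A := fun x => ⟨1, Subtype.ext (by rw [pow_one]; exact hexp x x.2)⟩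
    have h2 := hn (A.map MulAut.conj) (by rintro _ ⟨a, ha, rfl⟩; exact ⟨hAS a ha, a, rfl⟩) (h1.map _) (map_inv_mem hinv)
    exact hA ((Subgroup.map_eq_bot_iff_of_injective _ (conj_injective hG)).1 h2)
  have hodd : ∀ a ∈ A, Odd (orderOf a) := fun a ha =>
    (hr.odd_of_ne_two hr2).of_dvd_nat (orderOf_dvd_of_pow_eq_one (hexp a ha))
  have hreg : ∀ v : Sp4 F, Reg v → (∀ a ∈ A, a * v = v * a) → (∀ n : Sp4 F, (∀ a ∈ A, n * a = a * n) → n * v = v * n) →
      Seven (InnG (Sp4 F)) S := by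
    intro v hv hv1 hv2
    refine seven_reg hq hS hm hv fun α hα n hn => hv2 _ fun a ha => ?_
    have h4 : α⁻¹ a ∈ A := hinv _ (inv_mem hα) a ha
    have h5 : n * α⁻¹ a = α⁻¹ a * n := by
      apply Subtype.ext
      exact comm_of_comm hv (congrArg Subtype.val hn) (congrArg Subtype.val (hv1 _ h4))
    have h6 := congrArg α h5
    rw [map_mul, map_mul] at h6
    have h7 : α (α⁻¹ a) = a := α.apply_symm_apply a
    rwa [h7] at h6
  by_cases hex : ∃ a ∈ A, c1 a * c2 a ≠ 0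
  · obtain ⟨a, ha, h1⟩ := hex
    exact hreg a ⟨left_ne_zero_of_mul h1, right_ne_zero_of_mul h1⟩ (fun b hb => hcomm b hb a ha) fun n hn => hn a ha
  push Not at hex
  obtain ⟨a₀, ha₀, ha₀1⟩ : ∃ a ∈ A, a ≠ 1 := by
    obtain ⟨a, h⟩ := Subgroup.ne_bot_iff_exists_ne_one.1 hA
    exact ⟨a.1, a.2, fun h' => h (Subtype.ext h')⟩
  obtain ⟨α, hαS, hαP⟩ := Set.not_subset.1 hP
  have hgr : ∀ y : Sp4 F, c1 (α y) = 0 ↔ c2 y = 0 := by
    intro y
    obtain ⟨φ, hφ⟩ := c1_of_graph hq hαP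
    rw [hφ, map_eq_zero]
  obtain ⟨a, b, ha, hb, ha1, hb1, h1a, h2b⟩ : ∃ a b : Sp4 F, a ∈ A ∧ b ∈ A ∧ a ≠ 1 ∧ b ≠ 1 ∧ c1 a = 0 ∧ c2 b = 0 := by
    rcases mul_eq_zero.1 (hex a₀ ha₀) with h4 | h4
    · refine ⟨a₀, α⁻¹ a₀, ha₀, hinv _ (inv_mem hαS) _ ha₀, ha₀1, ?_, h4, ?_⟩
      · rwa [Ne, map_eq_one_iff _ (MulEquiv.injective _)]
      · rw [← hgr]
        have : α (α⁻¹ a₀) = a₀ := α.apply_symm_apply a₀
        rwa [this]
    · refine ⟨α a₀, a₀, hinv _ hαS _ ha₀, ha₀, ?_, ha₀1, ?_, h4⟩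
      · rwa [Ne, map_eq_one_iff _ (MulEquiv.injective _)]
      · rwa [hgr]
  have hE := exc_of (hcomm a ha b hb) (hodd a ha) (hodd b hb) (hodd _ (mul_mem ha hb)) (hodd _ (mul_mem ha (inv_mem hb)))
    ha1 hb1 h1a h2b (hex _ (mul_mem ha hb)) (hex _ (mul_mem ha (inv_mem hb)))
  by_cases hl : ∃ l : F, l ≠ 0 ∧ l ≠ 1 ∧ 1 + l + l ^ 2 ≠ 0
  · obtain ⟨l, hl0, hl1, hl2⟩ := hl
    obtain ⟨v, hv, hX⟩ := exists_reg hE hl0 hl1 hl2
    refine hreg v hv (fun c hc => ?_) fun n hn => ?_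
    · exact Subtype.ext (hX _ (congrArg Subtype.val (hcomm c hc a ha)) (congrArg Subtype.val (hcomm c hc b hb)))
    · exact Subtype.ext (hX _ (congrArg Subtype.val (hn a ha)) (congrArg Subtype.val (hn b hb)))
  push Not at hl
  obtain ⟨t, ht0, ht1⟩ := exists_t (F := F) hq
  have h2 : (2 : F) = 0 := CharTwo.two_eq_zero
  refine seven_exc hq ht0 ht1 (fun x => ?_) (fun x => ?_) hS hm hAS hcomm hr hexp hinv ha hb hE
  · by_cases h0 : x = 0
    · exact Or.inl h0
    by_cases h1 : x = 1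
    · exact Or.inr (Or.inl h1)
    have h3 : (x - t) * (x - (t + 1)) = 0 := by
      linear_combination hl x h0 h1 + hl t ht0 ht1 - (x * t + x + 1) * h2
    rcases mul_eq_zero.1 h3 with h4 | h4
    · exact Or.inr (Or.inr (Or.inl (sub_eq_zero.1 h4)))
    · exact Or.inr (Or.inr (Or.inr (sub_eq_zero.1 h4)))
  · by_cases h0 : x = 0
    · exact Or.inl h0
    right
    by_cases h1 : x = 1
    · rw [h1, one_pow]
    · linear_combination (x - 1) * hl x h0 h1

/-- **`Sp₄(2^a)` with graph automorphisms.** -/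
theorem boxB2 : Cl.BoxB2 := by
  intro F _ _ _ hq S hS hm hn hP
  have hq' : 4 ≤ Nat.card F := by rwa [Nat.card_eq_fintype_card]
  have hmap : (S.comap (congE F).toMonoidHom).map (congE F).toMonoidHom = S :=
    Subgroup.map_comap_eq_self_of_surjective (congE F).surjective S
  have hinn : (InnG (Sp4 F)).map (congE F).toMonoidHom = InnG (PSp 2 F) := congr_innG (mkE F)
  have hS' : Group.IsSolvable (S.comap (congE F).toMonoidHom) :=
    Group.isSolvable_of_isSolvable_injective (f := (congE F).toMonoidHom.subgroupComap S) fun x y h =>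
      Subtype.ext ((congE F).injective (congrArg Subtype.val h))
  have h1 := seven_sp hq' hS' (MaxInv.of_map _ (congE F).injective (by rwa [hinn, hmap]))
    (NPar.of_map _ (congE F).injective (by rwa [hinn, hmap])) (fun h => hP (by
      rw [← hmap]
      rintro _ ⟨α, hα, rfl⟩
      exact (congE_mem_range α).2 (h hα)))
  have h2 := Seven.map (congE F).toMonoidHom (congE F).injective h1
  rw [hinn, hmap] at h2
  exact Or.inr h2

end Cfsg.Agent.SB.B2
end
end

-- part: SB/Exc/W/E6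
section
prune_inst 0x357065447d6202000018859233201c66b2000002004b0400bde1070607cfda6aadc32e614ba01e17da3e91552835004813100190421000002a200c00411d01a080ae5206b348a10ca6009f803087180c00000000000000000000000000041004000000000
set_option linter.all false
open scoped Cfsg.Agent.FastGrp

/-!
# S5765: two finite checks in the root system `E₆` (helper61)

* `three_orth`, `four_orth`, `five_orth` : mutually orthogonal roots;
* `a2_triple`, `A2T.fix` : the roots orthogonal to a subsystem `A₂` form a subsystem `2 A₂`.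
-/

set_option autoImplicit false
set_option linter.unusedSectionVars false

namespace Cfsg.Agent.SB.Exc.W

open CoxeterSystem Cfsg Cfsg.Lie Cfsg.Lie.ChevalleyDatum
open Cfsg.Agent.ChevalleyStructure.CoxeterGeom Cfsg.Agent.ChevalleyStructure.CoxeterGeomTypes
  Cfsg.Agent.Tits.Roots Cfsg.Agent.Nodes.RGDChev Cfsg.Agent.Nodes.Coroot

/-! ### the tables -/

/-- six integers -/
abbrev T6 : Type := ℤ × ℤ × ℤ × ℤ × ℤ × ℤ

/-- the vector -/
def tv (x : T6) : Fin 6 → ℤ := ![x.1, x.2.1, x.2.2.1, x.2.2.2.1, x.2.2.2.2.1, x.2.2.2.2.2]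

/-- the tuple -/
def vt (x : Fin 6 → ℤ) : T6 := (x 0, x 1, x 2, x 3, x 4, x 5)

theorem tv_vt (x : Fin 6 → ℤ) : tv (vt x) = x := by
  funext i; fin_cases i <;> rfl

/-- the pairings with the simple roots -/
def co (y : T6) : T6 :=
  (2 * y.1 - y.2.2.1, 2 * y.2.1 - y.2.2.2.1, 2 * y.2.2.1 - y.1 - y.2.2.2.1,
    2 * y.2.2.2.1 - y.2.1 - y.2.2.1 - y.2.2.2.2.1, 2 * y.2.2.2.2.1 - y.2.2.2.1 - y.2.2.2.2.2,
    2 * y.2.2.2.2.2 - y.2.2.2.2.1)

/-- the standard product -/
def dt (x y : T6) : ℤ := x.1 * y.1 + x.2.1 * y.2.1 + x.2.2.1 * y.2.2.1 + x.2.2.2.1 * y.2.2.2.1 +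
  x.2.2.2.2.1 * y.2.2.2.2.1 + x.2.2.2.2.2 * y.2.2.2.2.2

/-- the invariant form -/
def ip (x y : T6) : ℤ := dt x (co y)

/-- the roots -/
def RL : List T6 :=
  [(-1, -2, -2, -3, -2, -1), (-1, -1, -2, -3, -2, -1), (-1, -1, -2, -2, -2, -1), (-1, -1, -2, -2, -1, -1), (-1, -1,
   -2, -2, -1, 0), (-1, -1, -1, -2, -2, -1), (-1, -1, -1, -2, -1, -1), (-1, -1, -1, -2, -1, 0), (-1, -1, -1, -1,
   -1, -1), (-1, -1, -1, -1, -1, 0), (-1, -1, -1, -1, 0, 0), (-1, 0, -1, -1, -1, -1), (-1, 0, -1, -1, -1, 0), (-1,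
   0, -1, -1, 0, 0), (-1, 0, -1, 0, 0, 0), (-1, 0, 0, 0, 0, 0), (0, -1, -1, -2, -2, -1), (0, -1, -1, -2, -1, -1),
   (0, -1, -1, -2, -1, 0), (0, -1, -1, -1, -1, -1), (0, -1, -1, -1, -1, 0), (0, -1, -1, -1, 0, 0), (0, -1, 0, -1,
   -1, -1), (0, -1, 0, -1, -1, 0), (0, -1, 0, -1, 0, 0), (0, -1, 0, 0, 0, 0), (0, 0, -1, -1, -1, -1), (0, 0, -1,
   -1, -1, 0), (0, 0, -1, -1, 0, 0), (0, 0, -1, 0, 0, 0), (0, 0, 0, -1, -1, -1), (0, 0, 0, -1, -1, 0), (0, 0, 0,
   -1, 0, 0), (0, 0, 0, 0, -1, -1), (0, 0, 0, 0, -1, 0), (0, 0, 0, 0, 0, -1), (0, 0, 0, 0, 0, 1), (0, 0, 0, 0, 1,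
   0), (0, 0, 0, 0, 1, 1), (0, 0, 0, 1, 0, 0), (0, 0, 0, 1, 1, 0), (0, 0, 0, 1, 1, 1), (0, 0, 1, 0, 0, 0), (0, 0,
   1, 1, 0, 0), (0, 0, 1, 1, 1, 0), (0, 0, 1, 1, 1, 1), (0, 1, 0, 0, 0, 0), (0, 1, 0, 1, 0, 0), (0, 1, 0, 1, 1, 0),
   (0, 1, 0, 1, 1, 1), (0, 1, 1, 1, 0, 0), (0, 1, 1, 1, 1, 0), (0, 1, 1, 1, 1, 1), (0, 1, 1, 2, 1, 0), (0, 1, 1, 2,
   1, 1), (0, 1, 1, 2, 2, 1), (1, 0, 0, 0, 0, 0), (1, 0, 1, 0, 0, 0), (1, 0, 1, 1, 0, 0), (1, 0, 1, 1, 1, 0), (1,
   0, 1, 1, 1, 1), (1, 1, 1, 1, 0, 0), (1, 1, 1, 1, 1, 0), (1, 1, 1, 1, 1, 1), (1, 1, 1, 2, 1, 0), (1, 1, 1, 2, 1,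
   1), (1, 1, 1, 2, 2, 1), (1, 1, 2, 2, 1, 0), (1, 1, 2, 2, 1, 1), (1, 1, 2, 2, 2, 1), (1, 1, 2, 3, 2, 1), (1, 2,
   2, 3, 2, 1)]

/-- the simple roots -/
def SL : List T6 :=
  [(1, 0, 0, 0, 0, 0), (0, 1, 0, 0, 0, 0), (0, 0, 1, 0, 0, 0), (0, 0, 0, 1, 0, 0), (0, 0, 0, 0, 1, 0), (0, 0, 0, 0, 0, 1)]

/-- the elements with a given product -/
def fl (c : ℤ) (a : T6) (L : List T6) : List T6 := L.filter fun x => ip a x == c

theorem mem_fl {c : ℤ} {a x : T6} {L : List T6} : x ∈ fl c a L ↔ x ∈ L ∧ ip a x = c := by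
  rw [fl, List.mem_filter, beq_iff_eq]

/-- orthogonal roots -/
def chk1 : Bool := SL.all fun a => (fl 0 a RL).all fun b => (fl 0 b (fl 0 a RL)).all fun c =>
  !(fl 0 c (fl 0 b (fl 0 a RL))).isEmpty && (fl 0 c (fl 0 b (fl 0 a RL))).all fun d =>
    (fl 0 d (fl 0 c (fl 0 b (fl 0 a RL)))).isEmpty && (fl 1 b (fl 1 a RL)).any fun r => r + r == a + b + c + d

private noncomputable def _root_.Cfsg.Agent.LsF.f6fbe99_0 : {f // @Cfsg.Agent.SB.Exc.W.dt = f} := ⟨_, by first | (delta Cfsg.Agent.SB.Exc.W.dt; rewrite [Cfsg.Agent.LsF.iadd_pat, Cfsg.Agent.LsF.imul_pat]; exact rfl) | exact rfl⟩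
private noncomputable def _root_.Cfsg.Agent.LsF.f6fbe99_1 : {f // @Cfsg.Agent.SB.Exc.W.co = f} := ⟨_, by first | (delta Cfsg.Agent.SB.Exc.W.co; rewrite [Cfsg.Agent.LsF.imul_pat, Cfsg.Agent.LsF.isub_pat]; exact rfl) | exact rfl⟩
private noncomputable def _root_.Cfsg.Agent.LsF.f6fbe99_2 : {f // @Cfsg.Agent.SB.Exc.W.ip = f} := ⟨_, by first | (delta Cfsg.Agent.SB.Exc.W.ip; rewrite [Cfsg.Agent.LsF.f6fbe99_0.2, Cfsg.Agent.LsF.f6fbe99_1.2]; exact rfl) | exact rfl⟩
private noncomputable def _root_.Cfsg.Agent.LsF.f6fbe99_3 : {f // @Cfsg.Agent.SB.Exc.W.fl = f} := ⟨_, by first | (delta Cfsg.Agent.SB.Exc.W.fl; rewrite [Cfsg.Agent.LsF.f6fbe99_2.2, Cfsg.Agent.LsF.ibeq_pat, Cfsg.Agent.LsF.filter_eq]; exact rfl) | exact rfl⟩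
private noncomputable def _root_.Cfsg.Agent.LsF.f6fbe99_4 : {f // @Cfsg.Agent.SB.Exc.W.chk1 = f} := ⟨_, by first | (delta Cfsg.Agent.SB.Exc.W.chk1; rewrite [Cfsg.Agent.LsF.f6fbe99_3.2, Cfsg.Agent.LsF.instIBEq_pat, Cfsg.Agent.LsF.and_eq, Cfsg.Agent.LsF.not_eq, Cfsg.Agent.LsF.all_eq, Cfsg.Agent.LsF.any_eq, Cfsg.Agent.LsF.isEmpty_eq, Cfsg.Agent.LsF.instIAdd_eq, Cfsg.Agent.LsF.instPBEq_eq]; exact rfl) | exact rfl⟩
theorem chk1_eq : chk1 = true := by ((try (rewrite [Cfsg.Agent.LsF.f6fbe99_4.2])); decide +kernel)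

/-- the data of a subsystem `3 A₂` -/
def ok2 (a b a₁ b₁ a₂ b₂ : T6) : Bool :=
  ip a₁ b₁ == -1 && ip a₂ b₂ == -1 && ip a₁ a₂ == 0 && ip a₁ b₂ == 0 && ip b₁ a₂ == 0 && ip b₁ b₂ == 0 &&
  ((fl 0 b (fl 0 a RL)).all fun x => x == a₁ || x == -a₁ || x == b₁ || x == -b₁ || x == a₁ + b₁ || x == -(a₁ + b₁) ||
    x == a₂ || x == -a₂ || x == b₂ || x == -b₂ || x == a₂ + b₂ || x == -(a₂ + b₂)) &&
  SL.all fun x => (3 : ℤ) • x == (2 * ip x a + ip x b) • a + (ip x a + 2 * ip x b) • b + (2 * ip x a₁ + ip x b₁) • a₁ +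
    (ip x a₁ + 2 * ip x b₁) • b₁ + (2 * ip x a₂ + ip x b₂) • a₂ + (ip x a₂ + 2 * ip x b₂) • b₂

/-- subsystems `A₂` -/
def chk2 : Bool := SL.all fun a => (fl (-1) a RL).all fun b => (fl 0 b (fl 0 a RL)).any fun a₁ =>
  (fl (-1) a₁ (fl 0 b (fl 0 a RL))).any fun b₁ => (fl 0 b₁ (fl 0 a₁ (fl 0 b (fl 0 a RL)))).any fun a₂ =>
    (fl (-1) a₂ (fl 0 b (fl 0 a RL))).any fun b₂ => ok2 a b a₁ b₁ a₂ b₂

private noncomputable def _root_.Cfsg.Agent.LsF.f6fbe99_5 : {f // @Cfsg.Agent.SB.Exc.W.ok2 = f} := ⟨_, by first | (delta Cfsg.Agent.SB.Exc.W.ok2; rewrite [Cfsg.Agent.LsF.f6fbe99_2.2, Cfsg.Agent.LsF.f6fbe99_3.2, Cfsg.Agent.LsF.iadd_pat, Cfsg.Agent.LsF.imul_pat, Cfsg.Agent.LsF.ineg_pat, Cfsg.Agent.LsF.ibeq_pat, Cfsg.Agent.LsF.instIBEq_pat, Cfsg.Agent.LsF.and_eq, Cfsg.Agent.LsF.or_eq, Cfsg.Agent.LsF.all_eq, Cfsg.Agent.LsF.instIAdd_eq, Cfsg.Agent.LsF.instINeg_eq, Cfsg.Agent.LsF.instPBEq_eq]; exact rfl) | exact rfl⟩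
private noncomputable def _root_.Cfsg.Agent.LsF.f6fbe99_6 : {f // @Cfsg.Agent.SB.Exc.W.chk2 = f} := ⟨_, by first | (delta Cfsg.Agent.SB.Exc.W.chk2; rewrite [Cfsg.Agent.LsF.f6fbe99_3.2, Cfsg.Agent.LsF.f6fbe99_5.2, Cfsg.Agent.LsF.ineg_pat, Cfsg.Agent.LsF.all_eq, Cfsg.Agent.LsF.any_eq]; exact rfl) | exact rfl⟩
theorem chk2_eq : chk2 = true := by ((try (rewrite [Cfsg.Agent.LsF.f6fbe99_6.2])); decide +kernel)

theorem vec_mem : ∀ s < 72, vt (vec chevE6 6 s) ∈ RL := by decide +kernel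

private noncomputable def _root_.Cfsg.Agent.LsF.f6fbe99_7 : {f // @Cfsg.Agent.ChevalleyStructure.RootVecTab.dig = f} := ⟨_, by first | (delta Cfsg.Agent.ChevalleyStructure.RootVecTab.dig; rewrite [Cfsg.Agent.LsF.nmul_pat]; exact rfl) | exact rfl⟩
private noncomputable def _root_.Cfsg.Agent.LsF.f6fbe99_8 : {f // @Cfsg.Agent.ChevalleyStructure.RootVecTab.packTab = f} := ⟨_, by first | (delta Cfsg.Agent.ChevalleyStructure.RootVecTab.packTab; rewrite [Cfsg.Agent.LsF.instDecEq_eq, Cfsg.Agent.LsF.ite_eq]; exact rfl) | exact rfl⟩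
private noncomputable def _root_.Cfsg.Agent.LsF.f6fbe99_9 : {f // @Cfsg.Agent.ChevalleyStructure.RootVecTab.code = f} := ⟨_, by first | (delta Cfsg.Agent.ChevalleyStructure.RootVecTab.code; rewrite [Cfsg.Agent.LsF.f6fbe99_8.2, Cfsg.Agent.LsF.nmul_pat, Cfsg.Agent.LsF.npow_pat]; exact rfl) | exact rfl⟩
private noncomputable def _root_.Cfsg.Agent.LsF.f6fbe99_10 : {f // @Cfsg.Agent.ChevalleyStructure.RootVec.rt = f} := ⟨_, by first | (delta Cfsg.Agent.ChevalleyStructure.RootVec.rt; rewrite [Cfsg.Agent.LsF.f6fbe99_7.2, Cfsg.Agent.LsF.f6fbe99_9.2, Cfsg.Agent.LsF.nsub_pat, Cfsg.Agent.LsF.isub_pat, Cfsg.Agent.LsF.icast_pat, Cfsg.Agent.LsF.decLt_eq, Cfsg.Agent.LsF.dAnd_eq, Cfsg.Agent.LsF.ite_eq]; exact rfl) | exact rfl⟩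
private noncomputable def _root_.Cfsg.Agent.LsF.f6fbe99_11 : {f // @Cfsg.Agent.Nodes.RGDChev.vec = f} := ⟨_, by first | (delta Cfsg.Agent.Nodes.RGDChev.vec; rewrite [Cfsg.Agent.LsF.f6fbe99_10.2]; exact rfl) | exact rfl⟩
theorem mem_vec : (RL.all fun x => (List.range 72).any fun s => vt (vec chevE6 6 s) == x) = true := by ((try (rewrite [Cfsg.Agent.LsF.f6fbe99_11.2, Cfsg.Agent.LsF.instIBEq_pat, Cfsg.Agent.LsF.all_eq, Cfsg.Agent.LsF.any_eq, Cfsg.Agent.LsF.range_eq, Cfsg.Agent.LsF.instPBEq_eq])); decide +kernel)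

theorem cartan_eq : ∀ i j : Fin 6, cartanOf chevE6 6 i j = (![![2, 0, -1, 0, 0, 0], ![0, 2, 0, -1, 0, 0],
    ![-1, 0, 2, -1, 0, 0], ![0, -1, -1, 2, -1, 0], ![0, 0, 0, -1, 2, -1], ![0, 0, 0, 0, -1, 2]] : Fin 6 → Fin 6 → ℤ) i j := by
  decide +kernel

theorem sr_mem : ∀ i : Fin 6, vt (sr i) ∈ SL := by decide +kernel

theorem tv_add (x y : T6) : tv (x + y) = tv x + tv y := by funext i; fin_cases i <;> rfl

theorem tv_neg (x : T6) : tv (-x) = -tv x := by funext i; fin_cases i <;> rfl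

theorem tv_smul (c : ℤ) (x : T6) : tv (c • x) = c • tv x := by funext i; fin_cases i <;> rfl

theorem ne4 : ∀ i j : Fin 6, CoxeterMatrix.E₆ i j ≠ 4 := fun i j => by
  fin_cases i <;> fin_cases j <;> decide

theorem ne6 : ∀ i j : Fin 6, CoxeterMatrix.E₆ i j ≠ 6 := fun i j => by
  fin_cases i <;> fin_cases j <;> decide

section Main

variable {W : Type*} [Group W] [Finite W] (hp : IsType chevE6 6 CoxeterMatrix.E₆) (cs : CoxeterSystem CoxeterMatrix.E₆ W)

theorem root_iff (x : T6) : IsRoot cs hp.isCartan (tv x) ↔ x ∈ RL := by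
  rw [isRoot_iff hp cs]
  constructor
  · rintro ⟨s, hs, h⟩
    have h1 := vec_mem s hs
    rwa [h] at h1
  · intro h
    obtain ⟨s, hs, h1⟩ := List.any_eq_true.1 (List.all_eq_true.1 mem_vec x h)
    exact ⟨s, List.mem_range.1 hs, by rw [← beq_iff_eq.1 h1, tv_vt]⟩

theorem cpr_tv (x : T6) {y : T6} (hy : y ∈ RL) : cpr cs hp.isCartan (tv x) (tv y) = ip x y := by
  rw [Nodes.SimplyLaced.cpr_eq_sum cs hp.isCartan ne4 ne6 _ ((root_iff hp cs y).2 hy)]
  simp only [pairing, cartan_eq, Fin.sum_univ_six, tv, ip, dt, co]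
  simp
  ring

theorem cpr_comm {x y : Fin 6 → ℤ} (hx : IsRoot cs hp.isCartan x) (hy : IsRoot cs hp.isCartan y) :
    cpr cs hp.isCartan x y = cpr cs hp.isCartan y x :=
  Nodes.SimplyLaced.cpr_symm cs hp.isCartan ne4 ne6 hx hy

theorem exists_tv (w : W) {b : Fin 6 → ℤ} (hb : IsRoot cs hp.isCartan b) :
    ∃ y ∈ RL, b = rep cs hp.isCartan w (tv y) :=
  ⟨vt (rep cs hp.isCartan w⁻¹ b), (root_iff hp cs _).1 (by rw [tv_vt]; exact hb.act _), by
    rw [tv_vt, rep_apply_inv]⟩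

theorem exists_sl {a : Fin 6 → ℤ} (ha : IsRoot cs hp.isCartan a) :
    ∃ (w : W), ∃ x ∈ SL, a = rep cs hp.isCartan w (tv x) := by
  obtain ⟨w, i, rfl⟩ := ha
  exact ⟨w, _, sr_mem i, by rw [tv_vt]⟩

theorem cpr_w (w : W) (x : T6) {y : T6} (hy : y ∈ RL) :
    cpr cs hp.isCartan (rep cs hp.isCartan w (tv x)) (rep cs hp.isCartan w (tv y)) = ip x y := by
  rw [cpr_rep cs _ w _ ((root_iff hp cs y).2 hy), cpr_tv hp cs x hy]

theorem root_w (w : W) {y : T6} (hy : y ∈ RL) : IsRoot cs hp.isCartan (rep cs hp.isCartan w (tv y)) :=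
  ((root_iff hp cs y).2 hy).act w

theorem chk1_at {a b c : T6} (ha : a ∈ SL) (hb : b ∈ RL) (hc : c ∈ RL) (hab : ip a b = 0) (hac : ip a c = 0)
    (hbc : ip b c = 0) : (∃ d ∈ RL, ip a d = 0 ∧ ip b d = 0 ∧ ip c d = 0) ∧
      ∀ d ∈ RL, ip a d = 0 → ip b d = 0 → ip c d = 0 → (∃ r ∈ RL, r + r = a + b + c + d) ∧
        ∀ e ∈ RL, ip a e = 0 → ip b e = 0 → ip c e = 0 → ip d e ≠ 0 := by
  have h1 := List.all_eq_true.1 (List.all_eq_true.1 (List.all_eq_true.1 chk1_eq a ha) b (mem_fl.2 ⟨hb, hab⟩)) c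
    (mem_fl.2 ⟨mem_fl.2 ⟨hc, hac⟩, hbc⟩)
  rw [Bool.and_eq_true, Bool.not_eq_true', List.isEmpty_eq_false_iff_exists_mem] at h1
  obtain ⟨⟨d, hd⟩, h2⟩ := h1
  simp only [mem_fl] at hd
  refine ⟨⟨d, hd.1.1.1, hd.1.1.2, hd.1.2, hd.2⟩, fun d hd h3 h4 h5 => ?_⟩
  have h6 := List.all_eq_true.1 h2 d (mem_fl.2 ⟨mem_fl.2 ⟨mem_fl.2 ⟨hd, h3⟩, h4⟩, h5⟩)
  rw [Bool.and_eq_true, List.isEmpty_iff, List.any_eq_true] at h6
  obtain ⟨h7, r, hr, h8⟩ := h6
  refine ⟨⟨r, (mem_fl.1 (mem_fl.1 hr).1).1, beq_iff_eq.1 h8⟩, fun e he e1 e2 e3 e4 => ?_⟩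
  have h9 : e ∈ fl 0 d (fl 0 c (fl 0 b (fl 0 a RL))) :=
    mem_fl.2 ⟨mem_fl.2 ⟨mem_fl.2 ⟨mem_fl.2 ⟨he, e1⟩, e2⟩, e3⟩, e4⟩
  rw [h7] at h9
  exact List.not_mem_nil h9

/-- three mutually orthogonal roots have a common orthogonal root -/
theorem three_orth {a b c : Fin 6 → ℤ} (ha : IsRoot cs hp.isCartan a) (hb : IsRoot cs hp.isCartan b)
    (hc : IsRoot cs hp.isCartan c) (hab : cpr cs hp.isCartan a b = 0) (hac : cpr cs hp.isCartan a c = 0)
    (hbc : cpr cs hp.isCartan b c = 0) : ∃ d, IsRoot cs hp.isCartan d ∧ cpr cs hp.isCartan a d = 0 ∧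
      cpr cs hp.isCartan b d = 0 ∧ cpr cs hp.isCartan c d = 0 := by
  obtain ⟨w, a, ha', rfl⟩ := exists_sl hp cs ha
  replace ha := ha'
  obtain ⟨b, hb', rfl⟩ := exists_tv hp cs w hb
  replace hb := hb'
  obtain ⟨c, hc', rfl⟩ := exists_tv hp cs w hc
  replace hc := hc'
  rw [cpr_w hp cs w _ hb] at hab
  rw [cpr_w hp cs w _ hc] at hac hbc
  obtain ⟨d, hd, h1, h2, h3⟩ := (chk1_at ha hb hc hab hac hbc).1
  exact ⟨_, root_w hp cs w hd, by rw [cpr_w hp cs w _ hd, h1], by rw [cpr_w hp cs w _ hd, h2],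
    by rw [cpr_w hp cs w _ hd, h3]⟩

/-- half the sum of four mutually orthogonal roots is a root -/
theorem four_orth {a b c d : Fin 6 → ℤ} (ha : IsRoot cs hp.isCartan a) (hb : IsRoot cs hp.isCartan b)
    (hc : IsRoot cs hp.isCartan c) (hd : IsRoot cs hp.isCartan d) (hab : cpr cs hp.isCartan a b = 0)
    (hac : cpr cs hp.isCartan a c = 0) (had : cpr cs hp.isCartan a d = 0) (hbc : cpr cs hp.isCartan b c = 0)
    (hbd : cpr cs hp.isCartan b d = 0) (hcd : cpr cs hp.isCartan c d = 0) :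
    ∃ r, IsRoot cs hp.isCartan r ∧ r + r = a + b + c + d := by
  obtain ⟨w, a, ha', rfl⟩ := exists_sl hp cs ha
  replace ha := ha'
  obtain ⟨b, hb', rfl⟩ := exists_tv hp cs w hb
  replace hb := hb'
  obtain ⟨c, hc', rfl⟩ := exists_tv hp cs w hc
  replace hc := hc'
  obtain ⟨d, hd', rfl⟩ := exists_tv hp cs w hd
  replace hd := hd'
  rw [cpr_w hp cs w _ hb] at hab
  rw [cpr_w hp cs w _ hc] at hac hbc
  rw [cpr_w hp cs w _ hd] at had hbd hcd
  obtain ⟨r, hr, h1⟩ := ((chk1_at ha hb hc hab hac hbc).2 d hd had hbd hcd).1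
  refine ⟨_, root_w hp cs w hr, ?_⟩
  simp only [← map_add, ← tv_add, h1]

/-- there are no five mutually orthogonal roots -/
theorem five_orth {a b c d e : Fin 6 → ℤ} (ha : IsRoot cs hp.isCartan a) (hb : IsRoot cs hp.isCartan b)
    (hc : IsRoot cs hp.isCartan c) (hd : IsRoot cs hp.isCartan d) (he : IsRoot cs hp.isCartan e)
    (hab : cpr cs hp.isCartan a b = 0) (hac : cpr cs hp.isCartan a c = 0) (had : cpr cs hp.isCartan a d = 0)
    (hae : cpr cs hp.isCartan a e = 0) (hbc : cpr cs hp.isCartan b c = 0) (hbd : cpr cs hp.isCartan b d = 0)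
    (hbe : cpr cs hp.isCartan b e = 0) (hcd : cpr cs hp.isCartan c d = 0) (hce : cpr cs hp.isCartan c e = 0)
    (hde : cpr cs hp.isCartan d e = 0) : False := by
  obtain ⟨w, a, ha', rfl⟩ := exists_sl hp cs ha
  replace ha := ha'
  obtain ⟨b, hb', rfl⟩ := exists_tv hp cs w hb
  replace hb := hb'
  obtain ⟨c, hc', rfl⟩ := exists_tv hp cs w hc
  replace hc := hc'
  obtain ⟨d, hd', rfl⟩ := exists_tv hp cs w hd
  replace hd := hd'
  obtain ⟨e, he', rfl⟩ := exists_tv hp cs w he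
  replace he := he'
  rw [cpr_w hp cs w _ hb] at hab
  rw [cpr_w hp cs w _ hc] at hac hbc
  rw [cpr_w hp cs w _ hd] at had hbd hcd
  rw [cpr_w hp cs w _ he] at hae hbe hce hde
  exact ((chk1_at ha hb hc hab hac hbc).2 d hd had hbd hcd).2 e he hae hbe hce hde

/-- the roots `a, b; a₁, b₁; a₂, b₂` form a base of a subsystem `3 A₂` -/
structure A2T (a b a₁ b₁ a₂ b₂ : Fin 6 → ℤ) : Prop where
  ra₁ : IsRoot cs hp.isCartan a₁
  rb₁ : IsRoot cs hp.isCartan b₁
  ra₂ : IsRoot cs hp.isCartan a₂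
  rb₂ : IsRoot cs hp.isCartan b₂
  aa₁ : cpr cs hp.isCartan a a₁ = 0
  ab₁ : cpr cs hp.isCartan a b₁ = 0
  aa₂ : cpr cs hp.isCartan a a₂ = 0
  ab₂ : cpr cs hp.isCartan a b₂ = 0
  ba₁ : cpr cs hp.isCartan b a₁ = 0
  bb₁ : cpr cs hp.isCartan b b₁ = 0
  ba₂ : cpr cs hp.isCartan b a₂ = 0
  bb₂ : cpr cs hp.isCartan b b₂ = 0
  a₁b₁ : cpr cs hp.isCartan a₁ b₁ = -1
  a₂b₂ : cpr cs hp.isCartan a₂ b₂ = -1
  a₁a₂ : cpr cs hp.isCartan a₁ a₂ = 0
  a₁b₂ : cpr cs hp.isCartan a₁ b₂ = 0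
  b₁a₂ : cpr cs hp.isCartan b₁ a₂ = 0
  b₁b₂ : cpr cs hp.isCartan b₁ b₂ = 0
  perp : ∀ x, IsRoot cs hp.isCartan x → cpr cs hp.isCartan a x = 0 → cpr cs hp.isCartan b x = 0 →
    (x = a₁ ∨ x = -a₁ ∨ x = b₁ ∨ x = -b₁ ∨ x = a₁ + b₁ ∨ x = -(a₁ + b₁)) ∨
      (x = a₂ ∨ x = -a₂ ∨ x = b₂ ∨ x = -b₂ ∨ x = a₂ + b₂ ∨ x = -(a₂ + b₂))
  span : ∀ x : Fin 6 → ℤ, (3 : ℤ) • x ∈ Submodule.span ℤ {a, b, a₁, b₁, a₂, b₂}

/-- the roots orthogonal to a subsystem `A₂` -/
theorem a2_triple {a b : Fin 6 → ℤ} (ha : IsRoot cs hp.isCartan a) (hb : IsRoot cs hp.isCartan b)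
    (hab : cpr cs hp.isCartan a b = -1) : ∃ a₁ b₁ a₂ b₂, A2T hp cs a b a₁ b₁ a₂ b₂ := by
  obtain ⟨w, a, ha', rfl⟩ := exists_sl hp cs ha
  replace ha := ha'
  obtain ⟨b, hb', rfl⟩ := exists_tv hp cs w hb
  replace hb := hb'
  rw [cpr_w hp cs w _ hb] at hab
  have h1 := List.all_eq_true.1 (List.all_eq_true.1 chk2_eq a ha) b (mem_fl.2 ⟨hb, hab⟩)
  simp only [List.any_eq_true, mem_fl] at h1
  obtain ⟨a₁, ⟨⟨r1, p1⟩, q1⟩, b₁, ⟨⟨⟨r2, p2⟩, q2⟩, -⟩, a₂, ⟨⟨⟨⟨r3, p3⟩, q3⟩, -⟩, -⟩, b₂, ⟨⟨⟨r4, p4⟩, q4⟩, -⟩, h2⟩ := h1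
  simp only [ok2, Bool.and_eq_true, beq_iff_eq, List.all_eq_true, Bool.or_eq_true, mem_fl] at h2
  obtain ⟨⟨⟨⟨⟨⟨⟨g1, g2⟩, g3⟩, g4⟩, g5⟩, g6⟩, g7⟩, g8⟩ := h2
  refine ⟨_, _, _, _, root_w hp cs w r1, root_w hp cs w r2, root_w hp cs w r3, root_w hp cs w r4,
    by rw [cpr_w hp cs w _ r1, p1], by rw [cpr_w hp cs w _ r2, p2], by rw [cpr_w hp cs w _ r3, p3],
    by rw [cpr_w hp cs w _ r4, p4], by rw [cpr_w hp cs w _ r1, q1], by rw [cpr_w hp cs w _ r2, q2],
    by rw [cpr_w hp cs w _ r3, q3], by rw [cpr_w hp cs w _ r4, q4], by rw [cpr_w hp cs w _ r2, g1],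
    by rw [cpr_w hp cs w _ r4, g2], by rw [cpr_w hp cs w _ r3, g3], by rw [cpr_w hp cs w _ r4, g4],
    by rw [cpr_w hp cs w _ r3, g5], by rw [cpr_w hp cs w _ r4, g6], fun x hx x1 x2 => ?_, fun x => ?_⟩
  · obtain ⟨x, hx', rfl⟩ := exists_tv hp cs w hx
    replace hx := hx'
    rw [cpr_w hp cs w _ hx] at x1 x2
    simp only [← map_add, ← map_neg, ← tv_add, ← tv_neg]
    rcases g7 x ⟨⟨hx, x1⟩, x2⟩ with (((((((((((h | h) | h) | h) | h) | h) | h) | h) | h) | h) | h) | h) <;> simp only [h] <;>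
      simp only [true_or, or_true]
  · have key : ∀ y ∈ SL, (3 : ℤ) • rep cs hp.isCartan w (tv y) ∈ Submodule.span ℤ {rep cs hp.isCartan w (tv a),
        rep cs hp.isCartan w (tv b), rep cs hp.isCartan w (tv a₁), rep cs hp.isCartan w (tv b₁),
        rep cs hp.isCartan w (tv a₂), rep cs hp.isCartan w (tv b₂)} := by
      intro y hy
      rw [← map_smul, ← tv_smul, g8 y hy]
      simp only [tv_add, tv_smul, map_add, map_smul]
      refine add_mem (add_mem (add_mem (add_mem (add_mem ?_ ?_) ?_) ?_) ?_) ?_ <;>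
        exact Submodule.smul_mem _ _ (Submodule.subset_span (by simp))
    rw [← rep_apply_inv cs hp.isCartan w x, Nodes.SimplyLaced.eq_sum_sr (rep cs hp.isCartan w⁻¹ x), map_sum,
      Finset.smul_sum]
    refine Submodule.sum_mem _ fun i _ => ?_
    rw [map_smul, smul_comm, ← tv_vt (sr i)]
    exact Submodule.smul_mem _ _ (key _ (sr_mem i))

variable {hp cs} in
/-- an additive map fixing the six roots is the identity -/
theorem A2T.fix {a b a₁ b₁ a₂ b₂ : Fin 6 → ℤ} (h : A2T hp cs a b a₁ b₁ a₂ b₂) (f : (Fin 6 → ℤ) →+ (Fin 6 → ℤ))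
    (h1 : f a = a) (h2 : f b = b) (h3 : f a₁ = a₁) (h4 : f b₁ = b₁) (h5 : f a₂ = a₂) (h6 : f b₂ = b₂) (x : Fin 6 → ℤ) :
    f x = x := by
  have key : ∀ y ∈ Submodule.span ℤ {a, b, a₁, b₁, a₂, b₂}, f y = y := by
    intro y hy
    induction hy using Submodule.span_induction with
    | mem y hy => rcases hy with rfl | rfl | rfl | rfl | rfl | rfl <;> assumption
    | zero => exact map_zero f
    | add y z _ _ hy hz => rw [map_add, hy, hz]
    | smul c y _ hy => rw [map_zsmul, hy]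
  have h7 := key _ (h.span x)
  rw [map_zsmul] at h7
  exact smul_right_injective _ (by norm_num : (3 : ℤ) ≠ 0) h7

end Main

end Cfsg.Agent.SB.Exc.W

private theorem dce_e339681ba133 : _root_.True := by
  try have : _root_.True := by simp only [_root_.Cfsg.Agent.SB.Exc.W.tv.eq_1]
  try have : _root_.True := by simp only [_root_.Cfsg.Agent.SB.Exc.W.dt.eq_1]
  try have : _root_.True := by simp only [_root_.Cfsg.Agent.SB.Exc.W.fl.eq_1]
  try have : _root_.True := by simp only [_root_.Cfsg.Agent.SB.Exc.W.ip.eq_1]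
  try have : _root_.True := by simp only [_root_.Cfsg.Agent.SB.Exc.W.co.eq_1]
  try have : _root_.True := by simp only [_root_.Cfsg.Agent.SB.Exc.W.ok2.eq_1]
  exact _root_.True.intro
end
end
end
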